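import Cfsg.Agent.Lib.Helper12.TCG.Fi24x306936.Main
import Cfsg.Agent.Lib.Helper12.TCG.Fi24Sub

/-!
The permutation representation of the presented Fischer group Fi24 on the 306936 cosets of the subgroup
generated by all generators but `k`, and the orbits of that subgroup (helper12).
-/

set_option autoImplicit false
set_option maxRecDepth 100000

namespace Cfsg.Agent.Lib.Helper12.TCG.Fi24x306936

open Cfsg.Spor Cfsg.Agent.Lib.Helper12.TC Cfsg.Agent.Lib.Helper12.TCG Cfsg.Agent.Lib.Helper12.TCG.Fi24Pres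

theorem hH : Hs = Subgroup.closure {γ | ∃ w ∈ sw, γ = wprod v w} := by
  unfold Hs
  rw [MonoidHom.map_closure]
  congr 1
  ext γ
  constructor
  · rintro ⟨x, hx, rfl⟩
    rcases hx with rfl | rfl | rfl | rfl | rfl | rfl | rfl | rfl | rfl | rfl | rfl
    · exact ⟨[2], by decide, by rw [wprod_cons, wprod_nil, mul_one]; rfl⟩
    · exact ⟨[3], by decide, by rw [wprod_cons, wprod_nil, mul_one]; rfl⟩
    · exact ⟨[4], by decide, by rw [wprod_cons, wprod_nil, mul_one]; rfl⟩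
    · exact ⟨[5], by decide, by rw [wprod_cons, wprod_nil, mul_one]; rfl⟩
    · exact ⟨[6], by decide, by rw [wprod_cons, wprod_nil, mul_one]; rfl⟩
    · exact ⟨[7], by decide, by rw [wprod_cons, wprod_nil, mul_one]; rfl⟩
    · exact ⟨[8], by decide, by rw [wprod_cons, wprod_nil, mul_one]; rfl⟩
    · exact ⟨[10], by decide, by rw [wprod_cons, wprod_nil, mul_one]; rfl⟩
    · exact ⟨[11], by decide, by rw [wprod_cons, wprod_nil, mul_one]; rfl⟩
    · exact ⟨[9], by decide, by rw [wprod_cons, wprod_nil, mul_one]; rfl⟩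
    · exact ⟨[0], by decide, by rw [wprod_cons, wprod_nil, mul_one]; rfl⟩
  · rintro ⟨w, hw, rfl⟩
    simp only [sw, List.mem_cons, List.not_mem_nil, or_false] at hw
    rcases hw with rfl | rfl | rfl | rfl | rfl | rfl | rfl | rfl | rfl | rfl | rfl
    · exact ⟨Fi24.a, by simp, by rw [wprod_cons, wprod_nil, mul_one]; rfl⟩
    · exact ⟨Fi24.b, by simp, by rw [wprod_cons, wprod_nil, mul_one]; rfl⟩
    · exact ⟨Fi24.c, by simp, by rw [wprod_cons, wprod_nil, mul_one]; rfl⟩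
    · exact ⟨Fi24.d, by simp, by rw [wprod_cons, wprod_nil, mul_one]; rfl⟩
    · exact ⟨Fi24.e, by simp, by rw [wprod_cons, wprod_nil, mul_one]; rfl⟩
    · exact ⟨Fi24.f, by simp, by rw [wprod_cons, wprod_nil, mul_one]; rfl⟩
    · exact ⟨Fi24.g, by simp, by rw [wprod_cons, wprod_nil, mul_one]; rfl⟩
    · exact ⟨Fi24.h, by simp, by rw [wprod_cons, wprod_nil, mul_one]; rfl⟩
    · exact ⟨Fi24.i, by simp, by rw [wprod_cons, wprod_nil, mul_one]; rfl⟩
    · exact ⟨Fi24.j, by simp, by rw [wprod_cons, wprod_nil, mul_one]; rfl⟩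
    · exact ⟨Fi24.l, by simp, by rw [wprod_cons, wprod_nil, mul_one]; rfl⟩

theorem hN0 : 0 < cN := by decide

/-- the permutation representation on the cosets of the subgroup -/
theorem mainRho : ∃ ρ : Fi24 →* Equiv.Perm (Fin cN),
    (∀ x < 14, ∀ i : Fin cN, ((ρ (v x) i : Fin cN) : ℕ) = TT x i) ∧ Hs.index = cN ∧
    ∃ Φ : Fi24 ⧸ Hs ≃ Fin cN, ∀ γ : Fi24, Φ (γ : Fi24 ⧸ Hs) = ρ γ ⟨0, hN0⟩ :=
  main_rho v 14 Fi24Pres.cIV (by decide) hiv hvinv hvge hgen baseL hbase Fi24Pres.hlet sw Hs hH F RW finrecs TT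
    rotW chunks cD cK cR0 cR cN hdefs hchunks hcover hrelc hperm (fun f => hlift f) hrels hsub htrans hfin
    hlen hN0

/-- the permutation representation -/
noncomputable def rho : Fi24 →* Equiv.Perm (Fin cN) := mainRho.choose

theorem rho_gen : ∀ x < 14, ∀ i : Fin cN, ((rho (v x) i : Fin cN) : ℕ) = TT x i :=
  mainRho.choose_spec.1

theorem rho_index : Hs.index = cN := mainRho.choose_spec.2.1

theorem rho_equiv : ∃ Φ : Fi24 ⧸ Hs ≃ Fin cN, ∀ γ : Fi24, Φ (γ : Fi24 ⧸ Hs) = rho γ ⟨0, hN0⟩ :=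
  mainRho.choose_spec.2.2

end Cfsg.Agent.Lib.Helper12.TCG.Fi24x306936
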