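import Cfsg.Agent.Lib.Helper12.TCG.Fi24x306936.Fin0
import Cfsg.Agent.Lib.Helper12.TCG.Fi24x306936.Fin1
import Cfsg.Agent.Lib.Helper12.TCG.Fi24x306936.Fin2
import Cfsg.Agent.Lib.Helper12.TCG.Fi24x306936.Fin3
import Cfsg.Agent.Lib.Helper12.TCG.Fi24x306936.Fin4
import Cfsg.Agent.Lib.Helper12.TCG.Fi24x306936.Fin5
import Cfsg.Agent.Lib.Helper12.TCG.Fi24x306936.Fin6
import Cfsg.Agent.Lib.Helper12.TCG.Fi24x306936.Fin7
import Cfsg.Agent.Lib.Helper12.TCG.Fi24x306936.Fin8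
import Cfsg.Agent.Lib.Helper12.TCG.Fi24x306936.Fin9
import Cfsg.Agent.Lib.Helper12.TCG.Fi24x306936.Fin10
import Cfsg.Agent.Lib.Helper12.TCG.Fi24x306936.Fin11
import Cfsg.Agent.Lib.Helper12.TCG.Fi24x306936.Fin12
import Cfsg.Agent.Lib.Helper12.TCG.Fi24x306936.Fin13
import Cfsg.Agent.Lib.Helper12.TCG.Fi24x306936.Fin14
import Cfsg.Agent.Lib.Helper12.TCG.Fi24x306936.Fin15
import Cfsg.Agent.Lib.Helper12.TCG.Fi24x306936.Fin16
import Cfsg.Agent.Lib.Helper12.TCG.Fi24x306936.Fin17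
import Cfsg.Agent.Lib.Helper12.TCG.Fi24x306936.Fin18
import Cfsg.Agent.Lib.Helper12.TCG.Fi24x306936.Fin19
import Cfsg.Agent.Lib.Helper12.TCG.Fi24x306936.Fin20
import Cfsg.Agent.Lib.Helper12.TCG.Fi24x306936.Fin21
import Cfsg.Agent.Lib.Helper12.TCG.Fi24x306936.Fin22
import Cfsg.Agent.Lib.Helper12.TCG.Fi24x306936.Fin23
import Cfsg.Agent.Lib.Helper12.TCG.Fi24x306936.Fin24
import Cfsg.Agent.Lib.Helper12.TCG.Fi24x306936.Fin25
import Cfsg.Agent.Lib.Helper12.TCG.Fi24x306936.Fin26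
import Cfsg.Agent.Lib.Helper12.TCG.Fi24x306936.Fin27
import Cfsg.Agent.Lib.Helper12.TCG.Fi24x306936.Fin28
import Cfsg.Agent.Lib.Helper12.TCG.Fi24x306936.Fin29
import Cfsg.Agent.Lib.Helper12.TCG.Fi24x306936.Fin30
import Cfsg.Agent.Lib.Helper12.TCG.Fi24x306936.Fin31
import Cfsg.Agent.Lib.Helper12.TCG.Fi24x306936.Fin32
import Cfsg.Agent.Lib.Helper12.TCG.Fi24x306936.Fin33
import Cfsg.Agent.Lib.Helper12.TCG.Fi24x306936.Fin34
import Cfsg.Agent.Lib.Helper12.TCG.Fi24x306936.Fin35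
import Cfsg.Agent.Lib.Helper12.TCG.Fi24x306936.Fin36
import Cfsg.Agent.Lib.Helper12.TCG.Fi24x306936.Fin37
import Cfsg.Agent.Lib.Helper12.TCG.Fi24x306936.Fin38
import Cfsg.Agent.Lib.Helper12.TCG.Fi24x306936.Fin39
import Cfsg.Agent.Lib.Helper12.TCG.Fi24x306936.Fin40
import Cfsg.Agent.Lib.Helper12.TCG.Fi24x306936.Fin41
import Cfsg.Agent.Lib.Helper12.TCG.Fi24x306936.Fin42
import Cfsg.Agent.Lib.Helper12.TCG.Fi24x306936.Fin43
import Cfsg.Agent.Lib.Helper12.TCG.Fi24x306936.Fin44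
import Cfsg.Agent.Lib.Helper12.TCG.Fi24x306936.Fin45
import Cfsg.Agent.Lib.Helper12.TCG.Fi24x306936.Fin46
import Cfsg.Agent.Lib.Helper12.TCG.Fi24x306936.Fin47
import Cfsg.Agent.Lib.Helper12.TCG.Fi24x306936.Fin48
import Cfsg.Agent.Lib.Helper12.TCG.Fi24x306936.Fin49
import Cfsg.Agent.Lib.Helper12.TCG.Fi24x306936.Fin50
import Cfsg.Agent.Lib.Helper12.TCG.Fi24x306936.Fin51
import Cfsg.Agent.Lib.Helper12.TCG.Fi24x306936.Fin52
import Cfsg.Agent.Lib.Helper12.TCG.Fi24x306936.Fin53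
import Cfsg.Agent.Lib.Helper12.TCG.Fi24x306936.Fin54
import Cfsg.Agent.Lib.Helper12.TCG.Fi24x306936.Fin55
import Cfsg.Agent.Lib.Helper12.TCG.Fi24x306936.Fin56
import Cfsg.Agent.Lib.Helper12.TCG.Fi24x306936.Fin57
import Cfsg.Agent.Lib.Helper12.TCG.Fi24x306936.Fin58
import Cfsg.Agent.Lib.Helper12.TCG.Fi24x306936.Fin59
import Cfsg.Agent.Lib.Helper12.TCG.Fi24x306936.Fin60
import Cfsg.Agent.Lib.Helper12.TCG.Fi24x306936.Fin61
import Cfsg.Agent.Lib.Helper12.TCG.Fi24x306936.Fin62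
import Cfsg.Agent.Lib.Helper12.TCG.Fi24x306936.Fin63
import Cfsg.Agent.Lib.Helper12.TCG.Fi24x306936.Fin64
import Cfsg.Agent.Lib.Helper12.TCG.Fi24x306936.Fin65
import Cfsg.Agent.Lib.Helper12.TCG.Fi24x306936.Fin66
import Cfsg.Agent.Lib.Helper12.TCG.Fi24x306936.Fin67
import Cfsg.Agent.Lib.Helper12.TCG.Fi24x306936.Fin68
import Cfsg.Agent.Lib.Helper12.TCG.Fi24x306936.Fin69
import Cfsg.Agent.Lib.Helper12.TCG.Fi24x306936.Fin70
import Cfsg.Agent.Lib.Helper12.TCG.Fi24x306936.Fin71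
import Cfsg.Agent.Lib.Helper12.TCG.Fi24x306936.Fin72
import Cfsg.Agent.Lib.Helper12.TCG.Fi24x306936.Fin73
import Cfsg.Agent.Lib.Helper12.TCG.Fi24x306936.Fin74
import Cfsg.Agent.Lib.Helper12.TCG.Fi24Pres

/-! the final table for Fi24x306936 (generated, helper12) -/

set_option autoImplicit false
set_option maxRecDepth 100000
set_option linter.unusedSimpArgs false
set_option Elab.async false

namespace Cfsg.Agent.Lib.Helper12.TCG.Fi24x306936

open Cfsg.Agent.Lib.Helper12.TC Cfsg.Agent.Lib.Helper12.TCG Cfsg.Agent.Lib.Helper12.TCG.Fi24Pres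

theorem hdefs_0 : defsPartK F 0 16384 = true := by decide +kernel

theorem hdefs_1 : defsPartK F 16384 16384 = true := by decide +kernel

theorem hdefs_2 : defsPartK F 32768 16384 = true := by decide +kernel

theorem hdefs_3 : defsPartK F 49152 16384 = true := by decide +kernel

theorem hdefs_4 : defsPartK F 65536 16384 = true := by decide +kernel

theorem hdefs_5 : defsPartK F 81920 16384 = true := by decide +kernel

theorem hdefs_6 : defsPartK F 98304 16384 = true := by decide +kernel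

theorem hdefs_7 : defsPartK F 114688 16384 = true := by decide +kernel

theorem hdefs_8 : defsPartK F 131072 16384 = true := by decide +kernel

theorem hdefs_9 : defsPartK F 147456 16384 = true := by decide +kernel

theorem hdefs_10 : defsPartK F 163840 16384 = true := by decide +kernel

theorem hdefs_11 : defsPartK F 180224 16384 = true := by decide +kernel

theorem hdefs_12 : defsPartK F 196608 16384 = true := by decide +kernel

theorem hdefs_13 : defsPartK F 212992 16384 = true := by decide +kernel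

theorem hdefs_14 : defsPartK F 229376 16384 = true := by decide +kernel

theorem hdefs_15 : defsPartK F 245760 16384 = true := by decide +kernel

theorem hdefs_16 : defsPartK F 262144 16384 = true := by decide +kernel

theorem hdefs_17 : defsPartK F 278528 16384 = true := by decide +kernel

theorem hdefs_18 : defsPartK F 294912 16384 = true := by decide +kernel

theorem hdefs_19 : defsPartK F 311296 16384 = true := by decide +kernel

theorem hdefs_20 : defsPartK F 327680 16384 = true := by decide +kernel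

theorem hdefs_21 : defsPartK F 344064 16384 = true := by decide +kernel

theorem hdefs_22 : defsPartK F 360448 6485 = true := by decide +kernel

theorem hdefs : defsK F cD = true :=
  defsK_of_OK (defsOK_step hdefs_22 rfl
    (defsOK_step hdefs_21 rfl
    (defsOK_step hdefs_20 rfl
    (defsOK_step hdefs_19 rfl
    (defsOK_step hdefs_18 rfl
    (defsOK_step hdefs_17 rfl
    (defsOK_step hdefs_16 rfl
    (defsOK_step hdefs_15 rfl
    (defsOK_step hdefs_14 rfl
    (defsOK_step hdefs_13 rfl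
    (defsOK_step hdefs_12 rfl
    (defsOK_step hdefs_11 rfl
    (defsOK_step hdefs_10 rfl
    (defsOK_step hdefs_9 rfl
    (defsOK_step hdefs_8 rfl
    (defsOK_step hdefs_7 rfl
    (defsOK_step hdefs_6 rfl
    (defsOK_step hdefs_5 rfl
    (defsOK_step hdefs_4 rfl
    (defsOK_step hdefs_3 rfl
    (defsOK_step hdefs_2 rfl
    (defsOK_step hdefs_1 rfl
    (defsOK_step hdefs_0 rfl
    (defsOK_start F))))))))))))))))))))))))

theorem beq_chain {x A B : ℕ} (h1 : Nat.beq x A = true) (h2 : Nat.beq A B = true) :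
    Nat.beq x B = true := by
  rw [Nat.eq_of_beq_eq_true h1]
  exact h2

theorem hlive' : Nat.beq (liveK (fr0 ++ (fr1 ++ (fr2 ++ (fr3 ++ (fr4 ++ (fr5 ++ (fr6 ++ (fr7 ++ (fr8 ++ (fr9 ++ (fr10 ++ (fr11 ++ (fr12 ++ (fr13 ++ (fr14 ++ (fr15 ++ (fr16 ++ (fr17 ++ (fr18 ++ (fr19 ++ (fr20 ++ (fr21 ++ (fr22 ++ (fr23 ++ (fr24 ++ (fr25 ++ (fr26 ++ (fr27 ++ (fr28 ++ (fr29 ++ (fr30 ++ (fr31 ++ (fr32 ++ (fr33 ++ (fr34 ++ (fr35 ++ (fr36 ++ (fr37 ++ (fr38 ++ (fr39 ++ (fr40 ++ (fr41 ++ (fr42 ++ (fr43 ++ (fr44 ++ (fr45 ++ (fr46 ++ (fr47 ++ (fr48 ++ (fr49 ++ (fr50 ++ (fr51 ++ (fr52 ++ (fr53 ++ (fr54 ++ (fr55 ++ (fr56 ++ (fr57 ++ (fr58 ++ (fr59 ++ (fr60 ++ (fr61 ++ (fr62 ++ (fr63 ++ (fr64 ++ (fr65 ++ (fr66 ++ (fr67 ++ (fr68 ++ (fr69 ++ (fr70 ++ (fr71 ++ (fr72 ++ (fr73 ++ (fr74)))))))))))))))))))))))))))))))))))))))))))))))))))))))))))))))))))))))))))) (Nat.lor LIVE0 (Nat.lor LIVE1 (Nat.lor LIVE2 (Nat.lor LIVE3 (Nat.lor LIVE4 (Nat.lor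 LIVE5 (Nat.lor LIVE6 (Nat.lor LIVE7 (Nat.lor LIVE8 (Nat.lor LIVE9 (Nat.lor LIVE10 (Nat.lor LIVE11 (Nat.lor LIVE12 (Nat.lor LIVE13 (Nat.lor LIVE14 (Nat.lor LIVE15 (Nat.lor LIVE16 (Nat.lor LIVE17 (Nat.lor LIVE18 (Nat.lor LIVE19 (Nat.lor LIVE20 (Nat.lor LIVE21 (Nat.lor LIVE22 (Nat.lor LIVE23 (Nat.lor LIVE24 (Nat.lor LIVE25 (Nat.lor LIVE26 (Nat.lor LIVE27 (Nat.lor LIVE28 (Nat.lor LIVE29 (Nat.lor LIVE30 (Nat.lor LIVE31 (Nat.lor LIVE32 (Nat.lor LIVE33 (Nat.lor LIVE34 (Nat.lor LIVE35 (Nat.lor LIVE36 (Nat.lor LIVE37 (Nat.lor LIVE38 (Nat.lor LIVE39 (Nat.lor LIVE40 (Nat.lor LIVE41 (Nat.lor LIVE42 (Nat.lor LIVE43 (Nat.lor LIVE44 (Nat.lor LIVE45 (Nat.lor LIVE46 (Nat.lor LIVE47 (Nat.lor LIVE48 (Nat.lor LIVE49 (Nat.lor LIVE50 (Nat.lor LIVE51 (Nat.lor LIVE52 (Nat.lor LIVE53 (Nat.lor LIVE54 (Nat.lor LIVE55 (Nat.lor LIVE56 (Nat.lor LIVE57 (Nat.lor LIVE58 (Nat.lor LIVE59 (Nat.lor LIVE60 (Nat.lor LIVE61 (Nat.lor LIVE62 (Nat.lor LIVE63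 (Nat.lor LIVE64 (Nat.lor LIVE65 (Nat.lor LIVE66 (Nat.lor LIVE67 (Nat.lor LIVE68 (Nat.lor LIVE69 (Nat.lor LIVE70 (Nat.lor LIVE71 (Nat.lor LIVE72 (Nat.lor LIVE73 (LIVE74))))))))))))))))))))))))))))))))))))))))))))))))))))))))))))))))))))))))))) = true :=
  (liveK_append_beq hlive_0 (liveK_append_beq hlive_1 (liveK_append_beq hlive_2 (liveK_append_beq hlive_3 (liveK_append_beq hlive_4 (liveK_append_beq hlive_5 (liveK_append_beq hlive_6 (liveK_append_beq hlive_7 (liveK_append_beq hlive_8 (liveK_append_beq hlive_9 (liveK_append_beq hlive_10 (liveK_append_beq hlive_11 (liveK_append_beq hlive_12 (liveK_append_beq hlive_13 (liveK_append_beq hlive_14 (liveK_append_beq hlive_15 (liveK_append_beq hlive_16 (liveK_append_beq hlive_17 (liveK_append_beq hlive_18 (liveK_append_beq hlive_19 (liveK_append_beq hlive_20 (liveK_append_beq hlive_21 (liveK_append_beq hlive_22 (liveK_append_beq hlive_23 (liveK_append_beq hlive_24 (liveK_append_beq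 hlive_25 (liveK_append_beq hlive_26 (liveK_append_beq hlive_27 (liveK_append_beq hlive_28 (liveK_append_beq hlive_29 (liveK_append_beq hlive_30 (liveK_append_beq hlive_31 (liveK_append_beq hlive_32 (liveK_append_beq hlive_33 (liveK_append_beq hlive_34 (liveK_append_beq hlive_35 (liveK_append_beq hlive_36 (liveK_append_beq hlive_37 (liveK_append_beq hlive_38 (liveK_append_beq hlive_39 (liveK_append_beq hlive_40 (liveK_append_beq hlive_41 (liveK_append_beq hlive_42 (liveK_append_beq hlive_43 (liveK_append_beq hlive_44 (liveK_append_beq hlive_45 (liveK_append_beq hlive_46 (liveK_append_beq hlive_47 (liveK_append_beq hlive_48 (liveK_append_beq hlive_49 (liveK_append_beq hlive_50 (liveK_append_beq hlive_51 (liveK_append_beq hlive_52 (liveK_append_beq hlive_53 (liveK_append_beq hlive_54 (liveK_append_beq hlive_55 (liveK_append_beq hlive_56 (liveK_append_beq hlive_57 (liveK_append_beq hlive_58 (liveK_append_beq hlive_59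 (liveK_append_beq hlive_60 (liveK_append_beq hlive_61 (liveK_append_beq hlive_62 (liveK_append_beq hlive_63 (liveK_append_beq hlive_64 (liveK_append_beq hlive_65 (liveK_append_beq hlive_66 (liveK_append_beq hlive_67 (liveK_append_beq hlive_68 (liveK_append_beq hlive_69 (liveK_append_beq hlive_70 (liveK_append_beq hlive_71 (liveK_append_beq hlive_72 (liveK_append_beq hlive_73 hlive_74))))))))))))))))))))))))))))))))))))))))))))))))))))))))))))))))))))))))))

theorem hliveq : Nat.beq (Nat.lor LIVE0 (Nat.lor LIVE1 (Nat.lor LIVE2 (Nat.lor LIVE3 (Nat.lor LIVE4 (Nat.lor LIVE5 (Nat.lor LIVE6 (Nat.lor LIVE7 (Nat.lor LIVE8 (Nat.lor LIVE9 (Nat.lor LIVE10 (Nat.lor LIVE11 (Nat.lor LIVE12 (Nat.lor LIVE13 (Nat.lor LIVE14 (Nat.lor LIVE15 (Nat.lor LIVE16 (Nat.lor LIVE17 (Nat.lor LIVE18 (Nat.lor LIVE19 (Nat.lor LIVE20 (Nat.lor LIVE21 (Nat.lor LIVE22 (Nat.lor LIVE23 (Nat.lor LIVE24 (Nat.lor LIVE25 (Nat.lor LIVE26 (Nat.lor LIVE27 (Nat.lor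 LIVE28 (Nat.lor LIVE29 (Nat.lor LIVE30 (Nat.lor LIVE31 (Nat.lor LIVE32 (Nat.lor LIVE33 (Nat.lor LIVE34 (Nat.lor LIVE35 (Nat.lor LIVE36 (Nat.lor LIVE37 (Nat.lor LIVE38 (Nat.lor LIVE39 (Nat.lor LIVE40 (Nat.lor LIVE41 (Nat.lor LIVE42 (Nat.lor LIVE43 (Nat.lor LIVE44 (Nat.lor LIVE45 (Nat.lor LIVE46 (Nat.lor LIVE47 (Nat.lor LIVE48 (Nat.lor LIVE49 (Nat.lor LIVE50 (Nat.lor LIVE51 (Nat.lor LIVE52 (Nat.lor LIVE53 (Nat.lor LIVE54 (Nat.lor LIVE55 (Nat.lor LIVE56 (Nat.lor LIVE57 (Nat.lor LIVE58 (Nat.lor LIVE59 (Nat.lor LIVE60 (Nat.lor LIVE61 (Nat.lor LIVE62 (Nat.lor LIVE63 (Nat.lor LIVE64 (Nat.lor LIVE65 (Nat.lor LIVE66 (Nat.lor LIVE67 (Nat.lor LIVE68 (Nat.lor LIVE69 (Nat.lor LIVE70 (Nat.lor LIVE71 (Nat.lor LIVE72 (Nat.lor LIVE73 (LIVE74))))))))))))))))))))))))))))))))))))))))))))))))))))))))))))))))))))))))))) LIVE = true := by decide +kernel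

theorem hlive : Nat.beq (liveK finrecs) LIVE = true := by
  unfold finrecs
  exact beq_chain hlive' hliveq

theorem hlive0 : bitK LIVE 0 = true := by decide +kernel

theorem hfin : finG cIV F cK 14 finrecs = true :=
  finG_of_parts hlive hlive0 (Fn.allListK_append hfin_0 (Fn.allListK_append hfin_1 (Fn.allListK_append hfin_2 (Fn.allListK_append hfin_3 (Fn.allListK_append hfin_4 (Fn.allListK_append hfin_5 (Fn.allListK_append hfin_6 (Fn.allListK_append hfin_7 (Fn.allListK_append hfin_8 (Fn.allListK_append hfin_9 (Fn.allListK_append hfin_10 (Fn.allListK_append hfin_11 (Fn.allListK_append hfin_12 (Fn.allListK_append hfin_13 (Fn.allListK_append hfin_14 (Fn.allListK_append hfin_15 (Fn.allListK_append hfin_16 (Fn.allListK_append hfin_17 (Fn.allListK_append hfin_18 (Fn.allListK_append hfin_19 (Fn.allListK_append hfin_20 (Fn.allListK_append hfin_21 (Fn.allListK_append hfin_22 (Fn.allListK_append hfin_23 (Fn.allListK_append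 hfin_24 (Fn.allListK_append hfin_25 (Fn.allListK_append hfin_26 (Fn.allListK_append hfin_27 (Fn.allListK_append hfin_28 (Fn.allListK_append hfin_29 (Fn.allListK_append hfin_30 (Fn.allListK_append hfin_31 (Fn.allListK_append hfin_32 (Fn.allListK_append hfin_33 (Fn.allListK_append hfin_34 (Fn.allListK_append hfin_35 (Fn.allListK_append hfin_36 (Fn.allListK_append hfin_37 (Fn.allListK_append hfin_38 (Fn.allListK_append hfin_39 (Fn.allListK_append hfin_40 (Fn.allListK_append hfin_41 (Fn.allListK_append hfin_42 (Fn.allListK_append hfin_43 (Fn.allListK_append hfin_44 (Fn.allListK_append hfin_45 (Fn.allListK_append hfin_46 (Fn.allListK_append hfin_47 (Fn.allListK_append hfin_48 (Fn.allListK_append hfin_49 (Fn.allListK_append hfin_50 (Fn.allListK_append hfin_51 (Fn.allListK_append hfin_52 (Fn.allListK_append hfin_53 (Fn.allListK_append hfin_54 (Fn.allListK_append hfin_55 (Fn.allListK_append hfin_56 (Fn.allListK_append hfin_57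 (Fn.allListK_append hfin_58 (Fn.allListK_append hfin_59 (Fn.allListK_append hfin_60 (Fn.allListK_append hfin_61 (Fn.allListK_append hfin_62 (Fn.allListK_append hfin_63 (Fn.allListK_append hfin_64 (Fn.allListK_append hfin_65 (Fn.allListK_append hfin_66 (Fn.allListK_append hfin_67 (Fn.allListK_append hfin_68 (Fn.allListK_append hfin_69 (Fn.allListK_append hfin_70 (Fn.allListK_append hfin_71 (Fn.allListK_append hfin_72 (Fn.allListK_append hfin_73 hfin_74))))))))))))))))))))))))))))))))))))))))))))))))))))))))))))))))))))))))))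

theorem hlen : finrecs.length = cN := by
  simp only [finrecs, List.length_append]
  decide +kernel

theorem hrelc : relCheckK RW cR0 cR baseL rotW sw = true := by
  decide +kernel

theorem hlet : lettersK 14 baseL = true := by decide +kernel

end Cfsg.Agent.Lib.Helper12.TCG.Fi24x306936
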