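import Cfsg.Agent.Lib.Helper12.TCG.Fi24x306936.Chk0
import Cfsg.Agent.Lib.Helper12.TCG.Fi24x306936.Chk1
import Cfsg.Agent.Lib.Helper12.TCG.Fi24x306936.Chk2
import Cfsg.Agent.Lib.Helper12.TCG.Fi24x306936.Chk3
import Cfsg.Agent.Lib.Helper12.TCG.Fi24x306936.Chk4
import Cfsg.Agent.Lib.Helper12.TCG.Fi24x306936.Chk5
import Cfsg.Agent.Lib.Helper12.TCG.Fi24x306936.Chk6
import Cfsg.Agent.Lib.Helper12.TCG.Fi24x306936.Chk7
import Cfsg.Agent.Lib.Helper12.TCG.Fi24x306936.Chk8
import Cfsg.Agent.Lib.Helper12.TCG.Fi24x306936.Chk9
import Cfsg.Agent.Lib.Helper12.TCG.Fi24x306936.Chk10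
import Cfsg.Agent.Lib.Helper12.TCG.Fi24x306936.Chk11
import Cfsg.Agent.Lib.Helper12.TCG.Fi24x306936.Chk12
import Cfsg.Agent.Lib.Helper12.TCG.Fi24x306936.Chk13
import Cfsg.Agent.Lib.Helper12.TCG.Fi24x306936.Chk14
import Cfsg.Agent.Lib.Helper12.TCG.Fi24x306936.Chk15
import Cfsg.Agent.Lib.Helper12.TCG.Fi24x306936.Chk16
import Cfsg.Agent.Lib.Helper12.TCG.Fi24x306936.Chk17
import Cfsg.Agent.Lib.Helper12.TCG.Fi24x306936.Chk18
import Cfsg.Agent.Lib.Helper12.TCG.Fi24x306936.Chk19
import Cfsg.Agent.Lib.Helper12.TCG.Fi24x306936.Chk20
import Cfsg.Agent.Lib.Helper12.TCG.Fi24x306936.Chk21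
import Cfsg.Agent.Lib.Helper12.TCG.Fi24x306936.Chk22
import Cfsg.Agent.Lib.Helper12.TCG.Fi24x306936.Chk23
import Cfsg.Agent.Lib.Helper12.TCG.Fi24x306936.Chk24
import Cfsg.Agent.Lib.Helper12.TCG.Fi24x306936.Chk25
import Cfsg.Agent.Lib.Helper12.TCG.Fi24x306936.Chk26
import Cfsg.Agent.Lib.Helper12.TCG.Fi24x306936.Chk27
import Cfsg.Agent.Lib.Helper12.TCG.Fi24x306936.Chk28
import Cfsg.Agent.Lib.Helper12.TCG.Fi24x306936.Chk29
import Cfsg.Agent.Lib.Helper12.TCG.Fi24x306936.Chk30
import Cfsg.Agent.Lib.Helper12.TCG.Fi24x306936.Chk31
import Cfsg.Agent.Lib.Helper12.TCG.Fi24x306936.Chk32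
import Cfsg.Agent.Lib.Helper12.TCG.Fi24x306936.Chk33
import Cfsg.Agent.Lib.Helper12.TCG.Fi24x306936.Chk34
import Cfsg.Agent.Lib.Helper12.TCG.Fi24x306936.Chk35
import Cfsg.Agent.Lib.Helper12.TCG.Fi24x306936.Chk36
import Cfsg.Agent.Lib.Helper12.TCG.Fi24x306936.Chk37
import Cfsg.Agent.Lib.Helper12.TCG.Fi24x306936.Chk38
import Cfsg.Agent.Lib.Helper12.TCG.Fi24x306936.Chk39
import Cfsg.Agent.Lib.Helper12.TCG.Fi24x306936.Chk40
import Cfsg.Agent.Lib.Helper12.TCG.Fi24x306936.Chk41
import Cfsg.Agent.Lib.Helper12.TCG.Fi24x306936.Chk42
import Cfsg.Agent.Lib.Helper12.TCG.Fi24x306936.Chk43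
import Cfsg.Agent.Lib.Helper12.TCG.Fi24x306936.Chk44
import Cfsg.Agent.Lib.Helper12.TCG.Fi24x306936.Chk45
import Cfsg.Agent.Lib.Helper12.TCG.Fi24x306936.Chk46
import Cfsg.Agent.Lib.Helper12.TCG.Fi24x306936.Chk47
import Cfsg.Agent.Lib.Helper12.TCG.Fi24x306936.Chk48
import Cfsg.Agent.Lib.Helper12.TCG.Fi24x306936.Chk49
import Cfsg.Agent.Lib.Helper12.TCG.Fi24x306936.Chk50
import Cfsg.Agent.Lib.Helper12.TCG.Fi24x306936.Chk51
import Cfsg.Agent.Lib.Helper12.TCG.Fi24x306936.Chk52
import Cfsg.Agent.Lib.Helper12.TCG.Fi24x306936.Chk53
import Cfsg.Agent.Lib.Helper12.TCG.Fi24x306936.Chk54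
import Cfsg.Agent.Lib.Helper12.TCG.Fi24x306936.Chk55
import Cfsg.Agent.Lib.Helper12.TCG.Fi24x306936.Chk56
import Cfsg.Agent.Lib.Helper12.TCG.Fi24x306936.Chk57
import Cfsg.Agent.Lib.Helper12.TCG.Fi24x306936.Chk58
import Cfsg.Agent.Lib.Helper12.TCG.Fi24x306936.Chk59
import Cfsg.Agent.Lib.Helper12.TCG.Fi24x306936.Chk60
import Cfsg.Agent.Lib.Helper12.TCG.Fi24x306936.Chk61
import Cfsg.Agent.Lib.Helper12.TCG.Fi24x306936.Chk62
import Cfsg.Agent.Lib.Helper12.TCG.Fi24x306936.Chk63
import Cfsg.Agent.Lib.Helper12.TCG.Fi24x306936.Chk64
import Cfsg.Agent.Lib.Helper12.TCG.Fi24x306936.Chk65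
import Cfsg.Agent.Lib.Helper12.TCG.Fi24x306936.Chk66
import Cfsg.Agent.Lib.Helper12.TCG.Fi24x306936.Chk67
import Cfsg.Agent.Lib.Helper12.TCG.Fi24x306936.Chk68
import Cfsg.Agent.Lib.Helper12.TCG.Fi24x306936.Chk69
import Cfsg.Agent.Lib.Helper12.TCG.Fi24x306936.Chk70
import Cfsg.Agent.Lib.Helper12.TCG.Fi24x306936.Chk71
import Cfsg.Agent.Lib.Helper12.TCG.Fi24x306936.Chk72
import Cfsg.Agent.Lib.Helper12.TCG.Fi24x306936.Chk73
import Cfsg.Agent.Lib.Helper12.TCG.Fi24x306936.Chk74
import Cfsg.Agent.Lib.Helper12.TCG.Fi24x306936.Chk75
import Cfsg.Agent.Lib.Helper12.TCG.Fi24x306936.Chk76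
import Cfsg.Agent.Lib.Helper12.TCG.Fi24x306936.Chk77
import Cfsg.Agent.Lib.Helper12.TCG.Fi24x306936.Chk78
import Cfsg.Agent.Lib.Helper12.TCG.Fi24x306936.Chk79
import Cfsg.Agent.Lib.Helper12.TCG.Fi24x306936.Chk80
import Cfsg.Agent.Lib.Helper12.TCG.Fi24x306936.Chk81
import Cfsg.Agent.Lib.Helper12.TCG.Fi24x306936.Chk82
import Cfsg.Agent.Lib.Helper12.TCG.Fi24x306936.Chk83
import Cfsg.Agent.Lib.Helper12.TCG.Fi24x306936.Chk84
import Cfsg.Agent.Lib.Helper12.TCG.Fi24x306936.Chk85
import Cfsg.Agent.Lib.Helper12.TCG.Fi24x306936.Chk86
import Cfsg.Agent.Lib.Helper12.TCG.Fi24x306936.Chk87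
import Cfsg.Agent.Lib.Helper12.TCG.Fi24x306936.Chk88
import Cfsg.Agent.Lib.Helper12.TCG.Fi24x306936.Chk89
import Cfsg.Agent.Lib.Helper12.TCG.Fi24x306936.Chk90
import Cfsg.Agent.Lib.Helper12.TCG.Fi24x306936.Chk91
import Cfsg.Agent.Lib.Helper12.TCG.Fi24x306936.Chk92
import Cfsg.Agent.Lib.Helper12.TCG.Fi24x306936.Chk93
import Cfsg.Agent.Lib.Helper12.TCG.Fi24x306936.Chk94
import Cfsg.Agent.Lib.Helper12.TCG.Fi24x306936.Chk95
import Cfsg.Agent.Lib.Helper12.TCG.Fi24x306936.Chk96
import Cfsg.Agent.Lib.Helper12.TCG.Fi24x306936.Chk97
import Cfsg.Agent.Lib.Helper12.TCG.Fi24x306936.Chk98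
import Cfsg.Agent.Lib.Helper12.TCG.Fi24x306936.Chk99
import Cfsg.Agent.Lib.Helper12.TCG.Fi24x306936.Chk100
import Cfsg.Agent.Lib.Helper12.TCG.Fi24x306936.Chk101
import Cfsg.Agent.Lib.Helper12.TCG.Fi24x306936.Chk102
import Cfsg.Agent.Lib.Helper12.TCG.Fi24x306936.Chk103
import Cfsg.Agent.Lib.Helper12.TCG.Fi24x306936.Chk104
import Cfsg.Agent.Lib.Helper12.TCG.Fi24x306936.Chk105
import Cfsg.Agent.Lib.Helper12.TCG.Fi24x306936.Chk106
import Cfsg.Agent.Lib.Helper12.TCG.Fi24x306936.Chk107
import Cfsg.Agent.Lib.Helper12.TCG.Fi24x306936.Chk108
import Cfsg.Agent.Lib.Helper12.TCG.Fi24x306936.Chk109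
import Cfsg.Agent.Lib.Helper12.TCG.Fi24x306936.Chk110
import Cfsg.Agent.Lib.Helper12.TCG.Fi24x306936.Chk111
import Cfsg.Agent.Lib.Helper12.TCG.Fi24x306936.Chk112
import Cfsg.Agent.Lib.Helper12.TCG.Fi24x306936.Chk113
import Cfsg.Agent.Lib.Helper12.TCG.Fi24x306936.Chk114
import Cfsg.Agent.Lib.Helper12.TCG.Fi24x306936.Chk115
import Cfsg.Agent.Lib.Helper12.TCG.Fi24x306936.Chk116
import Cfsg.Agent.Lib.Helper12.TCG.Fi24x306936.Chk117
import Cfsg.Agent.Lib.Helper12.TCG.Fi24x306936.Chk118
import Cfsg.Agent.Lib.Helper12.TCG.Fi24x306936.Chk119
import Cfsg.Agent.Lib.Helper12.TCG.Fi24x306936.Chk120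
import Cfsg.Agent.Lib.Helper12.TCG.Fi24x306936.Chk121
import Cfsg.Agent.Lib.Helper12.TCG.Fi24x306936.Chk122
import Cfsg.Agent.Lib.Helper12.TCG.Fi24x306936.Chk123
import Cfsg.Agent.Lib.Helper12.TCG.Fi24x306936.Chk124
import Cfsg.Agent.Lib.Helper12.TCG.Fi24x306936.Chk125
import Cfsg.Agent.Lib.Helper12.TCG.Fi24x306936.Chk126
import Cfsg.Agent.Lib.Helper12.TCG.Fi24x306936.Chk127
import Cfsg.Agent.Lib.Helper12.TCG.Fi24x306936.Chk128
import Cfsg.Agent.Lib.Helper12.TCG.Fi24x306936.Chk129
import Cfsg.Agent.Lib.Helper12.TCG.Fi24x306936.Chk130
import Cfsg.Agent.Lib.Helper12.TCG.Fi24x306936.Chk131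
import Cfsg.Agent.Lib.Helper12.TCG.Fi24x306936.Chk132
import Cfsg.Agent.Lib.Helper12.TCG.Fi24x306936.Chk133
import Cfsg.Agent.Lib.Helper12.TCG.Fi24x306936.Chk134
import Cfsg.Agent.Lib.Helper12.TCG.Fi24x306936.Chk135
import Cfsg.Agent.Lib.Helper12.TCG.Fi24x306936.Chk136
import Cfsg.Agent.Lib.Helper12.TCG.Fi24x306936.Chk137
import Cfsg.Agent.Lib.Helper12.TCG.Fi24x306936.Chk138
import Cfsg.Agent.Lib.Helper12.TCG.Fi24x306936.Chk139
import Cfsg.Agent.Lib.Helper12.TCG.Fi24x306936.Chk140
import Cfsg.Agent.Lib.Helper12.TCG.Fi24x306936.Chk141
import Cfsg.Agent.Lib.Helper12.TCG.Fi24x306936.Perm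
import Cfsg.Agent.Lib.Helper12.TCG.Fi24x306936.Fin

/-! the index theorem for Fi24x306936 (generated, helper12) -/

set_option autoImplicit false
set_option maxRecDepth 100000
set_option linter.unusedSimpArgs false

namespace Cfsg.Agent.Lib.Helper12.TCG.Fi24x306936

open Cfsg.Agent.Lib.Helper12.TC Cfsg.Agent.Lib.Helper12.TCG Cfsg.Agent.Lib.Helper12.TCG.Fi24Pres

/-- the chunks of the certificate -/
def chunks : List (ℕ × List ℕ) :=
  [(366933, c0), (368933, c1), (370933, c2), (372933, c3), (374933, c4), (376933, c5), (378933, c6), (380933, c7), (382933, c8), (384933, c9), (386933, c10), (388933, c11), (390933, c12), (392933, c13), (394933, c14), (396933, c15), (398933, c16), (400933, c17), (402933, c18), (404933, c19), (406933, c20), (408933, c21), (410933, c22), (412933, c23), (414933, c24), (416933, c25), (418933, c26), (420933, c27), (422933, c28), (424933, c29), (426933, c30), (428933, c31), (430933, c32), (432933, c33), (434933, c34), (436933, c35), (438933, c36), (440933, c37), (442933, c38), (444933, c39), (446933, c40), (448933, c41), (450933, c42), (452933, c43), (454933, c44), (456933, c45), (458933, c46), (460933,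 c47), (462933, c48), (464933, c49), (466933, c50), (468933, c51), (470933, c52), (472933, c53), (474933, c54), (476933, c55), (478933, c56), (480933, c57), (482933, c58), (484933, c59), (486933, c60), (488933, c61), (490933, c62), (492933, c63), (494933, c64), (496933, c65), (498933, c66), (500933, c67), (502933, c68), (504933, c69), (506933, c70), (508933, c71), (510933, c72), (512933, c73), (514933, c74), (516933, c75), (518933, c76), (520933, c77), (522933, c78), (524933, c79), (526933, c80), (528933, c81), (530933, c82), (532933, c83), (534933, c84), (536933, c85), (538933, c86), (540933, c87), (542933, c88), (544933, c89), (546933, c90), (548933, c91), (550933, c92), (552933, c93), (554933, c94), (556933, c95), (558933, c96), (560933, c97), (562933, c98), (564933, c99), (566933, c100), (568933, c101), (570933, c102), (572933, c103), (574933, c104), (576933, c105), (578933, c106), (580933, c107), (582933, c108), (584933, c109), (586933, c110), (588933, c111), (590933, c112), (592933, c113), (594933, c114), (596933, c115), (598933, c116), (600933, c117), (602933, c118), (604933, c119), (606933, c120), (608933, c121),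 (610933, c122), (612933, c123), (614933, c124), (616933, c125), (618933, c126), (620933, c127), (622933, c128), (624933, c129), (626933, c130), (628933, c131), (630933, c132), (632933, c133), (634933, c134), (636933, c135), (638933, c136), (640933, c137), (642933, c138), (644933, c139), (646933, c140), (648933, c141), (650933, c142), (652933, c143), (654933, c144), (656933, c145), (658933, c146), (660933, c147), (662933, c148), (664933, c149), (666933, c150), (668933, c151), (670933, c152), (672933, c153), (674933, c154), (676933, c155), (678933, c156), (680933, c157), (682933, c158), (684933, c159), (686933, c160), (688933, c161), (690933, c162), (692933, c163), (694933, c164), (696933, c165), (698933, c166), (700933, c167), (702933, c168), (704933, c169), (706933, c170), (708933, c171), (710933, c172), (712933, c173), (714933, c174), (716933, c175), (718933, c176), (720933, c177), (722933, c178), (724933, c179), (726933, c180), (728933, c181), (730933, c182), (732933, c183), (734933, c184), (736933, c185), (738933, c186), (740933, c187), (742933, c188), (744933, c189), (746933, c190), (748933, c191), (750933, c192), (752933,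 c193), (754933, c194), (756933, c195), (758933, c196), (760933, c197), (762933, c198), (764933, c199), (766933, c200), (768933, c201), (770933, c202), (772933, c203), (774933, c204), (776933, c205), (778933, c206), (780933, c207), (782933, c208), (784933, c209), (786933, c210), (788933, c211), (790933, c212), (792933, c213), (794933, c214), (796933, c215), (798933, c216), (800933, c217), (802933, c218), (804933, c219), (806933, c220), (808933, c221), (810933, c222), (812933, c223), (814933, c224), (816933, c225), (818933, c226), (820933, c227), (822933, c228), (824933, c229), (826933, c230), (828933, c231), (830933, c232), (832933, c233), (834933, c234), (836933, c235), (838933, c236), (840933, c237), (842933, c238), (844933, c239), (846933, c240), (848933, c241), (850933, c242), (852933, c243), (854933, c244), (856933, c245), (858933, c246), (860933, c247), (862933, c248), (864933, c249), (866933, c250), (868933, c251), (870933, c252), (872933, c253), (874933, c254), (876933, c255), (878933, c256), (880933, c257), (882933, c258), (884933, c259), (886933, c260), (888933, c261), (890933, c262), (892933, c263), (894933, c264),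 (896933, c265), (898933, c266), (900933, c267), (902933, c268), (904933, c269), (906933, c270), (908933, c271), (910933, c272), (912933, c273), (914933, c274), (916933, c275), (918933, c276), (920933, c277), (922933, c278), (924933, c279), (926933, c280), (928933, c281), (930933, c282), (932933, c283), (934933, c284), (936933, c285), (938933, c286), (940933, c287), (942933, c288), (944933, c289), (946933, c290), (948933, c291), (950933, c292), (952933, c293), (954933, c294), (956933, c295), (958933, c296), (960933, c297), (962933, c298), (964933, c299), (966933, c300), (968933, c301), (970933, c302), (972933, c303), (974933, c304), (976933, c305), (978933, c306), (980933, c307), (982933, c308), (984933, c309), (986933, c310), (988933, c311), (990933, c312), (992933, c313), (994933, c314), (996933, c315), (998933, c316), (1000933, c317), (1002933, c318), (1004933, c319), (1006933, c320), (1008933, c321), (1010933, c322), (1012933, c323), (1014933, c324), (1016933, c325), (1018933, c326), (1020933, c327), (1022933, c328), (1024933, c329), (1026933, c330), (1028933, c331), (1030933, c332), (1032933, c333), (1034933, c334),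 (1036933, c335), (1038933, c336), (1040933, c337), (1042933, c338), (1044933, c339), (1046933, c340), (1048933, c341), (1050933, c342), (1052933, c343), (1054933, c344), (1056933, c345), (1058933, c346), (1060933, c347), (1062933, c348), (1064933, c349), (1066933, c350), (1068933, c351), (1070933, c352), (1072933, c353), (1074933, c354), (1076933, c355), (1078933, c356), (1080933, c357), (1082933, c358), (1084933, c359), (1086933, c360), (1088933, c361), (1090933, c362), (1092933, c363), (1094933, c364), (1096933, c365), (1098933, c366), (1100933, c367), (1102933, c368), (1104933, c369), (1106933, c370), (1108933, c371), (1110933, c372), (1112933, c373), (1114933, c374), (1116933, c375), (1118933, c376), (1120933, c377), (1122933, c378), (1124933, c379), (1126933, c380), (1128933, c381), (1130933, c382), (1132933, c383), (1134933, c384), (1136933, c385), (1138933, c386), (1140933, c387), (1142933, c388), (1144933, c389), (1146933, c390), (1148933, c391), (1150933, c392), (1152933, c393), (1154933, c394), (1156933, c395), (1158933, c396), (1160933, c397), (1162933, c398), (1164933, c399), (1166933, c400), (1168933, c401),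 (1170933, c402), (1172933, c403), (1174933, c404), (1176933, c405), (1178933, c406), (1180933, c407), (1182933, c408), (1184933, c409), (1186933, c410), (1188933, c411), (1190933, c412), (1192933, c413), (1194933, c414), (1196933, c415), (1198933, c416), (1200933, c417), (1202933, c418), (1204933, c419), (1206933, c420), (1208933, c421), (1210933, c422), (1212933, c423), (1214933, c424), (1216933, c425), (1218933, c426), (1220933, c427), (1222933, c428), (1224933, c429), (1226933, c430), (1228933, c431), (1230933, c432), (1232933, c433), (1234933, c434), (1236933, c435), (1238933, c436), (1240933, c437), (1242933, c438), (1244933, c439), (1246933, c440), (1248933, c441), (1250933, c442), (1252933, c443), (1254933, c444), (1256933, c445), (1258933, c446), (1260933, c447), (1262933, c448), (1264933, c449), (1266933, c450), (1268933, c451), (1270933, c452), (1272933, c453), (1274933, c454), (1276933, c455), (1278933, c456), (1280933, c457), (1282933, c458), (1284933, c459), (1286933, c460), (1288933, c461), (1290933, c462), (1292933, c463), (1294933, c464), (1296933, c465), (1298933, c466), (1300933, c467), (1302933, c468),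 (1304933, c469), (1306933, c470), (1308933, c471), (1310933, c472), (1312933, c473), (1314933, c474), (1316933, c475), (1318933, c476), (1320933, c477), (1322933, c478), (1324933, c479), (1326933, c480), (1328933, c481), (1330933, c482), (1332933, c483), (1334933, c484), (1336933, c485), (1338933, c486), (1340933, c487), (1342933, c488), (1344933, c489), (1346933, c490), (1348933, c491), (1350933, c492), (1352933, c493), (1354933, c494), (1356933, c495), (1358933, c496), (1360933, c497), (1362933, c498), (1364933, c499), (1366933, c500), (1368933, c501), (1370933, c502), (1372933, c503), (1374933, c504), (1376933, c505), (1378933, c506), (1380933, c507), (1382933, c508), (1384933, c509), (1386933, c510), (1388933, c511), (1390933, c512), (1392933, c513), (1394933, c514), (1396933, c515), (1398933, c516), (1400933, c517), (1402933, c518), (1404933, c519), (1406933, c520), (1408933, c521), (1410933, c522), (1412933, c523), (1414933, c524), (1416933, c525), (1418933, c526), (1420933, c527), (1422933, c528), (1424933, c529), (1426933, c530), (1428933, c531), (1430933, c532), (1432933, c533), (1434933, c534), (1436933, c535),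 (1438933, c536), (1440933, c537), (1442933, c538), (1444933, c539), (1446933, c540), (1448933, c541), (1450933, c542), (1452933, c543), (1454933, c544), (1456933, c545), (1458933, c546), (1460933, c547), (1462933, c548), (1464933, c549), (1466933, c550), (1468933, c551), (1470933, c552), (1472933, c553), (1474933, c554), (1476933, c555), (1478933, c556), (1480933, c557), (1482933, c558), (1484933, c559), (1486933, c560), (1488933, c561), (1490933, c562), (1492933, c563), (1494933, c564), (1496933, c565), (1498933, c566), (1500933, c567), (1502933, c568), (1504933, c569), (1506933, c570), (1508933, c571), (1510933, c572), (1512933, c573), (1514933, c574), (1516933, c575), (1518933, c576), (1520933, c577), (1522933, c578), (1524933, c579), (1526933, c580), (1528933, c581), (1530933, c582), (1532933, c583), (1534933, c584), (1536933, c585), (1538933, c586), (1540933, c587), (1542933, c588), (1544933, c589), (1546933, c590), (1548933, c591), (1550933, c592), (1552933, c593), (1554933, c594), (1556933, c595), (1558933, c596), (1560933, c597), (1562933, c598), (1564933, c599), (1566933, c600), (1568933, c601), (1570933, c602),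 (1572933, c603), (1574933, c604), (1576933, c605), (1578933, c606), (1580933, c607), (1582933, c608), (1584933, c609), (1586933, c610), (1588933, c611), (1590933, c612), (1592933, c613), (1594933, c614), (1596933, c615), (1598933, c616), (1600933, c617), (1602933, c618), (1604933, c619), (1606933, c620), (1608933, c621), (1610933, c622), (1612933, c623), (1614933, c624), (1616933, c625), (1618933, c626), (1620933, c627), (1622933, c628), (1624933, c629), (1626933, c630), (1628933, c631), (1630933, c632), (1632933, c633), (1634933, c634), (1636933, c635), (1638933, c636), (1640933, c637), (1642933, c638), (1644933, c639), (1646933, c640), (1648933, c641), (1650933, c642), (1652933, c643), (1654933, c644), (1656933, c645), (1658933, c646), (1660933, c647), (1662933, c648), (1664933, c649), (1666933, c650), (1668933, c651), (1670933, c652), (1672933, c653), (1674933, c654), (1676933, c655), (1678933, c656), (1680933, c657), (1682933, c658), (1684933, c659), (1686933, c660), (1688933, c661), (1690933, c662), (1692933, c663), (1694933, c664), (1696933, c665), (1698933, c666), (1700933, c667), (1702933, c668), (1704933, c669),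 (1706933, c670), (1708933, c671), (1710933, c672), (1712933, c673), (1714933, c674), (1716933, c675), (1718933, c676), (1720933, c677), (1722933, c678), (1724933, c679), (1726933, c680), (1728933, c681), (1730933, c682), (1732933, c683), (1734933, c684), (1736933, c685), (1738933, c686), (1740933, c687), (1742933, c688), (1744933, c689), (1746933, c690), (1748933, c691), (1750933, c692), (1752933, c693), (1754933, c694), (1756933, c695), (1758933, c696), (1760933, c697), (1762933, c698), (1764933, c699), (1766933, c700), (1768933, c701), (1770933, c702), (1772933, c703), (1774933, c704), (1776933, c705), (1778933, c706), (1780933, c707), (1782933, c708), (1784933, c709), (1786933, c710), (1788933, c711), (1790933, c712), (1792933, c713), (1794933, c714), (1796933, c715), (1798933, c716), (1800933, c717), (1802933, c718), (1804933, c719), (1806933, c720), (1808933, c721), (1810933, c722), (1812933, c723), (1814933, c724), (1816933, c725), (1818933, c726), (1820933, c727), (1822933, c728), (1824933, c729), (1826933, c730), (1828933, c731), (1830933, c732), (1832933, c733), (1834933, c734), (1836933, c735), (1838933, c736),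 (1840933, c737), (1842933, c738), (1844933, c739), (1846933, c740), (1848933, c741), (1850933, c742), (1852933, c743), (1854933, c744), (1856933, c745), (1858933, c746), (1860933, c747), (1862933, c748), (1864933, c749), (1866933, c750), (1868933, c751), (1870933, c752), (1872933, c753), (1874933, c754), (1876933, c755), (1878933, c756), (1880933, c757), (1882933, c758), (1884933, c759), (1886933, c760), (1888933, c761), (1890933, c762), (1892933, c763), (1894933, c764), (1896933, c765), (1898933, c766), (1900933, c767), (1902933, c768), (1904933, c769), (1906933, c770), (1908933, c771), (1910933, c772), (1912933, c773), (1914933, c774), (1916933, c775), (1918933, c776), (1920933, c777), (1922933, c778), (1924933, c779), (1926933, c780), (1928933, c781), (1930933, c782), (1932933, c783), (1934933, c784), (1936933, c785), (1938933, c786), (1940933, c787), (1942933, c788), (1944933, c789), (1946933, c790), (1948933, c791), (1950933, c792), (1952933, c793), (1954933, c794), (1956933, c795), (1958933, c796), (1960933, c797), (1962933, c798), (1964933, c799), (1966933, c800), (1968933, c801), (1970933, c802), (1972933, c803),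 (1974933, c804), (1976933, c805), (1978933, c806), (1980933, c807), (1982933, c808), (1984933, c809), (1986933, c810), (1988933, c811), (1990933, c812), (1992933, c813), (1994933, c814), (1996933, c815), (1998933, c816), (2000933, c817), (2002933, c818), (2004933, c819), (2006933, c820), (2008933, c821), (2010933, c822), (2012933, c823), (2014933, c824), (2016933, c825), (2018933, c826), (2020933, c827), (2022933, c828), (2024933, c829), (2026933, c830), (2028933, c831), (2030933, c832), (2032933, c833), (2034933, c834), (2036933, c835), (2038933, c836), (2040933, c837), (2042933, c838), (2044933, c839), (2046933, c840), (2048933, c841), (2050933, c842), (2052933, c843), (2054933, c844), (2056933, c845), (2058933, c846), (2060933, c847), (2062933, c848), (2064933, c849), (2066933, c850), (2068933, c851), (2070933, c852), (2072933, c853), (2074933, c854), (2076933, c855), (2078933, c856), (2080933, c857), (2082933, c858), (2084933, c859), (2086933, c860), (2088933, c861), (2090933, c862), (2092933, c863), (2094933, c864), (2096933, c865), (2098933, c866), (2100933, c867), (2102933, c868), (2104933, c869), (2106933, c870),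 (2108933, c871), (2110933, c872), (2112933, c873), (2114933, c874), (2116933, c875), (2118933, c876), (2120933, c877), (2122933, c878), (2124933, c879), (2126933, c880), (2128933, c881), (2130933, c882), (2132933, c883), (2134933, c884), (2136933, c885), (2138933, c886), (2140933, c887), (2142933, c888), (2144933, c889), (2146933, c890), (2148933, c891), (2150933, c892), (2152933, c893), (2154933, c894), (2156933, c895), (2158933, c896), (2160933, c897), (2162933, c898), (2164933, c899), (2166933, c900), (2168933, c901), (2170933, c902), (2172933, c903), (2174933, c904), (2176933, c905), (2178933, c906), (2180933, c907), (2182933, c908), (2184933, c909), (2186933, c910), (2188933, c911), (2190933, c912), (2192933, c913), (2194933, c914), (2196933, c915), (2198933, c916), (2200933, c917), (2202933, c918), (2204933, c919), (2206933, c920), (2208933, c921), (2210933, c922), (2212933, c923), (2214933, c924), (2216933, c925), (2218933, c926), (2220933, c927), (2222933, c928), (2224933, c929), (2226933, c930), (2228933, c931), (2230933, c932), (2232933, c933), (2234933, c934), (2236933, c935), (2238933, c936), (2240933, c937),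 (2242933, c938), (2244933, c939), (2246933, c940), (2248933, c941), (2250933, c942), (2252933, c943), (2254933, c944), (2256933, c945), (2258933, c946), (2260933, c947), (2262933, c948), (2264933, c949), (2266933, c950), (2268933, c951), (2270933, c952), (2272933, c953), (2274933, c954), (2276933, c955), (2278933, c956), (2280933, c957), (2282933, c958), (2284933, c959), (2286933, c960), (2288933, c961), (2290933, c962), (2292933, c963), (2294933, c964), (2296933, c965), (2298933, c966), (2300933, c967), (2302933, c968), (2304933, c969), (2306933, c970), (2308933, c971), (2310933, c972), (2312933, c973), (2314933, c974), (2316933, c975), (2318933, c976), (2320933, c977), (2322933, c978), (2324933, c979), (2326933, c980), (2328933, c981), (2330933, c982), (2332933, c983), (2334933, c984), (2336933, c985), (2338933, c986), (2340933, c987), (2342933, c988), (2344933, c989), (2346933, c990), (2348933, c991), (2350933, c992), (2352933, c993), (2354933, c994), (2356933, c995), (2358933, c996), (2360933, c997), (2362933, c998), (2364933, c999), (2366933, c1000), (2368933, c1001), (2370933, c1002), (2372933, c1003), (2374933, c1004),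 (2376933, c1005), (2378933, c1006), (2380933, c1007), (2382933, c1008), (2384933, c1009), (2386933, c1010), (2388933, c1011), (2390933, c1012), (2392933, c1013), (2394933, c1014), (2396933, c1015), (2398933, c1016), (2400933, c1017), (2402933, c1018), (2404933, c1019), (2406933, c1020), (2408933, c1021), (2410933, c1022), (2412933, c1023), (2414933, c1024), (2416933, c1025), (2418933, c1026), (2420933, c1027), (2422933, c1028), (2424933, c1029), (2426933, c1030), (2428933, c1031), (2430933, c1032), (2432933, c1033), (2434933, c1034), (2436933, c1035), (2438933, c1036), (2440933, c1037), (2442933, c1038), (2444933, c1039), (2446933, c1040), (2448933, c1041), (2450933, c1042), (2452933, c1043), (2454933, c1044), (2456933, c1045), (2458933, c1046), (2460933, c1047), (2462933, c1048), (2464933, c1049), (2466933, c1050), (2468933, c1051), (2470933, c1052), (2472933, c1053), (2474933, c1054), (2476933, c1055), (2478933, c1056), (2480933, c1057), (2482933, c1058), (2484933, c1059), (2486933, c1060), (2488933, c1061), (2490933, c1062), (2492933, c1063), (2494933, c1064), (2496933, c1065), (2498933, c1066), (2500933, c1067), (2502933,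 c1068), (2504933, c1069), (2506933, c1070), (2508933, c1071), (2510933, c1072), (2512933, c1073), (2514933, c1074), (2516933, c1075), (2518933, c1076), (2520933, c1077), (2522933, c1078), (2524933, c1079), (2526933, c1080), (2528933, c1081), (2530933, c1082), (2532933, c1083), (2534933, c1084), (2536933, c1085), (2538933, c1086), (2540933, c1087), (2542933, c1088), (2544933, c1089), (2546933, c1090), (2548933, c1091), (2550933, c1092), (2552933, c1093), (2554933, c1094), (2556933, c1095), (2558933, c1096), (2560933, c1097), (2562933, c1098), (2564933, c1099), (2566933, c1100), (2568933, c1101), (2570933, c1102), (2572933, c1103), (2574933, c1104), (2576933, c1105), (2578933, c1106), (2580933, c1107), (2582933, c1108), (2584933, c1109), (2586933, c1110), (2588933, c1111), (2590933, c1112), (2592933, c1113), (2594933, c1114), (2596933, c1115), (2598933, c1116), (2600933, c1117), (2602933, c1118), (2604933, c1119), (2606933, c1120), (2608933, c1121), (2610933, c1122), (2612933, c1123), (2614933, c1124), (2616933, c1125), (2618933, c1126), (2620933, c1127), (2622933, c1128), (2624933, c1129), (2626933, c1130), (2628933, c1131),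 (2630933, c1132), (2632933, c1133), (2634933, c1134)]

theorem hcover : coverK cD cK chunks = true := by decide +kernel

theorem hchunks : ∀ c ∈ chunks, chunkG cIV F RW cR0 c.2 c.1 = true := by
  unfold chunks
  simp only [List.forall_mem_cons, List.not_mem_nil, false_imp_iff, implies_true, and_true]
  exact ⟨chunk0, chunk1, chunk2, chunk3, chunk4, chunk5, chunk6, chunk7, chunk8, chunk9, chunk10, chunk11, chunk12, chunk13, chunk14, chunk15, chunk16, chunk17, chunk18, chunk19, chunk20, chunk21, chunk22, chunk23, chunk24, chunk25, chunk26, chunk27, chunk28, chunk29, chunk30, chunk31, chunk32, chunk33, chunk34, chunk35, chunk36, chunk37, chunk38, chunk39, chunk40, chunk41, chunk42, chunk43, chunk44, chunk45, chunk46, chunk47, chunk48, chunk49, chunk50, chunk51, chunk52, chunk53, chunk54, chunk55, chunk56, chunk57, chunk58, chunk59, chunk60, chunk61, chunk62, chunk63, chunk64, chunk65, chunk66, chunk67, chunk68, chunk69, chunk70, chunk71, chunk72, chunk73, chunk74, chunk75, chunk76, chunk77, chunk78, chunk79, chunk80, chunk81, chunk82, chunk83, chunk84, chunk85, chunk86, chunk87, chunk88, chunk89, chunk90, chunk91, chunk92,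 chunk93, chunk94, chunk95, chunk96, chunk97, chunk98, chunk99, chunk100, chunk101, chunk102, chunk103, chunk104, chunk105, chunk106, chunk107, chunk108, chunk109, chunk110, chunk111, chunk112, chunk113, chunk114, chunk115, chunk116, chunk117, chunk118, chunk119, chunk120, chunk121, chunk122, chunk123, chunk124, chunk125, chunk126, chunk127, chunk128, chunk129, chunk130, chunk131, chunk132, chunk133, chunk134, chunk135, chunk136, chunk137, chunk138, chunk139, chunk140, chunk141, chunk142, chunk143, chunk144, chunk145, chunk146, chunk147, chunk148, chunk149, chunk150, chunk151, chunk152, chunk153, chunk154, chunk155, chunk156, chunk157, chunk158, chunk159, chunk160, chunk161, chunk162, chunk163, chunk164, chunk165, chunk166, chunk167, chunk168, chunk169, chunk170, chunk171, chunk172, chunk173, chunk174, chunk175, chunk176, chunk177, chunk178, chunk179, chunk180, chunk181, chunk182, chunk183, chunk184, chunk185, chunk186, chunk187, chunk188, chunk189, chunk190, chunk191, chunk192, chunk193, chunk194, chunk195, chunk196, chunk197, chunk198, chunk199, chunk200, chunk201, chunk202, chunk203, chunk204, chunk205, chunk206, chunk207,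 chunk208, chunk209, chunk210, chunk211, chunk212, chunk213, chunk214, chunk215, chunk216, chunk217, chunk218, chunk219, chunk220, chunk221, chunk222, chunk223, chunk224, chunk225, chunk226, chunk227, chunk228, chunk229, chunk230, chunk231, chunk232, chunk233, chunk234, chunk235, chunk236, chunk237, chunk238, chunk239, chunk240, chunk241, chunk242, chunk243, chunk244, chunk245, chunk246, chunk247, chunk248, chunk249, chunk250, chunk251, chunk252, chunk253, chunk254, chunk255, chunk256, chunk257, chunk258, chunk259, chunk260, chunk261, chunk262, chunk263, chunk264, chunk265, chunk266, chunk267, chunk268, chunk269, chunk270, chunk271, chunk272, chunk273, chunk274, chunk275, chunk276, chunk277, chunk278, chunk279, chunk280, chunk281, chunk282, chunk283, chunk284, chunk285, chunk286, chunk287, chunk288, chunk289, chunk290, chunk291, chunk292, chunk293, chunk294, chunk295, chunk296, chunk297, chunk298, chunk299, chunk300, chunk301, chunk302, chunk303, chunk304, chunk305, chunk306, chunk307, chunk308, chunk309, chunk310, chunk311, chunk312, chunk313, chunk314, chunk315, chunk316, chunk317, chunk318, chunk319, chunk320, chunk321,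 chunk322, chunk323, chunk324, chunk325, chunk326, chunk327, chunk328, chunk329, chunk330, chunk331, chunk332, chunk333, chunk334, chunk335, chunk336, chunk337, chunk338, chunk339, chunk340, chunk341, chunk342, chunk343, chunk344, chunk345, chunk346, chunk347, chunk348, chunk349, chunk350, chunk351, chunk352, chunk353, chunk354, chunk355, chunk356, chunk357, chunk358, chunk359, chunk360, chunk361, chunk362, chunk363, chunk364, chunk365, chunk366, chunk367, chunk368, chunk369, chunk370, chunk371, chunk372, chunk373, chunk374, chunk375, chunk376, chunk377, chunk378, chunk379, chunk380, chunk381, chunk382, chunk383, chunk384, chunk385, chunk386, chunk387, chunk388, chunk389, chunk390, chunk391, chunk392, chunk393, chunk394, chunk395, chunk396, chunk397, chunk398, chunk399, chunk400, chunk401, chunk402, chunk403, chunk404, chunk405, chunk406, chunk407, chunk408, chunk409, chunk410, chunk411, chunk412, chunk413, chunk414, chunk415, chunk416, chunk417, chunk418, chunk419, chunk420, chunk421, chunk422, chunk423, chunk424, chunk425, chunk426, chunk427, chunk428, chunk429, chunk430, chunk431, chunk432, chunk433, chunk434, chunk435,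 chunk436, chunk437, chunk438, chunk439, chunk440, chunk441, chunk442, chunk443, chunk444, chunk445, chunk446, chunk447, chunk448, chunk449, chunk450, chunk451, chunk452, chunk453, chunk454, chunk455, chunk456, chunk457, chunk458, chunk459, chunk460, chunk461, chunk462, chunk463, chunk464, chunk465, chunk466, chunk467, chunk468, chunk469, chunk470, chunk471, chunk472, chunk473, chunk474, chunk475, chunk476, chunk477, chunk478, chunk479, chunk480, chunk481, chunk482, chunk483, chunk484, chunk485, chunk486, chunk487, chunk488, chunk489, chunk490, chunk491, chunk492, chunk493, chunk494, chunk495, chunk496, chunk497, chunk498, chunk499, chunk500, chunk501, chunk502, chunk503, chunk504, chunk505, chunk506, chunk507, chunk508, chunk509, chunk510, chunk511, chunk512, chunk513, chunk514, chunk515, chunk516, chunk517, chunk518, chunk519, chunk520, chunk521, chunk522, chunk523, chunk524, chunk525, chunk526, chunk527, chunk528, chunk529, chunk530, chunk531, chunk532, chunk533, chunk534, chunk535, chunk536, chunk537, chunk538, chunk539, chunk540, chunk541, chunk542, chunk543, chunk544, chunk545, chunk546, chunk547, chunk548, chunk549,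 chunk550, chunk551, chunk552, chunk553, chunk554, chunk555, chunk556, chunk557, chunk558, chunk559, chunk560, chunk561, chunk562, chunk563, chunk564, chunk565, chunk566, chunk567, chunk568, chunk569, chunk570, chunk571, chunk572, chunk573, chunk574, chunk575, chunk576, chunk577, chunk578, chunk579, chunk580, chunk581, chunk582, chunk583, chunk584, chunk585, chunk586, chunk587, chunk588, chunk589, chunk590, chunk591, chunk592, chunk593, chunk594, chunk595, chunk596, chunk597, chunk598, chunk599, chunk600, chunk601, chunk602, chunk603, chunk604, chunk605, chunk606, chunk607, chunk608, chunk609, chunk610, chunk611, chunk612, chunk613, chunk614, chunk615, chunk616, chunk617, chunk618, chunk619, chunk620, chunk621, chunk622, chunk623, chunk624, chunk625, chunk626, chunk627, chunk628, chunk629, chunk630, chunk631, chunk632, chunk633, chunk634, chunk635, chunk636, chunk637, chunk638, chunk639, chunk640, chunk641, chunk642, chunk643, chunk644, chunk645, chunk646, chunk647, chunk648, chunk649, chunk650, chunk651, chunk652, chunk653, chunk654, chunk655, chunk656, chunk657, chunk658, chunk659, chunk660, chunk661, chunk662, chunk663,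 chunk664, chunk665, chunk666, chunk667, chunk668, chunk669, chunk670, chunk671, chunk672, chunk673, chunk674, chunk675, chunk676, chunk677, chunk678, chunk679, chunk680, chunk681, chunk682, chunk683, chunk684, chunk685, chunk686, chunk687, chunk688, chunk689, chunk690, chunk691, chunk692, chunk693, chunk694, chunk695, chunk696, chunk697, chunk698, chunk699, chunk700, chunk701, chunk702, chunk703, chunk704, chunk705, chunk706, chunk707, chunk708, chunk709, chunk710, chunk711, chunk712, chunk713, chunk714, chunk715, chunk716, chunk717, chunk718, chunk719, chunk720, chunk721, chunk722, chunk723, chunk724, chunk725, chunk726, chunk727, chunk728, chunk729, chunk730, chunk731, chunk732, chunk733, chunk734, chunk735, chunk736, chunk737, chunk738, chunk739, chunk740, chunk741, chunk742, chunk743, chunk744, chunk745, chunk746, chunk747, chunk748, chunk749, chunk750, chunk751, chunk752, chunk753, chunk754, chunk755, chunk756, chunk757, chunk758, chunk759, chunk760, chunk761, chunk762, chunk763, chunk764, chunk765, chunk766, chunk767, chunk768, chunk769, chunk770, chunk771, chunk772, chunk773, chunk774, chunk775, chunk776, chunk777,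 chunk778, chunk779, chunk780, chunk781, chunk782, chunk783, chunk784, chunk785, chunk786, chunk787, chunk788, chunk789, chunk790, chunk791, chunk792, chunk793, chunk794, chunk795, chunk796, chunk797, chunk798, chunk799, chunk800, chunk801, chunk802, chunk803, chunk804, chunk805, chunk806, chunk807, chunk808, chunk809, chunk810, chunk811, chunk812, chunk813, chunk814, chunk815, chunk816, chunk817, chunk818, chunk819, chunk820, chunk821, chunk822, chunk823, chunk824, chunk825, chunk826, chunk827, chunk828, chunk829, chunk830, chunk831, chunk832, chunk833, chunk834, chunk835, chunk836, chunk837, chunk838, chunk839, chunk840, chunk841, chunk842, chunk843, chunk844, chunk845, chunk846, chunk847, chunk848, chunk849, chunk850, chunk851, chunk852, chunk853, chunk854, chunk855, chunk856, chunk857, chunk858, chunk859, chunk860, chunk861, chunk862, chunk863, chunk864, chunk865, chunk866, chunk867, chunk868, chunk869, chunk870, chunk871, chunk872, chunk873, chunk874, chunk875, chunk876, chunk877, chunk878, chunk879, chunk880, chunk881, chunk882, chunk883, chunk884, chunk885, chunk886, chunk887, chunk888, chunk889, chunk890, chunk891,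 chunk892, chunk893, chunk894, chunk895, chunk896, chunk897, chunk898, chunk899, chunk900, chunk901, chunk902, chunk903, chunk904, chunk905, chunk906, chunk907, chunk908, chunk909, chunk910, chunk911, chunk912, chunk913, chunk914, chunk915, chunk916, chunk917, chunk918, chunk919, chunk920, chunk921, chunk922, chunk923, chunk924, chunk925, chunk926, chunk927, chunk928, chunk929, chunk930, chunk931, chunk932, chunk933, chunk934, chunk935, chunk936, chunk937, chunk938, chunk939, chunk940, chunk941, chunk942, chunk943, chunk944, chunk945, chunk946, chunk947, chunk948, chunk949, chunk950, chunk951, chunk952, chunk953, chunk954, chunk955, chunk956, chunk957, chunk958, chunk959, chunk960, chunk961, chunk962, chunk963, chunk964, chunk965, chunk966, chunk967, chunk968, chunk969, chunk970, chunk971, chunk972, chunk973, chunk974, chunk975, chunk976, chunk977, chunk978, chunk979, chunk980, chunk981, chunk982, chunk983, chunk984, chunk985, chunk986, chunk987, chunk988, chunk989, chunk990, chunk991, chunk992, chunk993, chunk994, chunk995, chunk996, chunk997, chunk998, chunk999, chunk1000, chunk1001, chunk1002, chunk1003, chunk1004, chunk1005,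 chunk1006, chunk1007, chunk1008, chunk1009, chunk1010, chunk1011, chunk1012, chunk1013, chunk1014, chunk1015, chunk1016, chunk1017, chunk1018, chunk1019, chunk1020, chunk1021, chunk1022, chunk1023, chunk1024, chunk1025, chunk1026, chunk1027, chunk1028, chunk1029, chunk1030, chunk1031, chunk1032, chunk1033, chunk1034, chunk1035, chunk1036, chunk1037, chunk1038, chunk1039, chunk1040, chunk1041, chunk1042, chunk1043, chunk1044, chunk1045, chunk1046, chunk1047, chunk1048, chunk1049, chunk1050, chunk1051, chunk1052, chunk1053, chunk1054, chunk1055, chunk1056, chunk1057, chunk1058, chunk1059, chunk1060, chunk1061, chunk1062, chunk1063, chunk1064, chunk1065, chunk1066, chunk1067, chunk1068, chunk1069, chunk1070, chunk1071, chunk1072, chunk1073, chunk1074, chunk1075, chunk1076, chunk1077, chunk1078, chunk1079, chunk1080, chunk1081, chunk1082, chunk1083, chunk1084, chunk1085, chunk1086, chunk1087, chunk1088, chunk1089, chunk1090, chunk1091, chunk1092, chunk1093, chunk1094, chunk1095, chunk1096, chunk1097, chunk1098, chunk1099, chunk1100, chunk1101, chunk1102, chunk1103, chunk1104, chunk1105, chunk1106, chunk1107, chunk1108, chunk1109,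 chunk1110, chunk1111, chunk1112, chunk1113, chunk1114, chunk1115, chunk1116, chunk1117, chunk1118, chunk1119, chunk1120, chunk1121, chunk1122, chunk1123, chunk1124, chunk1125, chunk1126, chunk1127, chunk1128, chunk1129, chunk1130, chunk1131, chunk1132, chunk1133, chunk1134⟩

end Cfsg.Agent.Lib.Helper12.TCG.Fi24x306936
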