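import Cfsg.Agent.Lib.Helper12.TCG.Fi24x306936.TabT
import Cfsg.Agent.Lib.Helper12.TCG.Fi24x306936.Tab
import Cfsg.Agent.Lib.Helper12.TC.Fn.Ranges2

/-! relator checks for Fi24x306936, part 10 (generated, helper12) -/

set_option autoImplicit false
set_option maxRecDepth 100000
set_option Elab.async false

namespace Cfsg.Agent.Lib.Helper12.TCG.Fi24x306936

open Cfsg.Agent.Lib.Helper12.TC Cfsg.Agent.Lib.Helper12.TCG

theorem hm1_10 : Fn.fixRangeK TT (wpow [0, 2] 2) 169436 12500 = true := by decide +kernel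

theorem hm7_10 : Fn.fixRangeK TT (wpow [1, 4] 2) 169436 12500 = true := by decide +kernel

theorem hm9_29 : Fn.fixRangeK TT (wpow [3, 4] 3) 56946 8333 = true := by decide +kernel

theorem hm12_10 : Fn.fixRangeK TT (wpow [2, 5] 2) 169436 12500 = true := by decide +kernel

theorem hm17_10 : Fn.fixRangeK TT (wpow [2, 6] 2) 169436 12500 = true := by decide +kernel

theorem hm22_10 : Fn.fixRangeK TT (wpow [1, 7] 2) 169436 12500 = true := by decide +kernel

theorem hm26_10 : Fn.fixRangeK TT (wpow [5, 7] 2) 169436 12500 = true := by decide +kernel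

theorem hm27_17 : Fn.fixRangeK TT (wpow [6, 7] 3) 156942 8333 = true := by decide +kernel

theorem hm31_10 : Fn.fixRangeK TT (wpow [3, 8] 2) 169436 12500 = true := by decide +kernel

theorem hm36_10 : Fn.fixRangeK TT (wpow [0, 9] 2) 169436 12500 = true := by decide +kernel

theorem hm39_24 : Fn.fixRangeK TT (wpow [3, 9] 2) 0 6936 = true := by decide +kernel

theorem hm40_10 : Fn.fixRangeK TT (wpow [4, 9] 2) 169436 12500 = true := by decide +kernel

theorem hm45_10 : Fn.fixRangeK TT (wpow [0, 10] 2) 169436 12500 = true := by decide +kernel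

theorem hm49_10 : Fn.fixRangeK TT (wpow [4, 10] 2) 169436 12500 = true := by decide +kernel

theorem hm50_5 : Fn.fixRangeK TT (wpow [5, 10] 3) 256938 8333 = true := by decide +kernel

theorem hm54_10 : Fn.fixRangeK TT (wpow [9, 10] 2) 169436 12500 = true := by decide +kernel

theorem hm58_10 : Fn.fixRangeK TT (wpow [3, 11] 2) 169436 12500 = true := by decide +kernel

theorem hm62_10 : Fn.fixRangeK TT (wpow [7, 11] 2) 169436 12500 = true := by decide +kernel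

theorem hm66_104 : Fn.fixRangeK TT (wpow [0, 10, 7, 6, 5, 4, 3, 2, 10, 7, 6, 5, 4, 3, 2, 10, 7, 6, 5, 4, 3, 2, 10, 7, 6, 5, 4, 3, 2, 10, 7, 6, 5, 4, 3, 2, 10, 7, 6, 5, 4, 3, 2, 10, 7, 6, 5, 4, 3, 2, 10, 7, 6, 5, 4, 3, 2, 10, 7, 6, 5, 4, 3, 2] 1) 224931 781 = true := by decide +kernel

theorem hm66_200 : Fn.fixRangeK TT (wpow [0, 10, 7, 6, 5, 4, 3, 2, 10, 7, 6, 5, 4, 3, 2, 10, 7, 6, 5, 4, 3, 2, 10, 7, 6, 5, 4, 3, 2, 10, 7, 6, 5, 4, 3, 2, 10, 7, 6, 5, 4, 3, 2, 10, 7, 6, 5, 4, 3, 2, 10, 7, 6, 5, 4, 3, 2, 10, 7, 6, 5, 4, 3, 2] 1) 149955 781 = true := by decide +kernel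

theorem hm66_296 : Fn.fixRangeK TT (wpow [0, 10, 7, 6, 5, 4, 3, 2, 10, 7, 6, 5, 4, 3, 2, 10, 7, 6, 5, 4, 3, 2, 10, 7, 6, 5, 4, 3, 2, 10, 7, 6, 5, 4, 3, 2, 10, 7, 6, 5, 4, 3, 2, 10, 7, 6, 5, 4, 3, 2, 10, 7, 6, 5, 4, 3, 2, 10, 7, 6, 5, 4, 3, 2] 1) 74979 781 = true := by decide +kernel

theorem hm66_392 : Fn.fixRangeK TT (wpow [0, 10, 7, 6, 5, 4, 3, 2, 10, 7, 6, 5, 4, 3, 2, 10, 7, 6, 5, 4, 3, 2, 10, 7, 6, 5, 4, 3, 2, 10, 7, 6, 5, 4, 3, 2, 10, 7, 6, 5, 4, 3, 2, 10, 7, 6, 5, 4, 3, 2, 10, 7, 6, 5, 4, 3, 2, 10, 7, 6, 5, 4, 3, 2] 1) 3 781 = true := by decide +kernel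

theorem hm67_20 : Fn.fixRangeK TT (wpow [13, 5, 4, 3, 2, 1, 0, 5, 6, 7, 8, 9, 5, 10, 11] 1) 236943 3333 = true := by decide +kernel

theorem hm67_59 : Fn.fixRangeK TT (wpow [13, 5, 4, 3, 2, 1, 0, 5, 6, 7, 8, 9, 5, 10, 11] 1) 106956 3333 = true := by decide +kernel

theorem hm68_29 : Fn.fixRangeK TT (wpow [12] 17) 218706 2941 = true := by decide +kernel

theorem hm71_10 : Fn.fixRangeK TT (wpow [2] 2) 31936 25000 = true := by decide +kernel

theorem hm79_10 : Fn.fixRangeK TT (wpow [10] 2) 31936 25000 = true := by decide +kernel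

theorem horbi1_8_5 : Fn.allRangeK (Fn.invP TT [11] 1 275265) 250001 25264 = true := by decide +kernel

theorem horbi1_10_2 : Fn.allRangeK (Fn.invP TT [0] 1 275265) 100001 50000 = true := by decide +kernel

theorem hperm6_9 : permPartG 18360536419842404880 TT 6 tN 147456 16384 = true := by decide +kernel

theorem hperm11_15 : permPartG 18360536419842404880 TT 11 tN 245760 16384 = true := by decide +kernel

end Cfsg.Agent.Lib.Helper12.TCG.Fi24x306936
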