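import Cfsg.Agent.Lib.Helper12.TCG.Fi24x306936.TabT
import Cfsg.Agent.Lib.Helper12.TCG.Fi24x306936.Tab
import Cfsg.Agent.Lib.Helper12.TC.Fn.Ranges2

/-! relator checks for Fi24x306936, part 11 (generated, helper12) -/

set_option autoImplicit false
set_option maxRecDepth 100000
set_option Elab.async false

namespace Cfsg.Agent.Lib.Helper12.TCG.Fi24x306936

open Cfsg.Agent.Lib.Helper12.TC Cfsg.Agent.Lib.Helper12.TCG

theorem hm0_36 : Fn.fixRangeK TT (wpow [0, 1] 3) 0 6948 = true := by decide +kernel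

theorem hm1_11 : Fn.fixRangeK TT (wpow [0, 2] 2) 156936 12500 = true := by decide +kernel

theorem hm7_11 : Fn.fixRangeK TT (wpow [1, 4] 2) 156936 12500 = true := by decide +kernel

theorem hm9_30 : Fn.fixRangeK TT (wpow [3, 4] 3) 48613 8333 = true := by decide +kernel

theorem hm12_11 : Fn.fixRangeK TT (wpow [2, 5] 2) 156936 12500 = true := by decide +kernel

theorem hm17_11 : Fn.fixRangeK TT (wpow [2, 6] 2) 156936 12500 = true := by decide +kernel

theorem hm22_11 : Fn.fixRangeK TT (wpow [1, 7] 2) 156936 12500 = true := by decide +kernel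

theorem hm26_11 : Fn.fixRangeK TT (wpow [5, 7] 2) 156936 12500 = true := by decide +kernel

theorem hm27_18 : Fn.fixRangeK TT (wpow [6, 7] 3) 148609 8333 = true := by decide +kernel

theorem hm31_11 : Fn.fixRangeK TT (wpow [3, 8] 2) 156936 12500 = true := by decide +kernel

theorem hm36_11 : Fn.fixRangeK TT (wpow [0, 9] 2) 156936 12500 = true := by decide +kernel

theorem hm40_11 : Fn.fixRangeK TT (wpow [4, 9] 2) 156936 12500 = true := by decide +kernel

theorem hm45_11 : Fn.fixRangeK TT (wpow [0, 10] 2) 156936 12500 = true := by decide +kernel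

theorem hm49_11 : Fn.fixRangeK TT (wpow [4, 10] 2) 156936 12500 = true := by decide +kernel

theorem hm50_6 : Fn.fixRangeK TT (wpow [5, 10] 3) 248605 8333 = true := by decide +kernel

theorem hm54_11 : Fn.fixRangeK TT (wpow [9, 10] 2) 156936 12500 = true := by decide +kernel

theorem hm58_11 : Fn.fixRangeK TT (wpow [3, 11] 2) 156936 12500 = true := by decide +kernel

theorem hm62_11 : Fn.fixRangeK TT (wpow [7, 11] 2) 156936 12500 = true := by decide +kernel

theorem hm66_105 : Fn.fixRangeK TT (wpow [0, 10, 7, 6, 5, 4, 3, 2, 10, 7, 6, 5, 4, 3, 2, 10, 7, 6, 5, 4, 3, 2, 10, 7, 6, 5, 4, 3, 2, 10, 7, 6, 5, 4, 3, 2, 10, 7, 6, 5, 4, 3, 2, 10, 7, 6, 5, 4, 3, 2, 10, 7, 6, 5, 4, 3, 2, 10, 7, 6, 5, 4, 3, 2] 1) 224150 781 = true := by decide +kernel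

theorem hm66_201 : Fn.fixRangeK TT (wpow [0, 10, 7, 6, 5, 4, 3, 2, 10, 7, 6, 5, 4, 3, 2, 10, 7, 6, 5, 4, 3, 2, 10, 7, 6, 5, 4, 3, 2, 10, 7, 6, 5, 4, 3, 2, 10, 7, 6, 5, 4, 3, 2, 10, 7, 6, 5, 4, 3, 2, 10, 7, 6, 5, 4, 3, 2, 10, 7, 6, 5, 4, 3, 2] 1) 149174 781 = true := by decide +kernel

theorem hm66_297 : Fn.fixRangeK TT (wpow [0, 10, 7, 6, 5, 4, 3, 2, 10, 7, 6, 5, 4, 3, 2, 10, 7, 6, 5, 4, 3, 2, 10, 7, 6, 5, 4, 3, 2, 10, 7, 6, 5, 4, 3, 2, 10, 7, 6, 5, 4, 3, 2, 10, 7, 6, 5, 4, 3, 2, 10, 7, 6, 5, 4, 3, 2, 10, 7, 6, 5, 4, 3, 2] 1) 74198 781 = true := by decide +kernel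

theorem hm67_21 : Fn.fixRangeK TT (wpow [13, 5, 4, 3, 2, 1, 0, 5, 6, 7, 8, 9, 5, 10, 11] 1) 233610 3333 = true := by decide +kernel

theorem hm67_60 : Fn.fixRangeK TT (wpow [13, 5, 4, 3, 2, 1, 0, 5, 6, 7, 8, 9, 5, 10, 11] 1) 103623 3333 = true := by decide +kernel

theorem hm68_30 : Fn.fixRangeK TT (wpow [12] 17) 215765 2941 = true := by decide +kernel

theorem hm71_11 : Fn.fixRangeK TT (wpow [2] 2) 6936 25000 = true := by decide +kernel

theorem hm79_11 : Fn.fixRangeK TT (wpow [10] 2) 6936 25000 = true := by decide +kernel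

theorem horbi1_10_3 : Fn.allRangeK (Fn.invP TT [0] 1 275265) 150001 50000 = true := by decide +kernel

theorem hperm2_8 : permPartG 18360536419842404880 TT 2 tN 131072 16384 = true := by decide +kernel

theorem hperm7_14 : permPartG 18360536419842404880 TT 7 tN 229376 16384 = true := by decide +kernel

theorem hperm13_2 : permPartG 18360536419842404880 TT 13 tN 32768 16384 = true := by decide +kernel

end Cfsg.Agent.Lib.Helper12.TCG.Fi24x306936
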