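import Cfsg.Agent.Lib.Helper12.TCG.Fi24x306936.TabT
import Cfsg.Agent.Lib.Helper12.TCG.Fi24x306936.Tab
import Cfsg.Agent.Lib.Helper12.TC.Fn.Ranges2

/-! relator checks for Fi24x306936, part 12 (generated, helper12) -/

set_option autoImplicit false
set_option maxRecDepth 100000
set_option Elab.async false

namespace Cfsg.Agent.Lib.Helper12.TCG.Fi24x306936

open Cfsg.Agent.Lib.Helper12.TC Cfsg.Agent.Lib.Helper12.TCG

theorem hm1_12 : Fn.fixRangeK TT (wpow [0, 2] 2) 144436 12500 = true := by decide +kernel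

theorem hm2_36 : Fn.fixRangeK TT (wpow [1, 2] 3) 0 6948 = true := by decide +kernel

theorem hm7_12 : Fn.fixRangeK TT (wpow [1, 4] 2) 144436 12500 = true := by decide +kernel

theorem hm9_31 : Fn.fixRangeK TT (wpow [3, 4] 3) 40280 8333 = true := by decide +kernel

theorem hm12_12 : Fn.fixRangeK TT (wpow [2, 5] 2) 144436 12500 = true := by decide +kernel

theorem hm17_12 : Fn.fixRangeK TT (wpow [2, 6] 2) 144436 12500 = true := by decide +kernel

theorem hm22_12 : Fn.fixRangeK TT (wpow [1, 7] 2) 144436 12500 = true := by decide +kernel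

theorem hm26_12 : Fn.fixRangeK TT (wpow [5, 7] 2) 144436 12500 = true := by decide +kernel

theorem hm27_19 : Fn.fixRangeK TT (wpow [6, 7] 3) 140276 8333 = true := by decide +kernel

theorem hm31_12 : Fn.fixRangeK TT (wpow [3, 8] 2) 144436 12500 = true := by decide +kernel

theorem hm36_12 : Fn.fixRangeK TT (wpow [0, 9] 2) 144436 12500 = true := by decide +kernel

theorem hm40_12 : Fn.fixRangeK TT (wpow [4, 9] 2) 144436 12500 = true := by decide +kernel

theorem hm45_12 : Fn.fixRangeK TT (wpow [0, 10] 2) 144436 12500 = true := by decide +kernel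

theorem hm49_12 : Fn.fixRangeK TT (wpow [4, 10] 2) 144436 12500 = true := by decide +kernel

theorem hm50_7 : Fn.fixRangeK TT (wpow [5, 10] 3) 240272 8333 = true := by decide +kernel

theorem hm54_12 : Fn.fixRangeK TT (wpow [9, 10] 2) 144436 12500 = true := by decide +kernel

theorem hm58_12 : Fn.fixRangeK TT (wpow [3, 11] 2) 144436 12500 = true := by decide +kernel

theorem hm62_12 : Fn.fixRangeK TT (wpow [7, 11] 2) 144436 12500 = true := by decide +kernel

theorem hm66_106 : Fn.fixRangeK TT (wpow [0, 10, 7, 6, 5, 4, 3, 2, 10, 7, 6, 5, 4, 3, 2, 10, 7, 6, 5, 4, 3, 2, 10, 7, 6, 5, 4, 3, 2, 10, 7, 6, 5, 4, 3, 2, 10, 7, 6, 5, 4, 3, 2, 10, 7, 6, 5, 4, 3, 2, 10, 7, 6, 5, 4, 3, 2, 10, 7, 6, 5, 4, 3, 2] 1) 223369 781 = true := by decide +kernel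

theorem hm66_202 : Fn.fixRangeK TT (wpow [0, 10, 7, 6, 5, 4, 3, 2, 10, 7, 6, 5, 4, 3, 2, 10, 7, 6, 5, 4, 3, 2, 10, 7, 6, 5, 4, 3, 2, 10, 7, 6, 5, 4, 3, 2, 10, 7, 6, 5, 4, 3, 2, 10, 7, 6, 5, 4, 3, 2, 10, 7, 6, 5, 4, 3, 2, 10, 7, 6, 5, 4, 3, 2] 1) 148393 781 = true := by decide +kernel

theorem hm66_298 : Fn.fixRangeK TT (wpow [0, 10, 7, 6, 5, 4, 3, 2, 10, 7, 6, 5, 4, 3, 2, 10, 7, 6, 5, 4, 3, 2, 10, 7, 6, 5, 4, 3, 2, 10, 7, 6, 5, 4, 3, 2, 10, 7, 6, 5, 4, 3, 2, 10, 7, 6, 5, 4, 3, 2, 10, 7, 6, 5, 4, 3, 2, 10, 7, 6, 5, 4, 3, 2] 1) 73417 781 = true := by decide +kernel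

theorem hm67_22 : Fn.fixRangeK TT (wpow [13, 5, 4, 3, 2, 1, 0, 5, 6, 7, 8, 9, 5, 10, 11] 1) 230277 3333 = true := by decide +kernel

theorem hm67_61 : Fn.fixRangeK TT (wpow [13, 5, 4, 3, 2, 1, 0, 5, 6, 7, 8, 9, 5, 10, 11] 1) 100290 3333 = true := by decide +kernel

theorem hm68_31 : Fn.fixRangeK TT (wpow [12] 17) 212824 2941 = true := by decide +kernel

theorem hm72_0 : Fn.fixRangeK TT (wpow [3] 2) 281936 25000 = true := by decide +kernel

theorem hm80_0 : Fn.fixRangeK TT (wpow [11] 2) 281936 25000 = true := by decide +kernel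

theorem horbi1_10_4 : Fn.allRangeK (Fn.invP TT [0] 1 275265) 200001 50000 = true := by decide +kernel

theorem hperm2_9 : permPartG 18360536419842404880 TT 2 tN 147456 16384 = true := by decide +kernel

theorem hperm7_15 : permPartG 18360536419842404880 TT 7 tN 245760 16384 = true := by decide +kernel

theorem hperm13_3 : permPartG 18360536419842404880 TT 13 tN 49152 16384 = true := by decide +kernel

end Cfsg.Agent.Lib.Helper12.TCG.Fi24x306936
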