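import Cfsg.Agent.Lib.Helper12.TCG.Fi24x306936.TabT
import Cfsg.Agent.Lib.Helper12.TCG.Fi24x306936.Tab
import Cfsg.Agent.Lib.Helper12.TC.Fn.Ranges2

/-! relator checks for Fi24x306936, part 16 (generated, helper12) -/

set_option autoImplicit false
set_option maxRecDepth 100000
set_option Elab.async false

namespace Cfsg.Agent.Lib.Helper12.TCG.Fi24x306936

open Cfsg.Agent.Lib.Helper12.TC Cfsg.Agent.Lib.Helper12.TCG

theorem horbc1_4 : Fn.allRangeK (Fn.connP TT sw 1) 93895 24525 = true := by decide +kernel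

theorem hm1_16 : Fn.fixRangeK TT (wpow [0, 2] 2) 94436 12500 = true := by decide +kernel

theorem hm7_16 : Fn.fixRangeK TT (wpow [1, 4] 2) 94436 12500 = true := by decide +kernel

theorem hm9_35 : Fn.fixRangeK TT (wpow [3, 4] 3) 6948 8333 = true := by decide +kernel

theorem hm12_16 : Fn.fixRangeK TT (wpow [2, 5] 2) 94436 12500 = true := by decide +kernel

theorem hm17_16 : Fn.fixRangeK TT (wpow [2, 6] 2) 94436 12500 = true := by decide +kernel

theorem hm20_36 : Fn.fixRangeK TT (wpow [5, 6] 3) 0 6948 = true := by decide +kernel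

theorem hm22_16 : Fn.fixRangeK TT (wpow [1, 7] 2) 94436 12500 = true := by decide +kernel

theorem hm26_16 : Fn.fixRangeK TT (wpow [5, 7] 2) 94436 12500 = true := by decide +kernel

theorem hm27_23 : Fn.fixRangeK TT (wpow [6, 7] 3) 106944 8333 = true := by decide +kernel

theorem hm31_16 : Fn.fixRangeK TT (wpow [3, 8] 2) 94436 12500 = true := by decide +kernel

theorem hm36_16 : Fn.fixRangeK TT (wpow [0, 9] 2) 94436 12500 = true := by decide +kernel

theorem hm40_16 : Fn.fixRangeK TT (wpow [4, 9] 2) 94436 12500 = true := by decide +kernel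

theorem hm45_16 : Fn.fixRangeK TT (wpow [0, 10] 2) 94436 12500 = true := by decide +kernel

theorem hm49_16 : Fn.fixRangeK TT (wpow [4, 10] 2) 94436 12500 = true := by decide +kernel

theorem hm50_11 : Fn.fixRangeK TT (wpow [5, 10] 3) 206940 8333 = true := by decide +kernel

theorem hm54_16 : Fn.fixRangeK TT (wpow [9, 10] 2) 94436 12500 = true := by decide +kernel

theorem hm58_16 : Fn.fixRangeK TT (wpow [3, 11] 2) 94436 12500 = true := by decide +kernel

theorem hm62_16 : Fn.fixRangeK TT (wpow [7, 11] 2) 94436 12500 = true := by decide +kernel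

theorem hm66_110 : Fn.fixRangeK TT (wpow [0, 10, 7, 6, 5, 4, 3, 2, 10, 7, 6, 5, 4, 3, 2, 10, 7, 6, 5, 4, 3, 2, 10, 7, 6, 5, 4, 3, 2, 10, 7, 6, 5, 4, 3, 2, 10, 7, 6, 5, 4, 3, 2, 10, 7, 6, 5, 4, 3, 2, 10, 7, 6, 5, 4, 3, 2, 10, 7, 6, 5, 4, 3, 2] 1) 220245 781 = true := by decide +kernel

theorem hm66_206 : Fn.fixRangeK TT (wpow [0, 10, 7, 6, 5, 4, 3, 2, 10, 7, 6, 5, 4, 3, 2, 10, 7, 6, 5, 4, 3, 2, 10, 7, 6, 5, 4, 3, 2, 10, 7, 6, 5, 4, 3, 2, 10, 7, 6, 5, 4, 3, 2, 10, 7, 6, 5, 4, 3, 2, 10, 7, 6, 5, 4, 3, 2, 10, 7, 6, 5, 4, 3, 2] 1) 145269 781 = true := by decide +kernel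

theorem hm66_302 : Fn.fixRangeK TT (wpow [0, 10, 7, 6, 5, 4, 3, 2, 10, 7, 6, 5, 4, 3, 2, 10, 7, 6, 5, 4, 3, 2, 10, 7, 6, 5, 4, 3, 2, 10, 7, 6, 5, 4, 3, 2, 10, 7, 6, 5, 4, 3, 2, 10, 7, 6, 5, 4, 3, 2, 10, 7, 6, 5, 4, 3, 2, 10, 7, 6, 5, 4, 3, 2] 1) 70293 781 = true := by decide +kernel

theorem hm67_26 : Fn.fixRangeK TT (wpow [13, 5, 4, 3, 2, 1, 0, 5, 6, 7, 8, 9, 5, 10, 11] 1) 216945 3333 = true := by decide +kernel

theorem hm67_65 : Fn.fixRangeK TT (wpow [13, 5, 4, 3, 2, 1, 0, 5, 6, 7, 8, 9, 5, 10, 11] 1) 86958 3333 = true := by decide +kernel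

theorem hm68_35 : Fn.fixRangeK TT (wpow [12] 17) 201060 2941 = true := by decide +kernel

theorem hm72_4 : Fn.fixRangeK TT (wpow [3] 2) 181936 25000 = true := by decide +kernel

theorem hm80_4 : Fn.fixRangeK TT (wpow [11] 2) 181936 25000 = true := by decide +kernel

theorem hperm2_13 : permPartG 18360536419842404880 TT 2 tN 212992 16384 = true := by decide +kernel

theorem hperm8_1 : permPartG 18360536419842404880 TT 8 tN 16384 16384 = true := by decide +kernel

theorem hperm13_7 : permPartG 18360536419842404880 TT 13 tN 114688 16384 = true := by decide +kernel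

end Cfsg.Agent.Lib.Helper12.TCG.Fi24x306936
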