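import Cfsg.Agent.Lib.Helper12.TCG.Fi24x306936.TabT
import Cfsg.Agent.Lib.Helper12.TCG.Fi24x306936.Tab
import Cfsg.Agent.Lib.Helper12.TC.Fn.Ranges2

/-! relator checks for Fi24x306936, part 18 (generated, helper12) -/

set_option autoImplicit false
set_option maxRecDepth 100000
set_option Elab.async false

namespace Cfsg.Agent.Lib.Helper12.TCG.Fi24x306936

open Cfsg.Agent.Lib.Helper12.TC Cfsg.Agent.Lib.Helper12.TCG

theorem horbc1_7 : Fn.allRangeK (Fn.connP TT sw 1) 169015 25234 = true := by decide +kernel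

theorem hm1_18 : Fn.fixRangeK TT (wpow [0, 2] 2) 69436 12500 = true := by decide +kernel

theorem hm7_18 : Fn.fixRangeK TT (wpow [1, 4] 2) 69436 12500 = true := by decide +kernel

theorem hm12_18 : Fn.fixRangeK TT (wpow [2, 5] 2) 69436 12500 = true := by decide +kernel

theorem hm14_1 : Fn.fixRangeK TT (wpow [4, 5] 3) 290270 8333 = true := by decide +kernel

theorem hm17_18 : Fn.fixRangeK TT (wpow [2, 6] 2) 69436 12500 = true := by decide +kernel

theorem hm22_18 : Fn.fixRangeK TT (wpow [1, 7] 2) 69436 12500 = true := by decide +kernel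

theorem hm26_18 : Fn.fixRangeK TT (wpow [5, 7] 2) 69436 12500 = true := by decide +kernel

theorem hm27_25 : Fn.fixRangeK TT (wpow [6, 7] 3) 90278 8333 = true := by decide +kernel

theorem hm31_18 : Fn.fixRangeK TT (wpow [3, 8] 2) 69436 12500 = true := by decide +kernel

theorem hm35_36 : Fn.fixRangeK TT (wpow [7, 8] 3) 0 6948 = true := by decide +kernel

theorem hm36_18 : Fn.fixRangeK TT (wpow [0, 9] 2) 69436 12500 = true := by decide +kernel

theorem hm40_18 : Fn.fixRangeK TT (wpow [4, 9] 2) 69436 12500 = true := by decide +kernel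

theorem hm45_18 : Fn.fixRangeK TT (wpow [0, 10] 2) 69436 12500 = true := by decide +kernel

theorem hm49_18 : Fn.fixRangeK TT (wpow [4, 10] 2) 69436 12500 = true := by decide +kernel

theorem hm50_13 : Fn.fixRangeK TT (wpow [5, 10] 3) 190274 8333 = true := by decide +kernel

theorem hm54_18 : Fn.fixRangeK TT (wpow [9, 10] 2) 69436 12500 = true := by decide +kernel

theorem hm58_18 : Fn.fixRangeK TT (wpow [3, 11] 2) 69436 12500 = true := by decide +kernel

theorem hm62_18 : Fn.fixRangeK TT (wpow [7, 11] 2) 69436 12500 = true := by decide +kernel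

theorem hm66_112 : Fn.fixRangeK TT (wpow [0, 10, 7, 6, 5, 4, 3, 2, 10, 7, 6, 5, 4, 3, 2, 10, 7, 6, 5, 4, 3, 2, 10, 7, 6, 5, 4, 3, 2, 10, 7, 6, 5, 4, 3, 2, 10, 7, 6, 5, 4, 3, 2, 10, 7, 6, 5, 4, 3, 2, 10, 7, 6, 5, 4, 3, 2, 10, 7, 6, 5, 4, 3, 2] 1) 218683 781 = true := by decide +kernel

theorem hm66_208 : Fn.fixRangeK TT (wpow [0, 10, 7, 6, 5, 4, 3, 2, 10, 7, 6, 5, 4, 3, 2, 10, 7, 6, 5, 4, 3, 2, 10, 7, 6, 5, 4, 3, 2, 10, 7, 6, 5, 4, 3, 2, 10, 7, 6, 5, 4, 3, 2, 10, 7, 6, 5, 4, 3, 2, 10, 7, 6, 5, 4, 3, 2, 10, 7, 6, 5, 4, 3, 2] 1) 143707 781 = true := by decide +kernel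

theorem hm66_304 : Fn.fixRangeK TT (wpow [0, 10, 7, 6, 5, 4, 3, 2, 10, 7, 6, 5, 4, 3, 2, 10, 7, 6, 5, 4, 3, 2, 10, 7, 6, 5, 4, 3, 2, 10, 7, 6, 5, 4, 3, 2, 10, 7, 6, 5, 4, 3, 2, 10, 7, 6, 5, 4, 3, 2, 10, 7, 6, 5, 4, 3, 2, 10, 7, 6, 5, 4, 3, 2] 1) 68731 781 = true := by decide +kernel

theorem hm67_28 : Fn.fixRangeK TT (wpow [13, 5, 4, 3, 2, 1, 0, 5, 6, 7, 8, 9, 5, 10, 11] 1) 210279 3333 = true := by decide +kernel

theorem hm67_67 : Fn.fixRangeK TT (wpow [13, 5, 4, 3, 2, 1, 0, 5, 6, 7, 8, 9, 5, 10, 11] 1) 80292 3333 = true := by decide +kernel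

theorem hm68_37 : Fn.fixRangeK TT (wpow [12] 17) 195178 2941 = true := by decide +kernel

theorem hm72_6 : Fn.fixRangeK TT (wpow [3] 2) 131936 25000 = true := by decide +kernel

theorem hm80_6 : Fn.fixRangeK TT (wpow [11] 2) 131936 25000 = true := by decide +kernel

theorem hperm2_15 : permPartG 18360536419842404880 TT 2 tN 245760 16384 = true := by decide +kernel

theorem hperm8_3 : permPartG 18360536419842404880 TT 8 tN 49152 16384 = true := by decide +kernel

theorem hperm13_9 : permPartG 18360536419842404880 TT 13 tN 147456 16384 = true := by decide +kernel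

end Cfsg.Agent.Lib.Helper12.TCG.Fi24x306936
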