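import Cfsg.Agent.Lib.Helper12.TCG.Fi24x306936.TabT
import Cfsg.Agent.Lib.Helper12.TCG.Fi24x306936.Tab
import Cfsg.Agent.Lib.Helper12.TC.Fn.Ranges2

/-! relator checks for Fi24x306936, part 20 (generated, helper12) -/

set_option autoImplicit false
set_option maxRecDepth 100000
set_option Elab.async false

namespace Cfsg.Agent.Lib.Helper12.TCG.Fi24x306936

open Cfsg.Agent.Lib.Helper12.TC Cfsg.Agent.Lib.Helper12.TCG

theorem horbc1_10 : Fn.allRangeK (Fn.connP TT sw 1) 246712 28441 = true := by decide +kernel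

theorem hm1_20 : Fn.fixRangeK TT (wpow [0, 2] 2) 44436 12500 = true := by decide +kernel

theorem hm7_20 : Fn.fixRangeK TT (wpow [1, 4] 2) 44436 12500 = true := by decide +kernel

theorem hm12_20 : Fn.fixRangeK TT (wpow [2, 5] 2) 44436 12500 = true := by decide +kernel

theorem hm14_3 : Fn.fixRangeK TT (wpow [4, 5] 3) 273604 8333 = true := by decide +kernel

theorem hm17_20 : Fn.fixRangeK TT (wpow [2, 6] 2) 44436 12500 = true := by decide +kernel

theorem hm22_20 : Fn.fixRangeK TT (wpow [1, 7] 2) 44436 12500 = true := by decide +kernel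

theorem hm26_20 : Fn.fixRangeK TT (wpow [5, 7] 2) 44436 12500 = true := by decide +kernel

theorem hm27_27 : Fn.fixRangeK TT (wpow [6, 7] 3) 73612 8333 = true := by decide +kernel

theorem hm31_20 : Fn.fixRangeK TT (wpow [3, 8] 2) 44436 12500 = true := by decide +kernel

theorem hm36_20 : Fn.fixRangeK TT (wpow [0, 9] 2) 44436 12500 = true := by decide +kernel

theorem hm40_20 : Fn.fixRangeK TT (wpow [4, 9] 2) 44436 12500 = true := by decide +kernel

theorem hm45_20 : Fn.fixRangeK TT (wpow [0, 10] 2) 44436 12500 = true := by decide +kernel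

theorem hm49_20 : Fn.fixRangeK TT (wpow [4, 10] 2) 44436 12500 = true := by decide +kernel

theorem hm50_15 : Fn.fixRangeK TT (wpow [5, 10] 3) 173608 8333 = true := by decide +kernel

theorem hm50_36 : Fn.fixRangeK TT (wpow [5, 10] 3) 0 6948 = true := by decide +kernel

theorem hm54_20 : Fn.fixRangeK TT (wpow [9, 10] 2) 44436 12500 = true := by decide +kernel

theorem hm58_20 : Fn.fixRangeK TT (wpow [3, 11] 2) 44436 12500 = true := by decide +kernel

theorem hm62_20 : Fn.fixRangeK TT (wpow [7, 11] 2) 44436 12500 = true := by decide +kernel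

theorem hm66_114 : Fn.fixRangeK TT (wpow [0, 10, 7, 6, 5, 4, 3, 2, 10, 7, 6, 5, 4, 3, 2, 10, 7, 6, 5, 4, 3, 2, 10, 7, 6, 5, 4, 3, 2, 10, 7, 6, 5, 4, 3, 2, 10, 7, 6, 5, 4, 3, 2, 10, 7, 6, 5, 4, 3, 2, 10, 7, 6, 5, 4, 3, 2, 10, 7, 6, 5, 4, 3, 2] 1) 217121 781 = true := by decide +kernel

theorem hm66_210 : Fn.fixRangeK TT (wpow [0, 10, 7, 6, 5, 4, 3, 2, 10, 7, 6, 5, 4, 3, 2, 10, 7, 6, 5, 4, 3, 2, 10, 7, 6, 5, 4, 3, 2, 10, 7, 6, 5, 4, 3, 2, 10, 7, 6, 5, 4, 3, 2, 10, 7, 6, 5, 4, 3, 2, 10, 7, 6, 5, 4, 3, 2, 10, 7, 6, 5, 4, 3, 2] 1) 142145 781 = true := by decide +kernel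

theorem hm66_306 : Fn.fixRangeK TT (wpow [0, 10, 7, 6, 5, 4, 3, 2, 10, 7, 6, 5, 4, 3, 2, 10, 7, 6, 5, 4, 3, 2, 10, 7, 6, 5, 4, 3, 2, 10, 7, 6, 5, 4, 3, 2, 10, 7, 6, 5, 4, 3, 2, 10, 7, 6, 5, 4, 3, 2, 10, 7, 6, 5, 4, 3, 2, 10, 7, 6, 5, 4, 3, 2] 1) 67169 781 = true := by decide +kernel

theorem hm67_30 : Fn.fixRangeK TT (wpow [13, 5, 4, 3, 2, 1, 0, 5, 6, 7, 8, 9, 5, 10, 11] 1) 203613 3333 = true := by decide +kernel

theorem hm67_69 : Fn.fixRangeK TT (wpow [13, 5, 4, 3, 2, 1, 0, 5, 6, 7, 8, 9, 5, 10, 11] 1) 73626 3333 = true := by decide +kernel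

theorem hm68_39 : Fn.fixRangeK TT (wpow [12] 17) 189296 2941 = true := by decide +kernel

theorem hm72_8 : Fn.fixRangeK TT (wpow [3] 2) 81936 25000 = true := by decide +kernel

theorem hm80_8 : Fn.fixRangeK TT (wpow [11] 2) 81936 25000 = true := by decide +kernel

theorem hperm2_17 : permPartG 18360536419842404880 TT 2 tN 278528 16384 = true := by decide +kernel

theorem hperm8_5 : permPartG 18360536419842404880 TT 8 tN 81920 16384 = true := by decide +kernel

theorem hperm13_11 : permPartG 18360536419842404880 TT 13 tN 180224 16384 = true := by decide +kernel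

end Cfsg.Agent.Lib.Helper12.TCG.Fi24x306936
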