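import Cfsg.Agent.Lib.Helper12.TCG.Fi24x306936.TabT
import Cfsg.Agent.Lib.Helper12.TCG.Fi24x306936.Tab
import Cfsg.Agent.Lib.Helper12.TC.Fn.Ranges2

/-! relator checks for Fi24x306936, part 21 (generated, helper12) -/

set_option autoImplicit false
set_option maxRecDepth 100000
set_option Elab.async false

namespace Cfsg.Agent.Lib.Helper12.TCG.Fi24x306936

open Cfsg.Agent.Lib.Helper12.TC Cfsg.Agent.Lib.Helper12.TCG

theorem hm1_21 : Fn.fixRangeK TT (wpow [0, 2] 2) 31936 12500 = true := by decide +kernel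

theorem hm7_21 : Fn.fixRangeK TT (wpow [1, 4] 2) 31936 12500 = true := by decide +kernel

theorem hm12_21 : Fn.fixRangeK TT (wpow [2, 5] 2) 31936 12500 = true := by decide +kernel

theorem hm14_4 : Fn.fixRangeK TT (wpow [4, 5] 3) 265271 8333 = true := by decide +kernel

theorem hm17_21 : Fn.fixRangeK TT (wpow [2, 6] 2) 31936 12500 = true := by decide +kernel

theorem hm22_21 : Fn.fixRangeK TT (wpow [1, 7] 2) 31936 12500 = true := by decide +kernel

theorem hm26_21 : Fn.fixRangeK TT (wpow [5, 7] 2) 31936 12500 = true := by decide +kernel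

theorem hm27_28 : Fn.fixRangeK TT (wpow [6, 7] 3) 65279 8333 = true := by decide +kernel

theorem hm31_21 : Fn.fixRangeK TT (wpow [3, 8] 2) 31936 12500 = true := by decide +kernel

theorem hm36_21 : Fn.fixRangeK TT (wpow [0, 9] 2) 31936 12500 = true := by decide +kernel

theorem hm40_21 : Fn.fixRangeK TT (wpow [4, 9] 2) 31936 12500 = true := by decide +kernel

theorem hm45_21 : Fn.fixRangeK TT (wpow [0, 10] 2) 31936 12500 = true := by decide +kernel

theorem hm49_21 : Fn.fixRangeK TT (wpow [4, 10] 2) 31936 12500 = true := by decide +kernel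

theorem hm50_16 : Fn.fixRangeK TT (wpow [5, 10] 3) 165275 8333 = true := by decide +kernel

theorem hm54_21 : Fn.fixRangeK TT (wpow [9, 10] 2) 31936 12500 = true := by decide +kernel

theorem hm58_21 : Fn.fixRangeK TT (wpow [3, 11] 2) 31936 12500 = true := by decide +kernel

theorem hm62_21 : Fn.fixRangeK TT (wpow [7, 11] 2) 31936 12500 = true := by decide +kernel

theorem hm65_36 : Fn.fixRangeK TT (wpow [10, 11] 3) 0 6948 = true := by decide +kernel

theorem hm66_115 : Fn.fixRangeK TT (wpow [0, 10, 7, 6, 5, 4, 3, 2, 10, 7, 6, 5, 4, 3, 2, 10, 7, 6, 5, 4, 3, 2, 10, 7, 6, 5, 4, 3, 2, 10, 7, 6, 5, 4, 3, 2, 10, 7, 6, 5, 4, 3, 2, 10, 7, 6, 5, 4, 3, 2, 10, 7, 6, 5, 4, 3, 2, 10, 7, 6, 5, 4, 3, 2] 1) 216340 781 = true := by decide +kernel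

theorem hm66_211 : Fn.fixRangeK TT (wpow [0, 10, 7, 6, 5, 4, 3, 2, 10, 7, 6, 5, 4, 3, 2, 10, 7, 6, 5, 4, 3, 2, 10, 7, 6, 5, 4, 3, 2, 10, 7, 6, 5, 4, 3, 2, 10, 7, 6, 5, 4, 3, 2, 10, 7, 6, 5, 4, 3, 2, 10, 7, 6, 5, 4, 3, 2, 10, 7, 6, 5, 4, 3, 2] 1) 141364 781 = true := by decide +kernel

theorem hm66_307 : Fn.fixRangeK TT (wpow [0, 10, 7, 6, 5, 4, 3, 2, 10, 7, 6, 5, 4, 3, 2, 10, 7, 6, 5, 4, 3, 2, 10, 7, 6, 5, 4, 3, 2, 10, 7, 6, 5, 4, 3, 2, 10, 7, 6, 5, 4, 3, 2, 10, 7, 6, 5, 4, 3, 2, 10, 7, 6, 5, 4, 3, 2, 10, 7, 6, 5, 4, 3, 2] 1) 66388 781 = true := by decide +kernel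

theorem hm67_31 : Fn.fixRangeK TT (wpow [13, 5, 4, 3, 2, 1, 0, 5, 6, 7, 8, 9, 5, 10, 11] 1) 200280 3333 = true := by decide +kernel

theorem hm67_70 : Fn.fixRangeK TT (wpow [13, 5, 4, 3, 2, 1, 0, 5, 6, 7, 8, 9, 5, 10, 11] 1) 70293 3333 = true := by decide +kernel

theorem hm68_40 : Fn.fixRangeK TT (wpow [12] 17) 186355 2941 = true := by decide +kernel

theorem hm72_9 : Fn.fixRangeK TT (wpow [3] 2) 56936 25000 = true := by decide +kernel

theorem hm80_9 : Fn.fixRangeK TT (wpow [11] 2) 56936 25000 = true := by decide +kernel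

theorem hperm3_0 : permPartG 18360536419842404880 TT 3 tN 0 16384 = true := by decide +kernel

theorem hperm8_6 : permPartG 18360536419842404880 TT 8 tN 98304 16384 = true := by decide +kernel

theorem hperm13_12 : permPartG 18360536419842404880 TT 13 tN 196608 16384 = true := by decide +kernel

theorem htrans_1 : Fn.allRangeK (Fn.transP TT 14 sw) 13371 15084 = true := by decide +kernel

end Cfsg.Agent.Lib.Helper12.TCG.Fi24x306936
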