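import Cfsg.Agent.Lib.Helper12.TCG.Fi24x306936.TabT
import Cfsg.Agent.Lib.Helper12.TCG.Fi24x306936.Tab
import Cfsg.Agent.Lib.Helper12.TC.Fn.Ranges2

/-! relator checks for Fi24x306936, part 22 (generated, helper12) -/

set_option autoImplicit false
set_option maxRecDepth 100000
set_option Elab.async false

namespace Cfsg.Agent.Lib.Helper12.TCG.Fi24x306936

open Cfsg.Agent.Lib.Helper12.TC Cfsg.Agent.Lib.Helper12.TCG

theorem hm1_22 : Fn.fixRangeK TT (wpow [0, 2] 2) 19436 12500 = true := by decide +kernel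

theorem hm7_22 : Fn.fixRangeK TT (wpow [1, 4] 2) 19436 12500 = true := by decide +kernel

theorem hm12_22 : Fn.fixRangeK TT (wpow [2, 5] 2) 19436 12500 = true := by decide +kernel

theorem hm14_5 : Fn.fixRangeK TT (wpow [4, 5] 3) 256938 8333 = true := by decide +kernel

theorem hm17_22 : Fn.fixRangeK TT (wpow [2, 6] 2) 19436 12500 = true := by decide +kernel

theorem hm22_22 : Fn.fixRangeK TT (wpow [1, 7] 2) 19436 12500 = true := by decide +kernel

theorem hm26_22 : Fn.fixRangeK TT (wpow [5, 7] 2) 19436 12500 = true := by decide +kernel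

theorem hm27_29 : Fn.fixRangeK TT (wpow [6, 7] 3) 56946 8333 = true := by decide +kernel

theorem hm31_22 : Fn.fixRangeK TT (wpow [3, 8] 2) 19436 12500 = true := by decide +kernel

theorem hm36_22 : Fn.fixRangeK TT (wpow [0, 9] 2) 19436 12500 = true := by decide +kernel

theorem hm40_22 : Fn.fixRangeK TT (wpow [4, 9] 2) 19436 12500 = true := by decide +kernel

theorem hm45_22 : Fn.fixRangeK TT (wpow [0, 10] 2) 19436 12500 = true := by decide +kernel

theorem hm49_22 : Fn.fixRangeK TT (wpow [4, 10] 2) 19436 12500 = true := by decide +kernel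

theorem hm50_17 : Fn.fixRangeK TT (wpow [5, 10] 3) 156942 8333 = true := by decide +kernel

theorem hm54_22 : Fn.fixRangeK TT (wpow [9, 10] 2) 19436 12500 = true := by decide +kernel

theorem hm58_22 : Fn.fixRangeK TT (wpow [3, 11] 2) 19436 12500 = true := by decide +kernel

theorem hm62_22 : Fn.fixRangeK TT (wpow [7, 11] 2) 19436 12500 = true := by decide +kernel

theorem hm66_116 : Fn.fixRangeK TT (wpow [0, 10, 7, 6, 5, 4, 3, 2, 10, 7, 6, 5, 4, 3, 2, 10, 7, 6, 5, 4, 3, 2, 10, 7, 6, 5, 4, 3, 2, 10, 7, 6, 5, 4, 3, 2, 10, 7, 6, 5, 4, 3, 2, 10, 7, 6, 5, 4, 3, 2, 10, 7, 6, 5, 4, 3, 2, 10, 7, 6, 5, 4, 3, 2] 1) 215559 781 = true := by decide +kernel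

theorem hm66_212 : Fn.fixRangeK TT (wpow [0, 10, 7, 6, 5, 4, 3, 2, 10, 7, 6, 5, 4, 3, 2, 10, 7, 6, 5, 4, 3, 2, 10, 7, 6, 5, 4, 3, 2, 10, 7, 6, 5, 4, 3, 2, 10, 7, 6, 5, 4, 3, 2, 10, 7, 6, 5, 4, 3, 2, 10, 7, 6, 5, 4, 3, 2, 10, 7, 6, 5, 4, 3, 2] 1) 140583 781 = true := by decide +kernel

theorem hm66_308 : Fn.fixRangeK TT (wpow [0, 10, 7, 6, 5, 4, 3, 2, 10, 7, 6, 5, 4, 3, 2, 10, 7, 6, 5, 4, 3, 2, 10, 7, 6, 5, 4, 3, 2, 10, 7, 6, 5, 4, 3, 2, 10, 7, 6, 5, 4, 3, 2, 10, 7, 6, 5, 4, 3, 2, 10, 7, 6, 5, 4, 3, 2, 10, 7, 6, 5, 4, 3, 2] 1) 65607 781 = true := by decide +kernel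

theorem hm67_32 : Fn.fixRangeK TT (wpow [13, 5, 4, 3, 2, 1, 0, 5, 6, 7, 8, 9, 5, 10, 11] 1) 196947 3333 = true := by decide +kernel

theorem hm67_71 : Fn.fixRangeK TT (wpow [13, 5, 4, 3, 2, 1, 0, 5, 6, 7, 8, 9, 5, 10, 11] 1) 66960 3333 = true := by decide +kernel

theorem hm68_41 : Fn.fixRangeK TT (wpow [12] 17) 183414 2941 = true := by decide +kernel

theorem hm72_10 : Fn.fixRangeK TT (wpow [3] 2) 31936 25000 = true := by decide +kernel

theorem hm80_10 : Fn.fixRangeK TT (wpow [11] 2) 31936 25000 = true := by decide +kernel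

theorem horbi0_3_0 : Fn.allRangeK (Fn.invP TT [5] 0 1) 0 1 = true := by decide +kernel

theorem hperm0_0 : permPartG 18360536419842404880 TT 0 tN 0 16384 = true := by decide +kernel

theorem hperm1_4 : permPartG 18360536419842404880 TT 1 tN 65536 16384 = true := by decide +kernel

theorem hperm6_10 : permPartG 18360536419842404880 TT 6 tN 163840 16384 = true := by decide +kernel

theorem hperm11_16 : permPartG 18360536419842404880 TT 11 tN 262144 16384 = true := by decide +kernel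

theorem htrans_2 : Fn.allRangeK (Fn.transP TT 14 sw) 28455 16120 = true := by decide +kernel

end Cfsg.Agent.Lib.Helper12.TCG.Fi24x306936
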