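import Cfsg.Agent.Lib.Helper12.TCG.Fi24x306936.TabT
import Cfsg.Agent.Lib.Helper12.TCG.Fi24x306936.Tab
import Cfsg.Agent.Lib.Helper12.TC.Fn.Ranges2

/-! relator checks for Fi24x306936, part 23 (generated, helper12) -/

set_option autoImplicit false
set_option maxRecDepth 100000
set_option Elab.async false

namespace Cfsg.Agent.Lib.Helper12.TCG.Fi24x306936

open Cfsg.Agent.Lib.Helper12.TC Cfsg.Agent.Lib.Helper12.TCG

theorem hm1_23 : Fn.fixRangeK TT (wpow [0, 2] 2) 6936 12500 = true := by decide +kernel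

theorem hm7_23 : Fn.fixRangeK TT (wpow [1, 4] 2) 6936 12500 = true := by decide +kernel

theorem hm12_23 : Fn.fixRangeK TT (wpow [2, 5] 2) 6936 12500 = true := by decide +kernel

theorem hm14_6 : Fn.fixRangeK TT (wpow [4, 5] 3) 248605 8333 = true := by decide +kernel

theorem hm17_23 : Fn.fixRangeK TT (wpow [2, 6] 2) 6936 12500 = true := by decide +kernel

theorem hm22_23 : Fn.fixRangeK TT (wpow [1, 7] 2) 6936 12500 = true := by decide +kernel

theorem hm26_23 : Fn.fixRangeK TT (wpow [5, 7] 2) 6936 12500 = true := by decide +kernel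

theorem hm27_30 : Fn.fixRangeK TT (wpow [6, 7] 3) 48613 8333 = true := by decide +kernel

theorem hm31_23 : Fn.fixRangeK TT (wpow [3, 8] 2) 6936 12500 = true := by decide +kernel

theorem hm36_23 : Fn.fixRangeK TT (wpow [0, 9] 2) 6936 12500 = true := by decide +kernel

theorem hm40_23 : Fn.fixRangeK TT (wpow [4, 9] 2) 6936 12500 = true := by decide +kernel

theorem hm45_23 : Fn.fixRangeK TT (wpow [0, 10] 2) 6936 12500 = true := by decide +kernel

theorem hm49_23 : Fn.fixRangeK TT (wpow [4, 10] 2) 6936 12500 = true := by decide +kernel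

theorem hm50_18 : Fn.fixRangeK TT (wpow [5, 10] 3) 148609 8333 = true := by decide +kernel

theorem hm54_23 : Fn.fixRangeK TT (wpow [9, 10] 2) 6936 12500 = true := by decide +kernel

theorem hm58_23 : Fn.fixRangeK TT (wpow [3, 11] 2) 6936 12500 = true := by decide +kernel

theorem hm62_23 : Fn.fixRangeK TT (wpow [7, 11] 2) 6936 12500 = true := by decide +kernel

theorem hm66_117 : Fn.fixRangeK TT (wpow [0, 10, 7, 6, 5, 4, 3, 2, 10, 7, 6, 5, 4, 3, 2, 10, 7, 6, 5, 4, 3, 2, 10, 7, 6, 5, 4, 3, 2, 10, 7, 6, 5, 4, 3, 2, 10, 7, 6, 5, 4, 3, 2, 10, 7, 6, 5, 4, 3, 2, 10, 7, 6, 5, 4, 3, 2, 10, 7, 6, 5, 4, 3, 2] 1) 214778 781 = true := by decide +kernel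

theorem hm66_213 : Fn.fixRangeK TT (wpow [0, 10, 7, 6, 5, 4, 3, 2, 10, 7, 6, 5, 4, 3, 2, 10, 7, 6, 5, 4, 3, 2, 10, 7, 6, 5, 4, 3, 2, 10, 7, 6, 5, 4, 3, 2, 10, 7, 6, 5, 4, 3, 2, 10, 7, 6, 5, 4, 3, 2, 10, 7, 6, 5, 4, 3, 2, 10, 7, 6, 5, 4, 3, 2] 1) 139802 781 = true := by decide +kernel

theorem hm66_309 : Fn.fixRangeK TT (wpow [0, 10, 7, 6, 5, 4, 3, 2, 10, 7, 6, 5, 4, 3, 2, 10, 7, 6, 5, 4, 3, 2, 10, 7, 6, 5, 4, 3, 2, 10, 7, 6, 5, 4, 3, 2, 10, 7, 6, 5, 4, 3, 2, 10, 7, 6, 5, 4, 3, 2, 10, 7, 6, 5, 4, 3, 2, 10, 7, 6, 5, 4, 3, 2] 1) 64826 781 = true := by decide +kernel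

theorem hm67_33 : Fn.fixRangeK TT (wpow [13, 5, 4, 3, 2, 1, 0, 5, 6, 7, 8, 9, 5, 10, 11] 1) 193614 3333 = true := by decide +kernel

theorem hm67_72 : Fn.fixRangeK TT (wpow [13, 5, 4, 3, 2, 1, 0, 5, 6, 7, 8, 9, 5, 10, 11] 1) 63627 3333 = true := by decide +kernel

theorem hm68_42 : Fn.fixRangeK TT (wpow [12] 17) 180473 2941 = true := by decide +kernel

theorem hm72_11 : Fn.fixRangeK TT (wpow [3] 2) 6936 25000 = true := by decide +kernel

theorem hm80_11 : Fn.fixRangeK TT (wpow [11] 2) 6936 25000 = true := by decide +kernel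

theorem horbi0_4_0 : Fn.allRangeK (Fn.invP TT [6] 0 1) 0 1 = true := by decide +kernel

theorem hperm0_1 : permPartG 18360536419842404880 TT 0 tN 16384 16384 = true := by decide +kernel

theorem hperm1_5 : permPartG 18360536419842404880 TT 1 tN 81920 16384 = true := by decide +kernel

theorem hperm6_11 : permPartG 18360536419842404880 TT 6 tN 180224 16384 = true := by decide +kernel

theorem hperm11_17 : permPartG 18360536419842404880 TT 11 tN 278528 16384 = true := by decide +kernel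

theorem htrans_3 : Fn.allRangeK (Fn.transP TT 14 sw) 44575 17279 = true := by decide +kernel

end Cfsg.Agent.Lib.Helper12.TCG.Fi24x306936
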