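import Cfsg.Agent.Lib.Helper12.TCG.Fi24x306936.TabT
import Cfsg.Agent.Lib.Helper12.TCG.Fi24x306936.Tab
import Cfsg.Agent.Lib.Helper12.TC.Fn.Ranges2

/-! relator checks for Fi24x306936, part 25 (generated, helper12) -/

set_option autoImplicit false
set_option maxRecDepth 100000
set_option Elab.async false

namespace Cfsg.Agent.Lib.Helper12.TCG.Fi24x306936

open Cfsg.Agent.Lib.Helper12.TC Cfsg.Agent.Lib.Helper12.TCG

theorem hm3_1 : Fn.fixRangeK TT (wpow [0, 3] 2) 281936 12500 = true := by decide +kernel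

theorem hm8_1 : Fn.fixRangeK TT (wpow [2, 4] 2) 281936 12500 = true := by decide +kernel

theorem hm13_1 : Fn.fixRangeK TT (wpow [3, 5] 2) 281936 12500 = true := by decide +kernel

theorem hm14_8 : Fn.fixRangeK TT (wpow [4, 5] 3) 231939 8333 = true := by decide +kernel

theorem hm18_1 : Fn.fixRangeK TT (wpow [3, 6] 2) 281936 12500 = true := by decide +kernel

theorem hm23_1 : Fn.fixRangeK TT (wpow [2, 7] 2) 281936 12500 = true := by decide +kernel

theorem hm27_32 : Fn.fixRangeK TT (wpow [6, 7] 3) 31947 8333 = true := by decide +kernel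

theorem hm28_1 : Fn.fixRangeK TT (wpow [0, 8] 2) 281936 12500 = true := by decide +kernel

theorem hm32_1 : Fn.fixRangeK TT (wpow [4, 8] 2) 281936 12500 = true := by decide +kernel

theorem hm37_1 : Fn.fixRangeK TT (wpow [1, 9] 2) 281936 12500 = true := by decide +kernel

theorem hm41_1 : Fn.fixRangeK TT (wpow [5, 9] 2) 281936 12500 = true := by decide +kernel

theorem hm46_1 : Fn.fixRangeK TT (wpow [1, 10] 2) 281936 12500 = true := by decide +kernel

theorem hm50_20 : Fn.fixRangeK TT (wpow [5, 10] 3) 131943 8333 = true := by decide +kernel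

theorem hm51_1 : Fn.fixRangeK TT (wpow [6, 10] 2) 281936 12500 = true := by decide +kernel

theorem hm55_1 : Fn.fixRangeK TT (wpow [0, 11] 2) 281936 12500 = true := by decide +kernel

theorem hm59_1 : Fn.fixRangeK TT (wpow [4, 11] 2) 281936 12500 = true := by decide +kernel

theorem hm63_1 : Fn.fixRangeK TT (wpow [8, 11] 2) 281936 12500 = true := by decide +kernel

theorem hm66_119 : Fn.fixRangeK TT (wpow [0, 10, 7, 6, 5, 4, 3, 2, 10, 7, 6, 5, 4, 3, 2, 10, 7, 6, 5, 4, 3, 2, 10, 7, 6, 5, 4, 3, 2, 10, 7, 6, 5, 4, 3, 2, 10, 7, 6, 5, 4, 3, 2, 10, 7, 6, 5, 4, 3, 2, 10, 7, 6, 5, 4, 3, 2, 10, 7, 6, 5, 4, 3, 2] 1) 213216 781 = true := by decide +kernel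

theorem hm66_215 : Fn.fixRangeK TT (wpow [0, 10, 7, 6, 5, 4, 3, 2, 10, 7, 6, 5, 4, 3, 2, 10, 7, 6, 5, 4, 3, 2, 10, 7, 6, 5, 4, 3, 2, 10, 7, 6, 5, 4, 3, 2, 10, 7, 6, 5, 4, 3, 2, 10, 7, 6, 5, 4, 3, 2, 10, 7, 6, 5, 4, 3, 2, 10, 7, 6, 5, 4, 3, 2] 1) 138240 781 = true := by decide +kernel

theorem hm66_311 : Fn.fixRangeK TT (wpow [0, 10, 7, 6, 5, 4, 3, 2, 10, 7, 6, 5, 4, 3, 2, 10, 7, 6, 5, 4, 3, 2, 10, 7, 6, 5, 4, 3, 2, 10, 7, 6, 5, 4, 3, 2, 10, 7, 6, 5, 4, 3, 2, 10, 7, 6, 5, 4, 3, 2, 10, 7, 6, 5, 4, 3, 2, 10, 7, 6, 5, 4, 3, 2] 1) 63264 781 = true := by decide +kernel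

theorem hm67_35 : Fn.fixRangeK TT (wpow [13, 5, 4, 3, 2, 1, 0, 5, 6, 7, 8, 9, 5, 10, 11] 1) 186948 3333 = true := by decide +kernel

theorem hm67_74 : Fn.fixRangeK TT (wpow [13, 5, 4, 3, 2, 1, 0, 5, 6, 7, 8, 9, 5, 10, 11] 1) 56961 3333 = true := by decide +kernel

theorem hm68_44 : Fn.fixRangeK TT (wpow [12] 17) 174591 2941 = true := by decide +kernel

theorem hm73_1 : Fn.fixRangeK TT (wpow [4] 2) 256936 25000 = true := by decide +kernel

theorem hm81_1 : Fn.fixRangeK TT (wpow [12, 13] 1) 256936 25000 = true := by decide +kernel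

theorem horbi0_6_0 : Fn.allRangeK (Fn.invP TT [8] 0 1) 0 1 = true := by decide +kernel

theorem hperm0_3 : permPartG 18360536419842404880 TT 0 tN 49152 16384 = true := by decide +kernel

theorem hperm1_7 : permPartG 18360536419842404880 TT 1 tN 114688 16384 = true := by decide +kernel

theorem hperm6_13 : permPartG 18360536419842404880 TT 6 tN 212992 16384 = true := by decide +kernel

theorem hperm12_1 : permPartG 18360536419842404880 TT 12 tN 16384 16384 = true := by decide +kernel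

theorem htrans_5 : Fn.allRangeK (Fn.transP TT 14 sw) 79957 18904 = true := by decide +kernel

end Cfsg.Agent.Lib.Helper12.TCG.Fi24x306936
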