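import Cfsg.Agent.Lib.Helper12.TCG.Fi24x306936.TabT
import Cfsg.Agent.Lib.Helper12.TCG.Fi24x306936.Tab
import Cfsg.Agent.Lib.Helper12.TC.Fn.Ranges2

/-! relator checks for Fi24x306936, part 28 (generated, helper12) -/

set_option autoImplicit false
set_option maxRecDepth 100000
set_option Elab.async false

namespace Cfsg.Agent.Lib.Helper12.TCG.Fi24x306936

open Cfsg.Agent.Lib.Helper12.TC Cfsg.Agent.Lib.Helper12.TCG

theorem hm3_4 : Fn.fixRangeK TT (wpow [0, 3] 2) 244436 12500 = true := by decide +kernel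

theorem hm8_4 : Fn.fixRangeK TT (wpow [2, 4] 2) 244436 12500 = true := by decide +kernel

theorem hm13_4 : Fn.fixRangeK TT (wpow [3, 5] 2) 244436 12500 = true := by decide +kernel

theorem hm14_11 : Fn.fixRangeK TT (wpow [4, 5] 3) 206940 8333 = true := by decide +kernel

theorem hm18_4 : Fn.fixRangeK TT (wpow [3, 6] 2) 244436 12500 = true := by decide +kernel

theorem hm23_4 : Fn.fixRangeK TT (wpow [2, 7] 2) 244436 12500 = true := by decide +kernel

theorem hm27_35 : Fn.fixRangeK TT (wpow [6, 7] 3) 6948 8333 = true := by decide +kernel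

theorem hm28_4 : Fn.fixRangeK TT (wpow [0, 8] 2) 244436 12500 = true := by decide +kernel

theorem hm32_4 : Fn.fixRangeK TT (wpow [4, 8] 2) 244436 12500 = true := by decide +kernel

theorem hm37_4 : Fn.fixRangeK TT (wpow [1, 9] 2) 244436 12500 = true := by decide +kernel

theorem hm41_4 : Fn.fixRangeK TT (wpow [5, 9] 2) 244436 12500 = true := by decide +kernel

theorem hm46_4 : Fn.fixRangeK TT (wpow [1, 10] 2) 244436 12500 = true := by decide +kernel

theorem hm50_23 : Fn.fixRangeK TT (wpow [5, 10] 3) 106944 8333 = true := by decide +kernel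

theorem hm51_4 : Fn.fixRangeK TT (wpow [6, 10] 2) 244436 12500 = true := by decide +kernel

theorem hm55_4 : Fn.fixRangeK TT (wpow [0, 11] 2) 244436 12500 = true := by decide +kernel

theorem hm59_4 : Fn.fixRangeK TT (wpow [4, 11] 2) 244436 12500 = true := by decide +kernel

theorem hm63_4 : Fn.fixRangeK TT (wpow [8, 11] 2) 244436 12500 = true := by decide +kernel

theorem hm66_122 : Fn.fixRangeK TT (wpow [0, 10, 7, 6, 5, 4, 3, 2, 10, 7, 6, 5, 4, 3, 2, 10, 7, 6, 5, 4, 3, 2, 10, 7, 6, 5, 4, 3, 2, 10, 7, 6, 5, 4, 3, 2, 10, 7, 6, 5, 4, 3, 2, 10, 7, 6, 5, 4, 3, 2, 10, 7, 6, 5, 4, 3, 2, 10, 7, 6, 5, 4, 3, 2] 1) 210873 781 = true := by decide +kernel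

theorem hm66_218 : Fn.fixRangeK TT (wpow [0, 10, 7, 6, 5, 4, 3, 2, 10, 7, 6, 5, 4, 3, 2, 10, 7, 6, 5, 4, 3, 2, 10, 7, 6, 5, 4, 3, 2, 10, 7, 6, 5, 4, 3, 2, 10, 7, 6, 5, 4, 3, 2, 10, 7, 6, 5, 4, 3, 2, 10, 7, 6, 5, 4, 3, 2, 10, 7, 6, 5, 4, 3, 2] 1) 135897 781 = true := by decide +kernel

theorem hm66_314 : Fn.fixRangeK TT (wpow [0, 10, 7, 6, 5, 4, 3, 2, 10, 7, 6, 5, 4, 3, 2, 10, 7, 6, 5, 4, 3, 2, 10, 7, 6, 5, 4, 3, 2, 10, 7, 6, 5, 4, 3, 2, 10, 7, 6, 5, 4, 3, 2, 10, 7, 6, 5, 4, 3, 2, 10, 7, 6, 5, 4, 3, 2, 10, 7, 6, 5, 4, 3, 2] 1) 60921 781 = true := by decide +kernel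

theorem hm67_38 : Fn.fixRangeK TT (wpow [13, 5, 4, 3, 2, 1, 0, 5, 6, 7, 8, 9, 5, 10, 11] 1) 176949 3333 = true := by decide +kernel

theorem hm67_77 : Fn.fixRangeK TT (wpow [13, 5, 4, 3, 2, 1, 0, 5, 6, 7, 8, 9, 5, 10, 11] 1) 46962 3333 = true := by decide +kernel

theorem hm68_47 : Fn.fixRangeK TT (wpow [12] 17) 165768 2941 = true := by decide +kernel

theorem hm73_4 : Fn.fixRangeK TT (wpow [4] 2) 181936 25000 = true := by decide +kernel

theorem hm81_4 : Fn.fixRangeK TT (wpow [12, 13] 1) 181936 25000 = true := by decide +kernel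

theorem horbi0_9_0 : Fn.allRangeK (Fn.invP TT [9] 0 1) 0 1 = true := by decide +kernel

theorem hperm0_6 : permPartG 18360536419842404880 TT 0 tN 98304 16384 = true := by decide +kernel

theorem hperm1_10 : permPartG 18360536419842404880 TT 1 tN 163840 16384 = true := by decide +kernel

theorem hperm6_16 : permPartG 18360536419842404880 TT 6 tN 262144 16384 = true := by decide +kernel

theorem hperm12_4 : permPartG 18360536419842404880 TT 12 tN 65536 16384 = true := by decide +kernel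

theorem htrans_12 : Fn.allRangeK (Fn.transP TT 14 sw) 238291 38537 = true := by decide +kernel

end Cfsg.Agent.Lib.Helper12.TCG.Fi24x306936
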