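import Cfsg.Agent.Lib.Helper12.TCG.Fi24x306936.TabT
import Cfsg.Agent.Lib.Helper12.TCG.Fi24x306936.Tab
import Cfsg.Agent.Lib.Helper12.TC.Fn.Ranges2

/-! relator checks for Fi24x306936, part 29 (generated, helper12) -/

set_option autoImplicit false
set_option maxRecDepth 100000
set_option Elab.async false

namespace Cfsg.Agent.Lib.Helper12.TCG.Fi24x306936

open Cfsg.Agent.Lib.Helper12.TC Cfsg.Agent.Lib.Helper12.TCG

theorem horbc1_5 : Fn.allRangeK (Fn.connP TT sw 1) 118420 24609 = true := by decide +kernel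

theorem hm3_5 : Fn.fixRangeK TT (wpow [0, 3] 2) 231936 12500 = true := by decide +kernel

theorem hm8_5 : Fn.fixRangeK TT (wpow [2, 4] 2) 231936 12500 = true := by decide +kernel

theorem hm9_12 : Fn.fixRangeK TT (wpow [3, 4] 3) 198607 8333 = true := by decide +kernel

theorem hm13_5 : Fn.fixRangeK TT (wpow [3, 5] 2) 231936 12500 = true := by decide +kernel

theorem hm18_5 : Fn.fixRangeK TT (wpow [3, 6] 2) 231936 12500 = true := by decide +kernel

theorem hm23_5 : Fn.fixRangeK TT (wpow [2, 7] 2) 231936 12500 = true := by decide +kernel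

theorem hm27_0 : Fn.fixRangeK TT (wpow [6, 7] 3) 298603 8333 = true := by decide +kernel

theorem hm28_5 : Fn.fixRangeK TT (wpow [0, 8] 2) 231936 12500 = true := by decide +kernel

theorem hm32_5 : Fn.fixRangeK TT (wpow [4, 8] 2) 231936 12500 = true := by decide +kernel

theorem hm37_5 : Fn.fixRangeK TT (wpow [1, 9] 2) 231936 12500 = true := by decide +kernel

theorem hm41_5 : Fn.fixRangeK TT (wpow [5, 9] 2) 231936 12500 = true := by decide +kernel

theorem hm44_24 : Fn.fixRangeK TT (wpow [8, 9] 3) 98611 8333 = true := by decide +kernel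

theorem hm46_5 : Fn.fixRangeK TT (wpow [1, 10] 2) 231936 12500 = true := by decide +kernel

theorem hm51_5 : Fn.fixRangeK TT (wpow [6, 10] 2) 231936 12500 = true := by decide +kernel

theorem hm55_5 : Fn.fixRangeK TT (wpow [0, 11] 2) 231936 12500 = true := by decide +kernel

theorem hm59_5 : Fn.fixRangeK TT (wpow [4, 11] 2) 231936 12500 = true := by decide +kernel

theorem hm63_5 : Fn.fixRangeK TT (wpow [8, 11] 2) 231936 12500 = true := by decide +kernel

theorem hm66_136 : Fn.fixRangeK TT (wpow [0, 10, 7, 6, 5, 4, 3, 2, 10, 7, 6, 5, 4, 3, 2, 10, 7, 6, 5, 4, 3, 2, 10, 7, 6, 5, 4, 3, 2, 10, 7, 6, 5, 4, 3, 2, 10, 7, 6, 5, 4, 3, 2, 10, 7, 6, 5, 4, 3, 2, 10, 7, 6, 5, 4, 3, 2, 10, 7, 6, 5, 4, 3, 2] 1) 199939 781 = true := by decide +kernel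

theorem hm66_232 : Fn.fixRangeK TT (wpow [0, 10, 7, 6, 5, 4, 3, 2, 10, 7, 6, 5, 4, 3, 2, 10, 7, 6, 5, 4, 3, 2, 10, 7, 6, 5, 4, 3, 2, 10, 7, 6, 5, 4, 3, 2, 10, 7, 6, 5, 4, 3, 2, 10, 7, 6, 5, 4, 3, 2, 10, 7, 6, 5, 4, 3, 2, 10, 7, 6, 5, 4, 3, 2] 1) 124963 781 = true := by decide +kernel

theorem hm66_328 : Fn.fixRangeK TT (wpow [0, 10, 7, 6, 5, 4, 3, 2, 10, 7, 6, 5, 4, 3, 2, 10, 7, 6, 5, 4, 3, 2, 10, 7, 6, 5, 4, 3, 2, 10, 7, 6, 5, 4, 3, 2, 10, 7, 6, 5, 4, 3, 2, 10, 7, 6, 5, 4, 3, 2, 10, 7, 6, 5, 4, 3, 2, 10, 7, 6, 5, 4, 3, 2] 1) 49987 781 = true := by decide +kernel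

theorem hm67_90 : Fn.fixRangeK TT (wpow [13, 5, 4, 3, 2, 1, 0, 5, 6, 7, 8, 9, 5, 10, 11] 1) 3633 3333 = true := by decide +kernel

theorem hm68_12 : Fn.fixRangeK TT (wpow [12] 17) 268703 2941 = true := by decide +kernel

theorem hm68_60 : Fn.fixRangeK TT (wpow [12] 17) 127535 2941 = true := by decide +kernel

theorem hm73_5 : Fn.fixRangeK TT (wpow [4] 2) 156936 25000 = true := by decide +kernel

theorem hm81_5 : Fn.fixRangeK TT (wpow [12, 13] 1) 156936 25000 = true := by decide +kernel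

theorem hperm1_2 : permPartG 18360536419842404880 TT 1 tN 32768 16384 = true := by decide +kernel

theorem hperm2_6 : permPartG 18360536419842404880 TT 2 tN 98304 16384 = true := by decide +kernel

theorem hperm7_12 : permPartG 18360536419842404880 TT 7 tN 196608 16384 = true := by decide +kernel

theorem hperm13_0 : permPartG 18360536419842404880 TT 13 tN 0 16384 = true := by decide +kernel

end Cfsg.Agent.Lib.Helper12.TCG.Fi24x306936
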