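import Cfsg.Agent.Lib.Helper12.TCG.Fi24x306936.TabT
import Cfsg.Agent.Lib.Helper12.TCG.Fi24x306936.Tab
import Cfsg.Agent.Lib.Helper12.TC.Fn.Ranges2

/-! relator checks for Fi24x306936, part 31 (generated, helper12) -/

set_option autoImplicit false
set_option maxRecDepth 100000
set_option Elab.async false

namespace Cfsg.Agent.Lib.Helper12.TCG.Fi24x306936

open Cfsg.Agent.Lib.Helper12.TC Cfsg.Agent.Lib.Helper12.TCG

theorem horbc2_0 : Fn.allRangeK (Fn.connP TT sw 275265) 275266 22437 = true := by decide +kernel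

theorem hm3_7 : Fn.fixRangeK TT (wpow [0, 3] 2) 206936 12500 = true := by decide +kernel

theorem hm8_7 : Fn.fixRangeK TT (wpow [2, 4] 2) 206936 12500 = true := by decide +kernel

theorem hm9_14 : Fn.fixRangeK TT (wpow [3, 4] 3) 181941 8333 = true := by decide +kernel

theorem hm13_7 : Fn.fixRangeK TT (wpow [3, 5] 2) 206936 12500 = true := by decide +kernel

theorem hm18_7 : Fn.fixRangeK TT (wpow [3, 6] 2) 206936 12500 = true := by decide +kernel

theorem hm23_7 : Fn.fixRangeK TT (wpow [2, 7] 2) 206936 12500 = true := by decide +kernel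

theorem hm27_2 : Fn.fixRangeK TT (wpow [6, 7] 3) 281937 8333 = true := by decide +kernel

theorem hm28_7 : Fn.fixRangeK TT (wpow [0, 8] 2) 206936 12500 = true := by decide +kernel

theorem hm32_7 : Fn.fixRangeK TT (wpow [4, 8] 2) 206936 12500 = true := by decide +kernel

theorem hm37_7 : Fn.fixRangeK TT (wpow [1, 9] 2) 206936 12500 = true := by decide +kernel

theorem hm41_7 : Fn.fixRangeK TT (wpow [5, 9] 2) 206936 12500 = true := by decide +kernel

theorem hm44_26 : Fn.fixRangeK TT (wpow [8, 9] 3) 81945 8333 = true := by decide +kernel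

theorem hm46_7 : Fn.fixRangeK TT (wpow [1, 10] 2) 206936 12500 = true := by decide +kernel

theorem hm51_7 : Fn.fixRangeK TT (wpow [6, 10] 2) 206936 12500 = true := by decide +kernel

theorem hm55_7 : Fn.fixRangeK TT (wpow [0, 11] 2) 206936 12500 = true := by decide +kernel

theorem hm59_7 : Fn.fixRangeK TT (wpow [4, 11] 2) 206936 12500 = true := by decide +kernel

theorem hm63_7 : Fn.fixRangeK TT (wpow [8, 11] 2) 206936 12500 = true := by decide +kernel

theorem hm66_123 : Fn.fixRangeK TT (wpow [0, 10, 7, 6, 5, 4, 3, 2, 10, 7, 6, 5, 4, 3, 2, 10, 7, 6, 5, 4, 3, 2, 10, 7, 6, 5, 4, 3, 2, 10, 7, 6, 5, 4, 3, 2, 10, 7, 6, 5, 4, 3, 2, 10, 7, 6, 5, 4, 3, 2, 10, 7, 6, 5, 4, 3, 2, 10, 7, 6, 5, 4, 3, 2] 1) 210092 781 = true := by decide +kernel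

theorem hm66_219 : Fn.fixRangeK TT (wpow [0, 10, 7, 6, 5, 4, 3, 2, 10, 7, 6, 5, 4, 3, 2, 10, 7, 6, 5, 4, 3, 2, 10, 7, 6, 5, 4, 3, 2, 10, 7, 6, 5, 4, 3, 2, 10, 7, 6, 5, 4, 3, 2, 10, 7, 6, 5, 4, 3, 2, 10, 7, 6, 5, 4, 3, 2, 10, 7, 6, 5, 4, 3, 2] 1) 135116 781 = true := by decide +kernel

theorem hm66_315 : Fn.fixRangeK TT (wpow [0, 10, 7, 6, 5, 4, 3, 2, 10, 7, 6, 5, 4, 3, 2, 10, 7, 6, 5, 4, 3, 2, 10, 7, 6, 5, 4, 3, 2, 10, 7, 6, 5, 4, 3, 2, 10, 7, 6, 5, 4, 3, 2, 10, 7, 6, 5, 4, 3, 2, 10, 7, 6, 5, 4, 3, 2, 10, 7, 6, 5, 4, 3, 2] 1) 60140 781 = true := by decide +kernel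

theorem hm68_14 : Fn.fixRangeK TT (wpow [12] 17) 262821 2941 = true := by decide +kernel

theorem hm68_62 : Fn.fixRangeK TT (wpow [12] 17) 121653 2941 = true := by decide +kernel

theorem hm73_7 : Fn.fixRangeK TT (wpow [4] 2) 106936 25000 = true := by decide +kernel

theorem hm81_7 : Fn.fixRangeK TT (wpow [12, 13] 1) 106936 25000 = true := by decide +kernel

theorem horbi0_10_0 : Fn.allRangeK (Fn.invP TT [0] 0 1) 0 1 = true := by decide +kernel

theorem hperm0_7 : permPartG 18360536419842404880 TT 0 tN 114688 16384 = true := by decide +kernel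

theorem hperm1_11 : permPartG 18360536419842404880 TT 1 tN 180224 16384 = true := by decide +kernel

theorem hperm6_17 : permPartG 18360536419842404880 TT 6 tN 278528 16384 = true := by decide +kernel

theorem hperm12_5 : permPartG 18360536419842404880 TT 12 tN 81920 16384 = true := by decide +kernel

theorem htrans_8 : Fn.allRangeK (Fn.transP TT 14 sw) 138568 21264 = true := by decide +kernel

end Cfsg.Agent.Lib.Helper12.TCG.Fi24x306936
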