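import Cfsg.Agent.Lib.Helper12.TCG.Fi24x306936.TabT
import Cfsg.Agent.Lib.Helper12.TCG.Fi24x306936.Tab
import Cfsg.Agent.Lib.Helper12.TC.Fn.Ranges2

/-! relator checks for Fi24x306936, part 32 (generated, helper12) -/

set_option autoImplicit false
set_option maxRecDepth 100000
set_option Elab.async false

namespace Cfsg.Agent.Lib.Helper12.TCG.Fi24x306936

open Cfsg.Agent.Lib.Helper12.TC Cfsg.Agent.Lib.Helper12.TCG

theorem hm3_8 : Fn.fixRangeK TT (wpow [0, 3] 2) 194436 12500 = true := by decide +kernel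

theorem hm8_8 : Fn.fixRangeK TT (wpow [2, 4] 2) 194436 12500 = true := by decide +kernel

theorem hm9_15 : Fn.fixRangeK TT (wpow [3, 4] 3) 173608 8333 = true := by decide +kernel

theorem hm13_8 : Fn.fixRangeK TT (wpow [3, 5] 2) 194436 12500 = true := by decide +kernel

theorem hm18_8 : Fn.fixRangeK TT (wpow [3, 6] 2) 194436 12500 = true := by decide +kernel

theorem hm23_8 : Fn.fixRangeK TT (wpow [2, 7] 2) 194436 12500 = true := by decide +kernel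

theorem hm27_3 : Fn.fixRangeK TT (wpow [6, 7] 3) 273604 8333 = true := by decide +kernel

theorem hm28_8 : Fn.fixRangeK TT (wpow [0, 8] 2) 194436 12500 = true := by decide +kernel

theorem hm32_8 : Fn.fixRangeK TT (wpow [4, 8] 2) 194436 12500 = true := by decide +kernel

theorem hm37_8 : Fn.fixRangeK TT (wpow [1, 9] 2) 194436 12500 = true := by decide +kernel

theorem hm41_8 : Fn.fixRangeK TT (wpow [5, 9] 2) 194436 12500 = true := by decide +kernel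

theorem hm44_27 : Fn.fixRangeK TT (wpow [8, 9] 3) 73612 8333 = true := by decide +kernel

theorem hm46_8 : Fn.fixRangeK TT (wpow [1, 10] 2) 194436 12500 = true := by decide +kernel

theorem hm51_8 : Fn.fixRangeK TT (wpow [6, 10] 2) 194436 12500 = true := by decide +kernel

theorem hm55_8 : Fn.fixRangeK TT (wpow [0, 11] 2) 194436 12500 = true := by decide +kernel

theorem hm59_8 : Fn.fixRangeK TT (wpow [4, 11] 2) 194436 12500 = true := by decide +kernel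

theorem hm63_8 : Fn.fixRangeK TT (wpow [8, 11] 2) 194436 12500 = true := by decide +kernel

theorem hm66_0 : Fn.fixRangeK TT (wpow [0, 10, 7, 6, 5, 4, 3, 2, 10, 7, 6, 5, 4, 3, 2, 10, 7, 6, 5, 4, 3, 2, 10, 7, 6, 5, 4, 3, 2, 10, 7, 6, 5, 4, 3, 2, 10, 7, 6, 5, 4, 3, 2, 10, 7, 6, 5, 4, 3, 2, 10, 7, 6, 5, 4, 3, 2, 10, 7, 6, 5, 4, 3, 2] 1) 306155 781 = true := by decide +kernel

theorem hm66_42 : Fn.fixRangeK TT (wpow [0, 10, 7, 6, 5, 4, 3, 2, 10, 7, 6, 5, 4, 3, 2, 10, 7, 6, 5, 4, 3, 2, 10, 7, 6, 5, 4, 3, 2, 10, 7, 6, 5, 4, 3, 2, 10, 7, 6, 5, 4, 3, 2, 10, 7, 6, 5, 4, 3, 2, 10, 7, 6, 5, 4, 3, 2, 10, 7, 6, 5, 4, 3, 2] 1) 273353 781 = true := by decide +kernel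

theorem hm66_138 : Fn.fixRangeK TT (wpow [0, 10, 7, 6, 5, 4, 3, 2, 10, 7, 6, 5, 4, 3, 2, 10, 7, 6, 5, 4, 3, 2, 10, 7, 6, 5, 4, 3, 2, 10, 7, 6, 5, 4, 3, 2, 10, 7, 6, 5, 4, 3, 2, 10, 7, 6, 5, 4, 3, 2, 10, 7, 6, 5, 4, 3, 2, 10, 7, 6, 5, 4, 3, 2] 1) 198377 781 = true := by decide +kernel

theorem hm66_234 : Fn.fixRangeK TT (wpow [0, 10, 7, 6, 5, 4, 3, 2, 10, 7, 6, 5, 4, 3, 2, 10, 7, 6, 5, 4, 3, 2, 10, 7, 6, 5, 4, 3, 2, 10, 7, 6, 5, 4, 3, 2, 10, 7, 6, 5, 4, 3, 2, 10, 7, 6, 5, 4, 3, 2, 10, 7, 6, 5, 4, 3, 2, 10, 7, 6, 5, 4, 3, 2] 1) 123401 781 = true := by decide +kernel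

theorem hm66_330 : Fn.fixRangeK TT (wpow [0, 10, 7, 6, 5, 4, 3, 2, 10, 7, 6, 5, 4, 3, 2, 10, 7, 6, 5, 4, 3, 2, 10, 7, 6, 5, 4, 3, 2, 10, 7, 6, 5, 4, 3, 2, 10, 7, 6, 5, 4, 3, 2, 10, 7, 6, 5, 4, 3, 2, 10, 7, 6, 5, 4, 3, 2, 10, 7, 6, 5, 4, 3, 2] 1) 48425 781 = true := by decide +kernel

theorem hm68_15 : Fn.fixRangeK TT (wpow [12] 17) 259880 2941 = true := by decide +kernel

theorem hm68_63 : Fn.fixRangeK TT (wpow [12] 17) 118712 2941 = true := by decide +kernel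

theorem hm73_8 : Fn.fixRangeK TT (wpow [4] 2) 81936 25000 = true := by decide +kernel

theorem hm81_8 : Fn.fixRangeK TT (wpow [12, 13] 1) 81936 25000 = true := by decide +kernel

theorem hperm3_1 : permPartG 18360536419842404880 TT 3 tN 16384 16384 = true := by decide +kernel

theorem hperm8_7 : permPartG 18360536419842404880 TT 8 tN 114688 16384 = true := by decide +kernel

theorem hperm13_13 : permPartG 18360536419842404880 TT 13 tN 212992 16384 = true := by decide +kernel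

theorem htrans_0 : Fn.allRangeK (Fn.transP TT 14 sw) 0 13371 = true := by decide +kernel

end Cfsg.Agent.Lib.Helper12.TCG.Fi24x306936
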