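import Cfsg.Agent.Lib.Helper12.TCG.Fi24x306936.TabT
import Cfsg.Agent.Lib.Helper12.TCG.Fi24x306936.Tab
import Cfsg.Agent.Lib.Helper12.TC.Fn.Ranges2

/-! relator checks for Fi24x306936, part 33 (generated, helper12) -/

set_option autoImplicit false
set_option maxRecDepth 100000
set_option Elab.async false

namespace Cfsg.Agent.Lib.Helper12.TCG.Fi24x306936

open Cfsg.Agent.Lib.Helper12.TC Cfsg.Agent.Lib.Helper12.TCG

theorem hm3_9 : Fn.fixRangeK TT (wpow [0, 3] 2) 181936 12500 = true := by decide +kernel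

theorem hm8_9 : Fn.fixRangeK TT (wpow [2, 4] 2) 181936 12500 = true := by decide +kernel

theorem hm9_16 : Fn.fixRangeK TT (wpow [3, 4] 3) 165275 8333 = true := by decide +kernel

theorem hm13_9 : Fn.fixRangeK TT (wpow [3, 5] 2) 181936 12500 = true := by decide +kernel

theorem hm18_9 : Fn.fixRangeK TT (wpow [3, 6] 2) 181936 12500 = true := by decide +kernel

theorem hm23_9 : Fn.fixRangeK TT (wpow [2, 7] 2) 181936 12500 = true := by decide +kernel

theorem hm27_4 : Fn.fixRangeK TT (wpow [6, 7] 3) 265271 8333 = true := by decide +kernel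

theorem hm28_9 : Fn.fixRangeK TT (wpow [0, 8] 2) 181936 12500 = true := by decide +kernel

theorem hm32_9 : Fn.fixRangeK TT (wpow [4, 8] 2) 181936 12500 = true := by decide +kernel

theorem hm37_9 : Fn.fixRangeK TT (wpow [1, 9] 2) 181936 12500 = true := by decide +kernel

theorem hm41_9 : Fn.fixRangeK TT (wpow [5, 9] 2) 181936 12500 = true := by decide +kernel

theorem hm44_28 : Fn.fixRangeK TT (wpow [8, 9] 3) 65279 8333 = true := by decide +kernel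

theorem hm46_9 : Fn.fixRangeK TT (wpow [1, 10] 2) 181936 12500 = true := by decide +kernel

theorem hm51_9 : Fn.fixRangeK TT (wpow [6, 10] 2) 181936 12500 = true := by decide +kernel

theorem hm55_9 : Fn.fixRangeK TT (wpow [0, 11] 2) 181936 12500 = true := by decide +kernel

theorem hm59_9 : Fn.fixRangeK TT (wpow [4, 11] 2) 181936 12500 = true := by decide +kernel

theorem hm63_9 : Fn.fixRangeK TT (wpow [8, 11] 2) 181936 12500 = true := by decide +kernel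

theorem hm66_1 : Fn.fixRangeK TT (wpow [0, 10, 7, 6, 5, 4, 3, 2, 10, 7, 6, 5, 4, 3, 2, 10, 7, 6, 5, 4, 3, 2, 10, 7, 6, 5, 4, 3, 2, 10, 7, 6, 5, 4, 3, 2, 10, 7, 6, 5, 4, 3, 2, 10, 7, 6, 5, 4, 3, 2, 10, 7, 6, 5, 4, 3, 2, 10, 7, 6, 5, 4, 3, 2] 1) 305374 781 = true := by decide +kernel

theorem hm66_43 : Fn.fixRangeK TT (wpow [0, 10, 7, 6, 5, 4, 3, 2, 10, 7, 6, 5, 4, 3, 2, 10, 7, 6, 5, 4, 3, 2, 10, 7, 6, 5, 4, 3, 2, 10, 7, 6, 5, 4, 3, 2, 10, 7, 6, 5, 4, 3, 2, 10, 7, 6, 5, 4, 3, 2, 10, 7, 6, 5, 4, 3, 2, 10, 7, 6, 5, 4, 3, 2] 1) 272572 781 = true := by decide +kernel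

theorem hm66_139 : Fn.fixRangeK TT (wpow [0, 10, 7, 6, 5, 4, 3, 2, 10, 7, 6, 5, 4, 3, 2, 10, 7, 6, 5, 4, 3, 2, 10, 7, 6, 5, 4, 3, 2, 10, 7, 6, 5, 4, 3, 2, 10, 7, 6, 5, 4, 3, 2, 10, 7, 6, 5, 4, 3, 2, 10, 7, 6, 5, 4, 3, 2, 10, 7, 6, 5, 4, 3, 2] 1) 197596 781 = true := by decide +kernel

theorem hm66_235 : Fn.fixRangeK TT (wpow [0, 10, 7, 6, 5, 4, 3, 2, 10, 7, 6, 5, 4, 3, 2, 10, 7, 6, 5, 4, 3, 2, 10, 7, 6, 5, 4, 3, 2, 10, 7, 6, 5, 4, 3, 2, 10, 7, 6, 5, 4, 3, 2, 10, 7, 6, 5, 4, 3, 2, 10, 7, 6, 5, 4, 3, 2, 10, 7, 6, 5, 4, 3, 2] 1) 122620 781 = true := by decide +kernel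

theorem hm66_331 : Fn.fixRangeK TT (wpow [0, 10, 7, 6, 5, 4, 3, 2, 10, 7, 6, 5, 4, 3, 2, 10, 7, 6, 5, 4, 3, 2, 10, 7, 6, 5, 4, 3, 2, 10, 7, 6, 5, 4, 3, 2, 10, 7, 6, 5, 4, 3, 2, 10, 7, 6, 5, 4, 3, 2, 10, 7, 6, 5, 4, 3, 2, 10, 7, 6, 5, 4, 3, 2] 1) 47644 781 = true := by decide +kernel

theorem hm68_16 : Fn.fixRangeK TT (wpow [12] 17) 256939 2941 = true := by decide +kernel

theorem hm68_64 : Fn.fixRangeK TT (wpow [12] 17) 115771 2941 = true := by decide +kernel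

theorem hm73_9 : Fn.fixRangeK TT (wpow [4] 2) 56936 25000 = true := by decide +kernel

theorem hm81_9 : Fn.fixRangeK TT (wpow [12, 13] 1) 56936 25000 = true := by decide +kernel

theorem hperm3_2 : permPartG 18360536419842404880 TT 3 tN 32768 16384 = true := by decide +kernel

theorem hperm8_8 : permPartG 18360536419842404880 TT 8 tN 131072 16384 = true := by decide +kernel

theorem hperm13_14 : permPartG 18360536419842404880 TT 13 tN 229376 16384 = true := by decide +kernel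

theorem htrans_9 : Fn.allRangeK (Fn.transP TT 14 sw) 159832 22844 = true := by decide +kernel

end Cfsg.Agent.Lib.Helper12.TCG.Fi24x306936
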