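import Cfsg.Agent.Lib.Helper12.TCG.Fi24x306936.TabT
import Cfsg.Agent.Lib.Helper12.TCG.Fi24x306936.Tab
import Cfsg.Agent.Lib.Helper12.TC.Fn.Ranges2

/-! relator checks for Fi24x306936, part 34 (generated, helper12) -/

set_option autoImplicit false
set_option maxRecDepth 100000
set_option Elab.async false

namespace Cfsg.Agent.Lib.Helper12.TCG.Fi24x306936

open Cfsg.Agent.Lib.Helper12.TC Cfsg.Agent.Lib.Helper12.TCG

theorem hm3_10 : Fn.fixRangeK TT (wpow [0, 3] 2) 169436 12500 = true := by decide +kernel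

theorem hm8_10 : Fn.fixRangeK TT (wpow [2, 4] 2) 169436 12500 = true := by decide +kernel

theorem hm9_17 : Fn.fixRangeK TT (wpow [3, 4] 3) 156942 8333 = true := by decide +kernel

theorem hm13_10 : Fn.fixRangeK TT (wpow [3, 5] 2) 169436 12500 = true := by decide +kernel

theorem hm18_10 : Fn.fixRangeK TT (wpow [3, 6] 2) 169436 12500 = true := by decide +kernel

theorem hm23_10 : Fn.fixRangeK TT (wpow [2, 7] 2) 169436 12500 = true := by decide +kernel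

theorem hm27_5 : Fn.fixRangeK TT (wpow [6, 7] 3) 256938 8333 = true := by decide +kernel

theorem hm28_10 : Fn.fixRangeK TT (wpow [0, 8] 2) 169436 12500 = true := by decide +kernel

theorem hm32_10 : Fn.fixRangeK TT (wpow [4, 8] 2) 169436 12500 = true := by decide +kernel

theorem hm37_10 : Fn.fixRangeK TT (wpow [1, 9] 2) 169436 12500 = true := by decide +kernel

theorem hm41_10 : Fn.fixRangeK TT (wpow [5, 9] 2) 169436 12500 = true := by decide +kernel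

theorem hm44_29 : Fn.fixRangeK TT (wpow [8, 9] 3) 56946 8333 = true := by decide +kernel

theorem hm46_10 : Fn.fixRangeK TT (wpow [1, 10] 2) 169436 12500 = true := by decide +kernel

theorem hm51_10 : Fn.fixRangeK TT (wpow [6, 10] 2) 169436 12500 = true := by decide +kernel

theorem hm55_10 : Fn.fixRangeK TT (wpow [0, 11] 2) 169436 12500 = true := by decide +kernel

theorem hm59_10 : Fn.fixRangeK TT (wpow [4, 11] 2) 169436 12500 = true := by decide +kernel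

theorem hm63_10 : Fn.fixRangeK TT (wpow [8, 11] 2) 169436 12500 = true := by decide +kernel

theorem hm66_2 : Fn.fixRangeK TT (wpow [0, 10, 7, 6, 5, 4, 3, 2, 10, 7, 6, 5, 4, 3, 2, 10, 7, 6, 5, 4, 3, 2, 10, 7, 6, 5, 4, 3, 2, 10, 7, 6, 5, 4, 3, 2, 10, 7, 6, 5, 4, 3, 2, 10, 7, 6, 5, 4, 3, 2, 10, 7, 6, 5, 4, 3, 2, 10, 7, 6, 5, 4, 3, 2] 1) 304593 781 = true := by decide +kernel

theorem hm66_44 : Fn.fixRangeK TT (wpow [0, 10, 7, 6, 5, 4, 3, 2, 10, 7, 6, 5, 4, 3, 2, 10, 7, 6, 5, 4, 3, 2, 10, 7, 6, 5, 4, 3, 2, 10, 7, 6, 5, 4, 3, 2, 10, 7, 6, 5, 4, 3, 2, 10, 7, 6, 5, 4, 3, 2, 10, 7, 6, 5, 4, 3, 2, 10, 7, 6, 5, 4, 3, 2] 1) 271791 781 = true := by decide +kernel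

theorem hm66_140 : Fn.fixRangeK TT (wpow [0, 10, 7, 6, 5, 4, 3, 2, 10, 7, 6, 5, 4, 3, 2, 10, 7, 6, 5, 4, 3, 2, 10, 7, 6, 5, 4, 3, 2, 10, 7, 6, 5, 4, 3, 2, 10, 7, 6, 5, 4, 3, 2, 10, 7, 6, 5, 4, 3, 2, 10, 7, 6, 5, 4, 3, 2, 10, 7, 6, 5, 4, 3, 2] 1) 196815 781 = true := by decide +kernel

theorem hm66_236 : Fn.fixRangeK TT (wpow [0, 10, 7, 6, 5, 4, 3, 2, 10, 7, 6, 5, 4, 3, 2, 10, 7, 6, 5, 4, 3, 2, 10, 7, 6, 5, 4, 3, 2, 10, 7, 6, 5, 4, 3, 2, 10, 7, 6, 5, 4, 3, 2, 10, 7, 6, 5, 4, 3, 2, 10, 7, 6, 5, 4, 3, 2, 10, 7, 6, 5, 4, 3, 2] 1) 121839 781 = true := by decide +kernel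

theorem hm66_332 : Fn.fixRangeK TT (wpow [0, 10, 7, 6, 5, 4, 3, 2, 10, 7, 6, 5, 4, 3, 2, 10, 7, 6, 5, 4, 3, 2, 10, 7, 6, 5, 4, 3, 2, 10, 7, 6, 5, 4, 3, 2, 10, 7, 6, 5, 4, 3, 2, 10, 7, 6, 5, 4, 3, 2, 10, 7, 6, 5, 4, 3, 2, 10, 7, 6, 5, 4, 3, 2] 1) 46863 781 = true := by decide +kernel

theorem hm68_17 : Fn.fixRangeK TT (wpow [12] 17) 253998 2941 = true := by decide +kernel

theorem hm68_65 : Fn.fixRangeK TT (wpow [12] 17) 112830 2941 = true := by decide +kernel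

theorem hm73_10 : Fn.fixRangeK TT (wpow [4] 2) 31936 25000 = true := by decide +kernel

theorem hm81_10 : Fn.fixRangeK TT (wpow [12, 13] 1) 31936 25000 = true := by decide +kernel

theorem hperm3_3 : permPartG 18360536419842404880 TT 3 tN 49152 16384 = true := by decide +kernel

theorem hperm8_9 : permPartG 18360536419842404880 TT 8 tN 147456 16384 = true := by decide +kernel

theorem hperm13_15 : permPartG 18360536419842404880 TT 13 tN 245760 16384 = true := by decide +kernel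

theorem htrans_10 : Fn.allRangeK (Fn.transP TT 14 sw) 182676 25799 = true := by decide +kernel

end Cfsg.Agent.Lib.Helper12.TCG.Fi24x306936
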