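import Cfsg.Agent.Lib.Helper12.TCG.Fi24x306936.TabT
import Cfsg.Agent.Lib.Helper12.TCG.Fi24x306936.Tab
import Cfsg.Agent.Lib.Helper12.TC.Fn.Ranges2

/-! relator checks for Fi24x306936, part 36 (generated, helper12) -/

set_option autoImplicit false
set_option maxRecDepth 100000
set_option Elab.async false

namespace Cfsg.Agent.Lib.Helper12.TCG.Fi24x306936

open Cfsg.Agent.Lib.Helper12.TC Cfsg.Agent.Lib.Helper12.TCG

theorem hm0_0 : Fn.fixRangeK TT (wpow [0, 1] 3) 298603 8333 = true := by decide +kernel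

theorem hm2_24 : Fn.fixRangeK TT (wpow [1, 2] 3) 98611 8333 = true := by decide +kernel

theorem hm3_12 : Fn.fixRangeK TT (wpow [0, 3] 2) 144436 12500 = true := by decide +kernel

theorem hm8_12 : Fn.fixRangeK TT (wpow [2, 4] 2) 144436 12500 = true := by decide +kernel

theorem hm13_12 : Fn.fixRangeK TT (wpow [3, 5] 2) 144436 12500 = true := by decide +kernel

theorem hm14_12 : Fn.fixRangeK TT (wpow [4, 5] 3) 198607 8333 = true := by decide +kernel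

theorem hm18_12 : Fn.fixRangeK TT (wpow [3, 6] 2) 144436 12500 = true := by decide +kernel

theorem hm23_12 : Fn.fixRangeK TT (wpow [2, 7] 2) 144436 12500 = true := by decide +kernel

theorem hm28_12 : Fn.fixRangeK TT (wpow [0, 8] 2) 144436 12500 = true := by decide +kernel

theorem hm32_12 : Fn.fixRangeK TT (wpow [4, 8] 2) 144436 12500 = true := by decide +kernel

theorem hm35_0 : Fn.fixRangeK TT (wpow [7, 8] 3) 298603 8333 = true := by decide +kernel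

theorem hm37_12 : Fn.fixRangeK TT (wpow [1, 9] 2) 144436 12500 = true := by decide +kernel

theorem hm41_12 : Fn.fixRangeK TT (wpow [5, 9] 2) 144436 12500 = true := by decide +kernel

theorem hm46_12 : Fn.fixRangeK TT (wpow [1, 10] 2) 144436 12500 = true := by decide +kernel

theorem hm50_24 : Fn.fixRangeK TT (wpow [5, 10] 3) 98611 8333 = true := by decide +kernel

theorem hm51_12 : Fn.fixRangeK TT (wpow [6, 10] 2) 144436 12500 = true := by decide +kernel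

theorem hm55_12 : Fn.fixRangeK TT (wpow [0, 11] 2) 144436 12500 = true := by decide +kernel

theorem hm59_12 : Fn.fixRangeK TT (wpow [4, 11] 2) 144436 12500 = true := by decide +kernel

theorem hm63_12 : Fn.fixRangeK TT (wpow [8, 11] 2) 144436 12500 = true := by decide +kernel

theorem hm66_4 : Fn.fixRangeK TT (wpow [0, 10, 7, 6, 5, 4, 3, 2, 10, 7, 6, 5, 4, 3, 2, 10, 7, 6, 5, 4, 3, 2, 10, 7, 6, 5, 4, 3, 2, 10, 7, 6, 5, 4, 3, 2, 10, 7, 6, 5, 4, 3, 2, 10, 7, 6, 5, 4, 3, 2, 10, 7, 6, 5, 4, 3, 2, 10, 7, 6, 5, 4, 3, 2] 1) 303031 781 = true := by decide +kernel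

theorem hm66_46 : Fn.fixRangeK TT (wpow [0, 10, 7, 6, 5, 4, 3, 2, 10, 7, 6, 5, 4, 3, 2, 10, 7, 6, 5, 4, 3, 2, 10, 7, 6, 5, 4, 3, 2, 10, 7, 6, 5, 4, 3, 2, 10, 7, 6, 5, 4, 3, 2, 10, 7, 6, 5, 4, 3, 2, 10, 7, 6, 5, 4, 3, 2, 10, 7, 6, 5, 4, 3, 2] 1) 270229 781 = true := by decide +kernel

theorem hm66_142 : Fn.fixRangeK TT (wpow [0, 10, 7, 6, 5, 4, 3, 2, 10, 7, 6, 5, 4, 3, 2, 10, 7, 6, 5, 4, 3, 2, 10, 7, 6, 5, 4, 3, 2, 10, 7, 6, 5, 4, 3, 2, 10, 7, 6, 5, 4, 3, 2, 10, 7, 6, 5, 4, 3, 2, 10, 7, 6, 5, 4, 3, 2, 10, 7, 6, 5, 4, 3, 2] 1) 195253 781 = true := by decide +kernel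

theorem hm66_238 : Fn.fixRangeK TT (wpow [0, 10, 7, 6, 5, 4, 3, 2, 10, 7, 6, 5, 4, 3, 2, 10, 7, 6, 5, 4, 3, 2, 10, 7, 6, 5, 4, 3, 2, 10, 7, 6, 5, 4, 3, 2, 10, 7, 6, 5, 4, 3, 2, 10, 7, 6, 5, 4, 3, 2, 10, 7, 6, 5, 4, 3, 2, 10, 7, 6, 5, 4, 3, 2] 1) 120277 781 = true := by decide +kernel

theorem hm66_334 : Fn.fixRangeK TT (wpow [0, 10, 7, 6, 5, 4, 3, 2, 10, 7, 6, 5, 4, 3, 2, 10, 7, 6, 5, 4, 3, 2, 10, 7, 6, 5, 4, 3, 2, 10, 7, 6, 5, 4, 3, 2, 10, 7, 6, 5, 4, 3, 2, 10, 7, 6, 5, 4, 3, 2, 10, 7, 6, 5, 4, 3, 2, 10, 7, 6, 5, 4, 3, 2] 1) 45301 781 = true := by decide +kernel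

theorem hm68_67 : Fn.fixRangeK TT (wpow [12] 17) 106948 2941 = true := by decide +kernel

theorem hm74_0 : Fn.fixRangeK TT (wpow [5] 2) 281936 25000 = true := by decide +kernel

theorem hm82_0 : Fn.fixRangeK TT (wpow [13, 12] 1) 281936 25000 = true := by decide +kernel

theorem hperm3_5 : permPartG 18360536419842404880 TT 3 tN 81920 16384 = true := by decide +kernel

theorem hperm8_11 : permPartG 18360536419842404880 TT 8 tN 180224 16384 = true := by decide +kernel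

theorem hperm13_17 : permPartG 18360536419842404880 TT 13 tN 278528 16384 = true := by decide +kernel

end Cfsg.Agent.Lib.Helper12.TCG.Fi24x306936
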