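import Cfsg.Agent.Lib.Helper12.TCG.Fi24x306936.TabT
import Cfsg.Agent.Lib.Helper12.TCG.Fi24x306936.Tab
import Cfsg.Agent.Lib.Helper12.TC.Fn.Ranges2

/-! relator checks for Fi24x306936, part 37 (generated, helper12) -/

set_option autoImplicit false
set_option maxRecDepth 100000
set_option Elab.async false

namespace Cfsg.Agent.Lib.Helper12.TCG.Fi24x306936

open Cfsg.Agent.Lib.Helper12.TC Cfsg.Agent.Lib.Helper12.TCG

theorem hm0_1 : Fn.fixRangeK TT (wpow [0, 1] 3) 290270 8333 = true := by decide +kernel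

theorem hm2_25 : Fn.fixRangeK TT (wpow [1, 2] 3) 90278 8333 = true := by decide +kernel

theorem hm3_13 : Fn.fixRangeK TT (wpow [0, 3] 2) 131936 12500 = true := by decide +kernel

theorem hm8_13 : Fn.fixRangeK TT (wpow [2, 4] 2) 131936 12500 = true := by decide +kernel

theorem hm13_13 : Fn.fixRangeK TT (wpow [3, 5] 2) 131936 12500 = true := by decide +kernel

theorem hm14_13 : Fn.fixRangeK TT (wpow [4, 5] 3) 190274 8333 = true := by decide +kernel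

theorem hm18_13 : Fn.fixRangeK TT (wpow [3, 6] 2) 131936 12500 = true := by decide +kernel

theorem hm23_13 : Fn.fixRangeK TT (wpow [2, 7] 2) 131936 12500 = true := by decide +kernel

theorem hm28_13 : Fn.fixRangeK TT (wpow [0, 8] 2) 131936 12500 = true := by decide +kernel

theorem hm32_13 : Fn.fixRangeK TT (wpow [4, 8] 2) 131936 12500 = true := by decide +kernel

theorem hm35_1 : Fn.fixRangeK TT (wpow [7, 8] 3) 290270 8333 = true := by decide +kernel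

theorem hm37_13 : Fn.fixRangeK TT (wpow [1, 9] 2) 131936 12500 = true := by decide +kernel

theorem hm41_13 : Fn.fixRangeK TT (wpow [5, 9] 2) 131936 12500 = true := by decide +kernel

theorem hm46_13 : Fn.fixRangeK TT (wpow [1, 10] 2) 131936 12500 = true := by decide +kernel

theorem hm50_25 : Fn.fixRangeK TT (wpow [5, 10] 3) 90278 8333 = true := by decide +kernel

theorem hm51_13 : Fn.fixRangeK TT (wpow [6, 10] 2) 131936 12500 = true := by decide +kernel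

theorem hm55_13 : Fn.fixRangeK TT (wpow [0, 11] 2) 131936 12500 = true := by decide +kernel

theorem hm59_13 : Fn.fixRangeK TT (wpow [4, 11] 2) 131936 12500 = true := by decide +kernel

theorem hm63_13 : Fn.fixRangeK TT (wpow [8, 11] 2) 131936 12500 = true := by decide +kernel

theorem hm66_5 : Fn.fixRangeK TT (wpow [0, 10, 7, 6, 5, 4, 3, 2, 10, 7, 6, 5, 4, 3, 2, 10, 7, 6, 5, 4, 3, 2, 10, 7, 6, 5, 4, 3, 2, 10, 7, 6, 5, 4, 3, 2, 10, 7, 6, 5, 4, 3, 2, 10, 7, 6, 5, 4, 3, 2, 10, 7, 6, 5, 4, 3, 2, 10, 7, 6, 5, 4, 3, 2] 1) 302250 781 = true := by decide +kernel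

theorem hm66_47 : Fn.fixRangeK TT (wpow [0, 10, 7, 6, 5, 4, 3, 2, 10, 7, 6, 5, 4, 3, 2, 10, 7, 6, 5, 4, 3, 2, 10, 7, 6, 5, 4, 3, 2, 10, 7, 6, 5, 4, 3, 2, 10, 7, 6, 5, 4, 3, 2, 10, 7, 6, 5, 4, 3, 2, 10, 7, 6, 5, 4, 3, 2, 10, 7, 6, 5, 4, 3, 2] 1) 269448 781 = true := by decide +kernel

theorem hm66_143 : Fn.fixRangeK TT (wpow [0, 10, 7, 6, 5, 4, 3, 2, 10, 7, 6, 5, 4, 3, 2, 10, 7, 6, 5, 4, 3, 2, 10, 7, 6, 5, 4, 3, 2, 10, 7, 6, 5, 4, 3, 2, 10, 7, 6, 5, 4, 3, 2, 10, 7, 6, 5, 4, 3, 2, 10, 7, 6, 5, 4, 3, 2, 10, 7, 6, 5, 4, 3, 2] 1) 194472 781 = true := by decide +kernel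

theorem hm66_239 : Fn.fixRangeK TT (wpow [0, 10, 7, 6, 5, 4, 3, 2, 10, 7, 6, 5, 4, 3, 2, 10, 7, 6, 5, 4, 3, 2, 10, 7, 6, 5, 4, 3, 2, 10, 7, 6, 5, 4, 3, 2, 10, 7, 6, 5, 4, 3, 2, 10, 7, 6, 5, 4, 3, 2, 10, 7, 6, 5, 4, 3, 2, 10, 7, 6, 5, 4, 3, 2] 1) 119496 781 = true := by decide +kernel

theorem hm66_335 : Fn.fixRangeK TT (wpow [0, 10, 7, 6, 5, 4, 3, 2, 10, 7, 6, 5, 4, 3, 2, 10, 7, 6, 5, 4, 3, 2, 10, 7, 6, 5, 4, 3, 2, 10, 7, 6, 5, 4, 3, 2, 10, 7, 6, 5, 4, 3, 2, 10, 7, 6, 5, 4, 3, 2, 10, 7, 6, 5, 4, 3, 2, 10, 7, 6, 5, 4, 3, 2] 1) 44520 781 = true := by decide +kernel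

theorem hm68_68 : Fn.fixRangeK TT (wpow [12] 17) 104007 2941 = true := by decide +kernel

theorem hm74_1 : Fn.fixRangeK TT (wpow [5] 2) 256936 25000 = true := by decide +kernel

theorem hm82_1 : Fn.fixRangeK TT (wpow [13, 12] 1) 256936 25000 = true := by decide +kernel

theorem hperm3_6 : permPartG 18360536419842404880 TT 3 tN 98304 16384 = true := by decide +kernel

theorem hperm8_12 : permPartG 18360536419842404880 TT 8 tN 196608 16384 = true := by decide +kernel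

theorem htrans_13 : Fn.allRangeK (Fn.transP TT 14 sw) 276828 30108 = true := by decide +kernel

end Cfsg.Agent.Lib.Helper12.TCG.Fi24x306936
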