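import Cfsg.Agent.Lib.Helper12.TCG.Fi24x306936.TabT
import Cfsg.Agent.Lib.Helper12.TCG.Fi24x306936.Tab
import Cfsg.Agent.Lib.Helper12.TC.Fn.Ranges2

/-! relator checks for Fi24x306936, part 38 (generated, helper12) -/

set_option autoImplicit false
set_option maxRecDepth 100000
set_option Elab.async false

namespace Cfsg.Agent.Lib.Helper12.TCG.Fi24x306936

open Cfsg.Agent.Lib.Helper12.TC Cfsg.Agent.Lib.Helper12.TCG

theorem hm0_2 : Fn.fixRangeK TT (wpow [0, 1] 3) 281937 8333 = true := by decide +kernel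

theorem hm2_26 : Fn.fixRangeK TT (wpow [1, 2] 3) 81945 8333 = true := by decide +kernel

theorem hm3_14 : Fn.fixRangeK TT (wpow [0, 3] 2) 119436 12500 = true := by decide +kernel

theorem hm8_14 : Fn.fixRangeK TT (wpow [2, 4] 2) 119436 12500 = true := by decide +kernel

theorem hm13_14 : Fn.fixRangeK TT (wpow [3, 5] 2) 119436 12500 = true := by decide +kernel

theorem hm14_14 : Fn.fixRangeK TT (wpow [4, 5] 3) 181941 8333 = true := by decide +kernel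

theorem hm18_14 : Fn.fixRangeK TT (wpow [3, 6] 2) 119436 12500 = true := by decide +kernel

theorem hm23_14 : Fn.fixRangeK TT (wpow [2, 7] 2) 119436 12500 = true := by decide +kernel

theorem hm28_14 : Fn.fixRangeK TT (wpow [0, 8] 2) 119436 12500 = true := by decide +kernel

theorem hm32_14 : Fn.fixRangeK TT (wpow [4, 8] 2) 119436 12500 = true := by decide +kernel

theorem hm35_2 : Fn.fixRangeK TT (wpow [7, 8] 3) 281937 8333 = true := by decide +kernel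

theorem hm37_14 : Fn.fixRangeK TT (wpow [1, 9] 2) 119436 12500 = true := by decide +kernel

theorem hm41_14 : Fn.fixRangeK TT (wpow [5, 9] 2) 119436 12500 = true := by decide +kernel

theorem hm46_14 : Fn.fixRangeK TT (wpow [1, 10] 2) 119436 12500 = true := by decide +kernel

theorem hm50_26 : Fn.fixRangeK TT (wpow [5, 10] 3) 81945 8333 = true := by decide +kernel

theorem hm51_14 : Fn.fixRangeK TT (wpow [6, 10] 2) 119436 12500 = true := by decide +kernel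

theorem hm55_14 : Fn.fixRangeK TT (wpow [0, 11] 2) 119436 12500 = true := by decide +kernel

theorem hm59_14 : Fn.fixRangeK TT (wpow [4, 11] 2) 119436 12500 = true := by decide +kernel

theorem hm63_14 : Fn.fixRangeK TT (wpow [8, 11] 2) 119436 12500 = true := by decide +kernel

theorem hm66_6 : Fn.fixRangeK TT (wpow [0, 10, 7, 6, 5, 4, 3, 2, 10, 7, 6, 5, 4, 3, 2, 10, 7, 6, 5, 4, 3, 2, 10, 7, 6, 5, 4, 3, 2, 10, 7, 6, 5, 4, 3, 2, 10, 7, 6, 5, 4, 3, 2, 10, 7, 6, 5, 4, 3, 2, 10, 7, 6, 5, 4, 3, 2, 10, 7, 6, 5, 4, 3, 2] 1) 301469 781 = true := by decide +kernel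

theorem hm66_48 : Fn.fixRangeK TT (wpow [0, 10, 7, 6, 5, 4, 3, 2, 10, 7, 6, 5, 4, 3, 2, 10, 7, 6, 5, 4, 3, 2, 10, 7, 6, 5, 4, 3, 2, 10, 7, 6, 5, 4, 3, 2, 10, 7, 6, 5, 4, 3, 2, 10, 7, 6, 5, 4, 3, 2, 10, 7, 6, 5, 4, 3, 2, 10, 7, 6, 5, 4, 3, 2] 1) 268667 781 = true := by decide +kernel

theorem hm66_144 : Fn.fixRangeK TT (wpow [0, 10, 7, 6, 5, 4, 3, 2, 10, 7, 6, 5, 4, 3, 2, 10, 7, 6, 5, 4, 3, 2, 10, 7, 6, 5, 4, 3, 2, 10, 7, 6, 5, 4, 3, 2, 10, 7, 6, 5, 4, 3, 2, 10, 7, 6, 5, 4, 3, 2, 10, 7, 6, 5, 4, 3, 2, 10, 7, 6, 5, 4, 3, 2] 1) 193691 781 = true := by decide +kernel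

theorem hm66_240 : Fn.fixRangeK TT (wpow [0, 10, 7, 6, 5, 4, 3, 2, 10, 7, 6, 5, 4, 3, 2, 10, 7, 6, 5, 4, 3, 2, 10, 7, 6, 5, 4, 3, 2, 10, 7, 6, 5, 4, 3, 2, 10, 7, 6, 5, 4, 3, 2, 10, 7, 6, 5, 4, 3, 2, 10, 7, 6, 5, 4, 3, 2, 10, 7, 6, 5, 4, 3, 2] 1) 118715 781 = true := by decide +kernel

theorem hm66_336 : Fn.fixRangeK TT (wpow [0, 10, 7, 6, 5, 4, 3, 2, 10, 7, 6, 5, 4, 3, 2, 10, 7, 6, 5, 4, 3, 2, 10, 7, 6, 5, 4, 3, 2, 10, 7, 6, 5, 4, 3, 2, 10, 7, 6, 5, 4, 3, 2, 10, 7, 6, 5, 4, 3, 2, 10, 7, 6, 5, 4, 3, 2, 10, 7, 6, 5, 4, 3, 2] 1) 43739 781 = true := by decide +kernel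

theorem hm68_69 : Fn.fixRangeK TT (wpow [12] 17) 101066 2941 = true := by decide +kernel

theorem hm74_2 : Fn.fixRangeK TT (wpow [5] 2) 231936 25000 = true := by decide +kernel

theorem hm79_12 : Fn.fixRangeK TT (wpow [10] 2) 0 6936 = true := by decide +kernel

theorem hm82_2 : Fn.fixRangeK TT (wpow [13, 12] 1) 231936 25000 = true := by decide +kernel

theorem horbi2_0_0 : Fn.allRangeK (Fn.invP TT [2] 275265 306936) 275265 31671 = true := by decide +kernel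

theorem hperm3_7 : permPartG 18360536419842404880 TT 3 tN 114688 16384 = true := by decide +kernel

theorem hperm8_13 : permPartG 18360536419842404880 TT 8 tN 212992 16384 = true := by decide +kernel

end Cfsg.Agent.Lib.Helper12.TCG.Fi24x306936
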