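import Cfsg.Agent.Lib.Helper12.TCG.Fi24x306936.TabT
import Cfsg.Agent.Lib.Helper12.TCG.Fi24x306936.Tab
import Cfsg.Agent.Lib.Helper12.TC.Fn.Ranges2

/-! relator checks for Fi24x306936, part 39 (generated, helper12) -/

set_option autoImplicit false
set_option maxRecDepth 100000
set_option Elab.async false

namespace Cfsg.Agent.Lib.Helper12.TCG.Fi24x306936

open Cfsg.Agent.Lib.Helper12.TC Cfsg.Agent.Lib.Helper12.TCG

theorem hm0_3 : Fn.fixRangeK TT (wpow [0, 1] 3) 273604 8333 = true := by decide +kernel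

theorem hm2_27 : Fn.fixRangeK TT (wpow [1, 2] 3) 73612 8333 = true := by decide +kernel

theorem hm3_15 : Fn.fixRangeK TT (wpow [0, 3] 2) 106936 12500 = true := by decide +kernel

theorem hm8_15 : Fn.fixRangeK TT (wpow [2, 4] 2) 106936 12500 = true := by decide +kernel

theorem hm13_15 : Fn.fixRangeK TT (wpow [3, 5] 2) 106936 12500 = true := by decide +kernel

theorem hm14_15 : Fn.fixRangeK TT (wpow [4, 5] 3) 173608 8333 = true := by decide +kernel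

theorem hm18_15 : Fn.fixRangeK TT (wpow [3, 6] 2) 106936 12500 = true := by decide +kernel

theorem hm23_15 : Fn.fixRangeK TT (wpow [2, 7] 2) 106936 12500 = true := by decide +kernel

theorem hm28_15 : Fn.fixRangeK TT (wpow [0, 8] 2) 106936 12500 = true := by decide +kernel

theorem hm32_15 : Fn.fixRangeK TT (wpow [4, 8] 2) 106936 12500 = true := by decide +kernel

theorem hm35_3 : Fn.fixRangeK TT (wpow [7, 8] 3) 273604 8333 = true := by decide +kernel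

theorem hm37_15 : Fn.fixRangeK TT (wpow [1, 9] 2) 106936 12500 = true := by decide +kernel

theorem hm41_15 : Fn.fixRangeK TT (wpow [5, 9] 2) 106936 12500 = true := by decide +kernel

theorem hm46_15 : Fn.fixRangeK TT (wpow [1, 10] 2) 106936 12500 = true := by decide +kernel

theorem hm50_27 : Fn.fixRangeK TT (wpow [5, 10] 3) 73612 8333 = true := by decide +kernel

theorem hm51_15 : Fn.fixRangeK TT (wpow [6, 10] 2) 106936 12500 = true := by decide +kernel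

theorem hm55_15 : Fn.fixRangeK TT (wpow [0, 11] 2) 106936 12500 = true := by decide +kernel

theorem hm59_15 : Fn.fixRangeK TT (wpow [4, 11] 2) 106936 12500 = true := by decide +kernel

theorem hm63_15 : Fn.fixRangeK TT (wpow [8, 11] 2) 106936 12500 = true := by decide +kernel

theorem hm66_7 : Fn.fixRangeK TT (wpow [0, 10, 7, 6, 5, 4, 3, 2, 10, 7, 6, 5, 4, 3, 2, 10, 7, 6, 5, 4, 3, 2, 10, 7, 6, 5, 4, 3, 2, 10, 7, 6, 5, 4, 3, 2, 10, 7, 6, 5, 4, 3, 2, 10, 7, 6, 5, 4, 3, 2, 10, 7, 6, 5, 4, 3, 2, 10, 7, 6, 5, 4, 3, 2] 1) 300688 781 = true := by decide +kernel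

theorem hm66_49 : Fn.fixRangeK TT (wpow [0, 10, 7, 6, 5, 4, 3, 2, 10, 7, 6, 5, 4, 3, 2, 10, 7, 6, 5, 4, 3, 2, 10, 7, 6, 5, 4, 3, 2, 10, 7, 6, 5, 4, 3, 2, 10, 7, 6, 5, 4, 3, 2, 10, 7, 6, 5, 4, 3, 2, 10, 7, 6, 5, 4, 3, 2, 10, 7, 6, 5, 4, 3, 2] 1) 267886 781 = true := by decide +kernel

theorem hm66_145 : Fn.fixRangeK TT (wpow [0, 10, 7, 6, 5, 4, 3, 2, 10, 7, 6, 5, 4, 3, 2, 10, 7, 6, 5, 4, 3, 2, 10, 7, 6, 5, 4, 3, 2, 10, 7, 6, 5, 4, 3, 2, 10, 7, 6, 5, 4, 3, 2, 10, 7, 6, 5, 4, 3, 2, 10, 7, 6, 5, 4, 3, 2, 10, 7, 6, 5, 4, 3, 2] 1) 192910 781 = true := by decide +kernel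

theorem hm66_241 : Fn.fixRangeK TT (wpow [0, 10, 7, 6, 5, 4, 3, 2, 10, 7, 6, 5, 4, 3, 2, 10, 7, 6, 5, 4, 3, 2, 10, 7, 6, 5, 4, 3, 2, 10, 7, 6, 5, 4, 3, 2, 10, 7, 6, 5, 4, 3, 2, 10, 7, 6, 5, 4, 3, 2, 10, 7, 6, 5, 4, 3, 2, 10, 7, 6, 5, 4, 3, 2] 1) 117934 781 = true := by decide +kernel

theorem hm66_337 : Fn.fixRangeK TT (wpow [0, 10, 7, 6, 5, 4, 3, 2, 10, 7, 6, 5, 4, 3, 2, 10, 7, 6, 5, 4, 3, 2, 10, 7, 6, 5, 4, 3, 2, 10, 7, 6, 5, 4, 3, 2, 10, 7, 6, 5, 4, 3, 2, 10, 7, 6, 5, 4, 3, 2, 10, 7, 6, 5, 4, 3, 2, 10, 7, 6, 5, 4, 3, 2] 1) 42958 781 = true := by decide +kernel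

theorem hm68_70 : Fn.fixRangeK TT (wpow [12] 17) 98125 2941 = true := by decide +kernel

theorem hm74_3 : Fn.fixRangeK TT (wpow [5] 2) 206936 25000 = true := by decide +kernel

theorem hm80_12 : Fn.fixRangeK TT (wpow [11] 2) 0 6936 = true := by decide +kernel

theorem hm82_3 : Fn.fixRangeK TT (wpow [13, 12] 1) 206936 25000 = true := by decide +kernel

theorem horbi2_1_0 : Fn.allRangeK (Fn.invP TT [3] 275265 306936) 275265 31671 = true := by decide +kernel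

theorem hperm3_8 : permPartG 18360536419842404880 TT 3 tN 131072 16384 = true := by decide +kernel

theorem hperm8_14 : permPartG 18360536419842404880 TT 8 tN 229376 16384 = true := by decide +kernel

end Cfsg.Agent.Lib.Helper12.TCG.Fi24x306936
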