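import Cfsg.Agent.Lib.Helper12.TCG.Fi24x306936.TabT
import Cfsg.Agent.Lib.Helper12.TCG.Fi24x306936.Tab
import Cfsg.Agent.Lib.Helper12.TC.Fn.Ranges2

/-! relator checks for Fi24x306936, part 4 (generated, helper12) -/

set_option autoImplicit false
set_option maxRecDepth 100000
set_option Elab.async false

namespace Cfsg.Agent.Lib.Helper12.TCG.Fi24x306936

open Cfsg.Agent.Lib.Helper12.TC Cfsg.Agent.Lib.Helper12.TCG

theorem hm1_4 : Fn.fixRangeK TT (wpow [0, 2] 2) 244436 12500 = true := by decide +kernel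

theorem hm7_4 : Fn.fixRangeK TT (wpow [1, 4] 2) 244436 12500 = true := by decide +kernel

theorem hm9_23 : Fn.fixRangeK TT (wpow [3, 4] 3) 106944 8333 = true := by decide +kernel

theorem hm12_4 : Fn.fixRangeK TT (wpow [2, 5] 2) 244436 12500 = true := by decide +kernel

theorem hm17_4 : Fn.fixRangeK TT (wpow [2, 6] 2) 244436 12500 = true := by decide +kernel

theorem hm22_4 : Fn.fixRangeK TT (wpow [1, 7] 2) 244436 12500 = true := by decide +kernel

theorem hm26_4 : Fn.fixRangeK TT (wpow [5, 7] 2) 244436 12500 = true := by decide +kernel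

theorem hm27_11 : Fn.fixRangeK TT (wpow [6, 7] 3) 206940 8333 = true := by decide +kernel

theorem hm31_4 : Fn.fixRangeK TT (wpow [3, 8] 2) 244436 12500 = true := by decide +kernel

theorem hm32_24 : Fn.fixRangeK TT (wpow [4, 8] 2) 0 6936 = true := by decide +kernel

theorem hm36_4 : Fn.fixRangeK TT (wpow [0, 9] 2) 244436 12500 = true := by decide +kernel

theorem hm40_4 : Fn.fixRangeK TT (wpow [4, 9] 2) 244436 12500 = true := by decide +kernel

theorem hm44_35 : Fn.fixRangeK TT (wpow [8, 9] 3) 6948 8333 = true := by decide +kernel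

theorem hm45_4 : Fn.fixRangeK TT (wpow [0, 10] 2) 244436 12500 = true := by decide +kernel

theorem hm49_4 : Fn.fixRangeK TT (wpow [4, 10] 2) 244436 12500 = true := by decide +kernel

theorem hm54_4 : Fn.fixRangeK TT (wpow [9, 10] 2) 244436 12500 = true := by decide +kernel

theorem hm58_4 : Fn.fixRangeK TT (wpow [3, 11] 2) 244436 12500 = true := by decide +kernel

theorem hm62_4 : Fn.fixRangeK TT (wpow [7, 11] 2) 244436 12500 = true := by decide +kernel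

theorem hm66_98 : Fn.fixRangeK TT (wpow [0, 10, 7, 6, 5, 4, 3, 2, 10, 7, 6, 5, 4, 3, 2, 10, 7, 6, 5, 4, 3, 2, 10, 7, 6, 5, 4, 3, 2, 10, 7, 6, 5, 4, 3, 2, 10, 7, 6, 5, 4, 3, 2, 10, 7, 6, 5, 4, 3, 2, 10, 7, 6, 5, 4, 3, 2, 10, 7, 6, 5, 4, 3, 2] 1) 229617 781 = true := by decide +kernel

theorem hm66_194 : Fn.fixRangeK TT (wpow [0, 10, 7, 6, 5, 4, 3, 2, 10, 7, 6, 5, 4, 3, 2, 10, 7, 6, 5, 4, 3, 2, 10, 7, 6, 5, 4, 3, 2, 10, 7, 6, 5, 4, 3, 2, 10, 7, 6, 5, 4, 3, 2, 10, 7, 6, 5, 4, 3, 2, 10, 7, 6, 5, 4, 3, 2, 10, 7, 6, 5, 4, 3, 2] 1) 154641 781 = true := by decide +kernel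

theorem hm66_290 : Fn.fixRangeK TT (wpow [0, 10, 7, 6, 5, 4, 3, 2, 10, 7, 6, 5, 4, 3, 2, 10, 7, 6, 5, 4, 3, 2, 10, 7, 6, 5, 4, 3, 2, 10, 7, 6, 5, 4, 3, 2, 10, 7, 6, 5, 4, 3, 2, 10, 7, 6, 5, 4, 3, 2, 10, 7, 6, 5, 4, 3, 2, 10, 7, 6, 5, 4, 3, 2] 1) 79665 781 = true := by decide +kernel

theorem hm66_386 : Fn.fixRangeK TT (wpow [0, 10, 7, 6, 5, 4, 3, 2, 10, 7, 6, 5, 4, 3, 2, 10, 7, 6, 5, 4, 3, 2, 10, 7, 6, 5, 4, 3, 2, 10, 7, 6, 5, 4, 3, 2, 10, 7, 6, 5, 4, 3, 2, 10, 7, 6, 5, 4, 3, 2, 10, 7, 6, 5, 4, 3, 2, 10, 7, 6, 5, 4, 3, 2] 1) 4689 781 = true := by decide +kernel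

theorem hm67_14 : Fn.fixRangeK TT (wpow [13, 5, 4, 3, 2, 1, 0, 5, 6, 7, 8, 9, 5, 10, 11] 1) 256941 3333 = true := by decide +kernel

theorem hm67_53 : Fn.fixRangeK TT (wpow [13, 5, 4, 3, 2, 1, 0, 5, 6, 7, 8, 9, 5, 10, 11] 1) 126954 3333 = true := by decide +kernel

theorem hm68_23 : Fn.fixRangeK TT (wpow [12] 17) 236352 2941 = true := by decide +kernel

theorem hm71_4 : Fn.fixRangeK TT (wpow [2] 2) 181936 25000 = true := by decide +kernel

theorem hm79_4 : Fn.fixRangeK TT (wpow [10] 2) 181936 25000 = true := by decide +kernel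

theorem horbi1_2_5 : Fn.allRangeK (Fn.invP TT [4] 1 275265) 250001 25264 = true := by decide +kernel

theorem horbi1_9_1 : Fn.allRangeK (Fn.invP TT [9] 1 275265) 50001 50000 = true := by decide +kernel

theorem hperm6_3 : permPartG 18360536419842404880 TT 6 tN 49152 16384 = true := by decide +kernel

theorem hperm11_9 : permPartG 18360536419842404880 TT 11 tN 147456 16384 = true := by decide +kernel

end Cfsg.Agent.Lib.Helper12.TCG.Fi24x306936
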