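import Cfsg.Agent.Lib.Helper12.TCG.Fi24x306936.TabT
import Cfsg.Agent.Lib.Helper12.TCG.Fi24x306936.Tab
import Cfsg.Agent.Lib.Helper12.TC.Fn.Ranges2

/-! relator checks for Fi24x306936, part 40 (generated, helper12) -/

set_option autoImplicit false
set_option maxRecDepth 100000
set_option Elab.async false

namespace Cfsg.Agent.Lib.Helper12.TCG.Fi24x306936

open Cfsg.Agent.Lib.Helper12.TC Cfsg.Agent.Lib.Helper12.TCG

theorem hm0_4 : Fn.fixRangeK TT (wpow [0, 1] 3) 265271 8333 = true := by decide +kernel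

theorem hm2_28 : Fn.fixRangeK TT (wpow [1, 2] 3) 65279 8333 = true := by decide +kernel

theorem hm3_16 : Fn.fixRangeK TT (wpow [0, 3] 2) 94436 12500 = true := by decide +kernel

theorem hm8_16 : Fn.fixRangeK TT (wpow [2, 4] 2) 94436 12500 = true := by decide +kernel

theorem hm13_16 : Fn.fixRangeK TT (wpow [3, 5] 2) 94436 12500 = true := by decide +kernel

theorem hm14_16 : Fn.fixRangeK TT (wpow [4, 5] 3) 165275 8333 = true := by decide +kernel

theorem hm18_16 : Fn.fixRangeK TT (wpow [3, 6] 2) 94436 12500 = true := by decide +kernel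

theorem hm23_16 : Fn.fixRangeK TT (wpow [2, 7] 2) 94436 12500 = true := by decide +kernel

theorem hm28_16 : Fn.fixRangeK TT (wpow [0, 8] 2) 94436 12500 = true := by decide +kernel

theorem hm32_16 : Fn.fixRangeK TT (wpow [4, 8] 2) 94436 12500 = true := by decide +kernel

theorem hm35_4 : Fn.fixRangeK TT (wpow [7, 8] 3) 265271 8333 = true := by decide +kernel

theorem hm37_16 : Fn.fixRangeK TT (wpow [1, 9] 2) 94436 12500 = true := by decide +kernel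

theorem hm41_16 : Fn.fixRangeK TT (wpow [5, 9] 2) 94436 12500 = true := by decide +kernel

theorem hm46_16 : Fn.fixRangeK TT (wpow [1, 10] 2) 94436 12500 = true := by decide +kernel

theorem hm50_28 : Fn.fixRangeK TT (wpow [5, 10] 3) 65279 8333 = true := by decide +kernel

theorem hm51_16 : Fn.fixRangeK TT (wpow [6, 10] 2) 94436 12500 = true := by decide +kernel

theorem hm55_16 : Fn.fixRangeK TT (wpow [0, 11] 2) 94436 12500 = true := by decide +kernel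

theorem hm59_16 : Fn.fixRangeK TT (wpow [4, 11] 2) 94436 12500 = true := by decide +kernel

theorem hm63_16 : Fn.fixRangeK TT (wpow [8, 11] 2) 94436 12500 = true := by decide +kernel

theorem hm66_8 : Fn.fixRangeK TT (wpow [0, 10, 7, 6, 5, 4, 3, 2, 10, 7, 6, 5, 4, 3, 2, 10, 7, 6, 5, 4, 3, 2, 10, 7, 6, 5, 4, 3, 2, 10, 7, 6, 5, 4, 3, 2, 10, 7, 6, 5, 4, 3, 2, 10, 7, 6, 5, 4, 3, 2, 10, 7, 6, 5, 4, 3, 2, 10, 7, 6, 5, 4, 3, 2] 1) 299907 781 = true := by decide +kernel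

theorem hm66_50 : Fn.fixRangeK TT (wpow [0, 10, 7, 6, 5, 4, 3, 2, 10, 7, 6, 5, 4, 3, 2, 10, 7, 6, 5, 4, 3, 2, 10, 7, 6, 5, 4, 3, 2, 10, 7, 6, 5, 4, 3, 2, 10, 7, 6, 5, 4, 3, 2, 10, 7, 6, 5, 4, 3, 2, 10, 7, 6, 5, 4, 3, 2, 10, 7, 6, 5, 4, 3, 2] 1) 267105 781 = true := by decide +kernel

theorem hm66_146 : Fn.fixRangeK TT (wpow [0, 10, 7, 6, 5, 4, 3, 2, 10, 7, 6, 5, 4, 3, 2, 10, 7, 6, 5, 4, 3, 2, 10, 7, 6, 5, 4, 3, 2, 10, 7, 6, 5, 4, 3, 2, 10, 7, 6, 5, 4, 3, 2, 10, 7, 6, 5, 4, 3, 2, 10, 7, 6, 5, 4, 3, 2, 10, 7, 6, 5, 4, 3, 2] 1) 192129 781 = true := by decide +kernel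

theorem hm66_242 : Fn.fixRangeK TT (wpow [0, 10, 7, 6, 5, 4, 3, 2, 10, 7, 6, 5, 4, 3, 2, 10, 7, 6, 5, 4, 3, 2, 10, 7, 6, 5, 4, 3, 2, 10, 7, 6, 5, 4, 3, 2, 10, 7, 6, 5, 4, 3, 2, 10, 7, 6, 5, 4, 3, 2, 10, 7, 6, 5, 4, 3, 2, 10, 7, 6, 5, 4, 3, 2] 1) 117153 781 = true := by decide +kernel

theorem hm66_338 : Fn.fixRangeK TT (wpow [0, 10, 7, 6, 5, 4, 3, 2, 10, 7, 6, 5, 4, 3, 2, 10, 7, 6, 5, 4, 3, 2, 10, 7, 6, 5, 4, 3, 2, 10, 7, 6, 5, 4, 3, 2, 10, 7, 6, 5, 4, 3, 2, 10, 7, 6, 5, 4, 3, 2, 10, 7, 6, 5, 4, 3, 2, 10, 7, 6, 5, 4, 3, 2] 1) 42177 781 = true := by decide +kernel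

theorem hm68_71 : Fn.fixRangeK TT (wpow [12] 17) 95184 2941 = true := by decide +kernel

theorem hm74_4 : Fn.fixRangeK TT (wpow [5] 2) 181936 25000 = true := by decide +kernel

theorem hm81_12 : Fn.fixRangeK TT (wpow [12, 13] 1) 0 6936 = true := by decide +kernel

theorem hm82_4 : Fn.fixRangeK TT (wpow [13, 12] 1) 181936 25000 = true := by decide +kernel

theorem horbi2_2_0 : Fn.allRangeK (Fn.invP TT [4] 275265 306936) 275265 31671 = true := by decide +kernel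

theorem hperm3_9 : permPartG 18360536419842404880 TT 3 tN 147456 16384 = true := by decide +kernel

theorem hperm8_15 : permPartG 18360536419842404880 TT 8 tN 245760 16384 = true := by decide +kernel

end Cfsg.Agent.Lib.Helper12.TCG.Fi24x306936
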