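import Cfsg.Agent.Lib.Helper12.TCG.Fi24x306936.TabT
import Cfsg.Agent.Lib.Helper12.TCG.Fi24x306936.Tab
import Cfsg.Agent.Lib.Helper12.TC.Fn.Ranges2

/-! relator checks for Fi24x306936, part 41 (generated, helper12) -/

set_option autoImplicit false
set_option maxRecDepth 100000
set_option Elab.async false

namespace Cfsg.Agent.Lib.Helper12.TCG.Fi24x306936

open Cfsg.Agent.Lib.Helper12.TC Cfsg.Agent.Lib.Helper12.TCG

theorem hm0_5 : Fn.fixRangeK TT (wpow [0, 1] 3) 256938 8333 = true := by decide +kernel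

theorem hm2_29 : Fn.fixRangeK TT (wpow [1, 2] 3) 56946 8333 = true := by decide +kernel

theorem hm3_17 : Fn.fixRangeK TT (wpow [0, 3] 2) 81936 12500 = true := by decide +kernel

theorem hm8_17 : Fn.fixRangeK TT (wpow [2, 4] 2) 81936 12500 = true := by decide +kernel

theorem hm13_17 : Fn.fixRangeK TT (wpow [3, 5] 2) 81936 12500 = true := by decide +kernel

theorem hm14_17 : Fn.fixRangeK TT (wpow [4, 5] 3) 156942 8333 = true := by decide +kernel

theorem hm18_17 : Fn.fixRangeK TT (wpow [3, 6] 2) 81936 12500 = true := by decide +kernel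

theorem hm23_17 : Fn.fixRangeK TT (wpow [2, 7] 2) 81936 12500 = true := by decide +kernel

theorem hm28_17 : Fn.fixRangeK TT (wpow [0, 8] 2) 81936 12500 = true := by decide +kernel

theorem hm32_17 : Fn.fixRangeK TT (wpow [4, 8] 2) 81936 12500 = true := by decide +kernel

theorem hm35_5 : Fn.fixRangeK TT (wpow [7, 8] 3) 256938 8333 = true := by decide +kernel

theorem hm37_17 : Fn.fixRangeK TT (wpow [1, 9] 2) 81936 12500 = true := by decide +kernel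

theorem hm41_17 : Fn.fixRangeK TT (wpow [5, 9] 2) 81936 12500 = true := by decide +kernel

theorem hm46_17 : Fn.fixRangeK TT (wpow [1, 10] 2) 81936 12500 = true := by decide +kernel

theorem hm50_29 : Fn.fixRangeK TT (wpow [5, 10] 3) 56946 8333 = true := by decide +kernel

theorem hm51_17 : Fn.fixRangeK TT (wpow [6, 10] 2) 81936 12500 = true := by decide +kernel

theorem hm55_17 : Fn.fixRangeK TT (wpow [0, 11] 2) 81936 12500 = true := by decide +kernel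

theorem hm59_17 : Fn.fixRangeK TT (wpow [4, 11] 2) 81936 12500 = true := by decide +kernel

theorem hm63_17 : Fn.fixRangeK TT (wpow [8, 11] 2) 81936 12500 = true := by decide +kernel

theorem hm66_9 : Fn.fixRangeK TT (wpow [0, 10, 7, 6, 5, 4, 3, 2, 10, 7, 6, 5, 4, 3, 2, 10, 7, 6, 5, 4, 3, 2, 10, 7, 6, 5, 4, 3, 2, 10, 7, 6, 5, 4, 3, 2, 10, 7, 6, 5, 4, 3, 2, 10, 7, 6, 5, 4, 3, 2, 10, 7, 6, 5, 4, 3, 2, 10, 7, 6, 5, 4, 3, 2] 1) 299126 781 = true := by decide +kernel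

theorem hm66_51 : Fn.fixRangeK TT (wpow [0, 10, 7, 6, 5, 4, 3, 2, 10, 7, 6, 5, 4, 3, 2, 10, 7, 6, 5, 4, 3, 2, 10, 7, 6, 5, 4, 3, 2, 10, 7, 6, 5, 4, 3, 2, 10, 7, 6, 5, 4, 3, 2, 10, 7, 6, 5, 4, 3, 2, 10, 7, 6, 5, 4, 3, 2, 10, 7, 6, 5, 4, 3, 2] 1) 266324 781 = true := by decide +kernel

theorem hm66_147 : Fn.fixRangeK TT (wpow [0, 10, 7, 6, 5, 4, 3, 2, 10, 7, 6, 5, 4, 3, 2, 10, 7, 6, 5, 4, 3, 2, 10, 7, 6, 5, 4, 3, 2, 10, 7, 6, 5, 4, 3, 2, 10, 7, 6, 5, 4, 3, 2, 10, 7, 6, 5, 4, 3, 2, 10, 7, 6, 5, 4, 3, 2, 10, 7, 6, 5, 4, 3, 2] 1) 191348 781 = true := by decide +kernel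

theorem hm66_243 : Fn.fixRangeK TT (wpow [0, 10, 7, 6, 5, 4, 3, 2, 10, 7, 6, 5, 4, 3, 2, 10, 7, 6, 5, 4, 3, 2, 10, 7, 6, 5, 4, 3, 2, 10, 7, 6, 5, 4, 3, 2, 10, 7, 6, 5, 4, 3, 2, 10, 7, 6, 5, 4, 3, 2, 10, 7, 6, 5, 4, 3, 2, 10, 7, 6, 5, 4, 3, 2] 1) 116372 781 = true := by decide +kernel

theorem hm66_339 : Fn.fixRangeK TT (wpow [0, 10, 7, 6, 5, 4, 3, 2, 10, 7, 6, 5, 4, 3, 2, 10, 7, 6, 5, 4, 3, 2, 10, 7, 6, 5, 4, 3, 2, 10, 7, 6, 5, 4, 3, 2, 10, 7, 6, 5, 4, 3, 2, 10, 7, 6, 5, 4, 3, 2, 10, 7, 6, 5, 4, 3, 2, 10, 7, 6, 5, 4, 3, 2] 1) 41396 781 = true := by decide +kernel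

theorem hm68_72 : Fn.fixRangeK TT (wpow [12] 17) 92243 2941 = true := by decide +kernel

theorem hm74_5 : Fn.fixRangeK TT (wpow [5] 2) 156936 25000 = true := by decide +kernel

theorem hm82_5 : Fn.fixRangeK TT (wpow [13, 12] 1) 156936 25000 = true := by decide +kernel

theorem hm82_12 : Fn.fixRangeK TT (wpow [13, 12] 1) 0 6936 = true := by decide +kernel

theorem horbi2_3_0 : Fn.allRangeK (Fn.invP TT [5] 275265 306936) 275265 31671 = true := by decide +kernel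

theorem hperm3_10 : permPartG 18360536419842404880 TT 3 tN 163840 16384 = true := by decide +kernel

theorem hperm8_16 : permPartG 18360536419842404880 TT 8 tN 262144 16384 = true := by decide +kernel

end Cfsg.Agent.Lib.Helper12.TCG.Fi24x306936
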