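import Cfsg.Agent.Lib.Helper12.TCG.Fi24x306936.TabT
import Cfsg.Agent.Lib.Helper12.TCG.Fi24x306936.Tab
import Cfsg.Agent.Lib.Helper12.TC.Fn.Ranges2

/-! relator checks for Fi24x306936, part 43 (generated, helper12) -/

set_option autoImplicit false
set_option maxRecDepth 100000
set_option Elab.async false

namespace Cfsg.Agent.Lib.Helper12.TCG.Fi24x306936

open Cfsg.Agent.Lib.Helper12.TC Cfsg.Agent.Lib.Helper12.TCG

theorem hm0_7 : Fn.fixRangeK TT (wpow [0, 1] 3) 240272 8333 = true := by decide +kernel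

theorem hm2_31 : Fn.fixRangeK TT (wpow [1, 2] 3) 40280 8333 = true := by decide +kernel

theorem hm3_19 : Fn.fixRangeK TT (wpow [0, 3] 2) 56936 12500 = true := by decide +kernel

theorem hm8_19 : Fn.fixRangeK TT (wpow [2, 4] 2) 56936 12500 = true := by decide +kernel

theorem hm13_19 : Fn.fixRangeK TT (wpow [3, 5] 2) 56936 12500 = true := by decide +kernel

theorem hm14_19 : Fn.fixRangeK TT (wpow [4, 5] 3) 140276 8333 = true := by decide +kernel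

theorem hm18_19 : Fn.fixRangeK TT (wpow [3, 6] 2) 56936 12500 = true := by decide +kernel

theorem hm23_19 : Fn.fixRangeK TT (wpow [2, 7] 2) 56936 12500 = true := by decide +kernel

theorem hm28_19 : Fn.fixRangeK TT (wpow [0, 8] 2) 56936 12500 = true := by decide +kernel

theorem hm32_19 : Fn.fixRangeK TT (wpow [4, 8] 2) 56936 12500 = true := by decide +kernel

theorem hm35_7 : Fn.fixRangeK TT (wpow [7, 8] 3) 240272 8333 = true := by decide +kernel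

theorem hm37_19 : Fn.fixRangeK TT (wpow [1, 9] 2) 56936 12500 = true := by decide +kernel

theorem hm41_19 : Fn.fixRangeK TT (wpow [5, 9] 2) 56936 12500 = true := by decide +kernel

theorem hm46_19 : Fn.fixRangeK TT (wpow [1, 10] 2) 56936 12500 = true := by decide +kernel

theorem hm50_31 : Fn.fixRangeK TT (wpow [5, 10] 3) 40280 8333 = true := by decide +kernel

theorem hm51_19 : Fn.fixRangeK TT (wpow [6, 10] 2) 56936 12500 = true := by decide +kernel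

theorem hm55_19 : Fn.fixRangeK TT (wpow [0, 11] 2) 56936 12500 = true := by decide +kernel

theorem hm59_19 : Fn.fixRangeK TT (wpow [4, 11] 2) 56936 12500 = true := by decide +kernel

theorem hm63_19 : Fn.fixRangeK TT (wpow [8, 11] 2) 56936 12500 = true := by decide +kernel

theorem hm66_11 : Fn.fixRangeK TT (wpow [0, 10, 7, 6, 5, 4, 3, 2, 10, 7, 6, 5, 4, 3, 2, 10, 7, 6, 5, 4, 3, 2, 10, 7, 6, 5, 4, 3, 2, 10, 7, 6, 5, 4, 3, 2, 10, 7, 6, 5, 4, 3, 2, 10, 7, 6, 5, 4, 3, 2, 10, 7, 6, 5, 4, 3, 2, 10, 7, 6, 5, 4, 3, 2] 1) 297564 781 = true := by decide +kernel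

theorem hm66_53 : Fn.fixRangeK TT (wpow [0, 10, 7, 6, 5, 4, 3, 2, 10, 7, 6, 5, 4, 3, 2, 10, 7, 6, 5, 4, 3, 2, 10, 7, 6, 5, 4, 3, 2, 10, 7, 6, 5, 4, 3, 2, 10, 7, 6, 5, 4, 3, 2, 10, 7, 6, 5, 4, 3, 2, 10, 7, 6, 5, 4, 3, 2, 10, 7, 6, 5, 4, 3, 2] 1) 264762 781 = true := by decide +kernel

theorem hm66_149 : Fn.fixRangeK TT (wpow [0, 10, 7, 6, 5, 4, 3, 2, 10, 7, 6, 5, 4, 3, 2, 10, 7, 6, 5, 4, 3, 2, 10, 7, 6, 5, 4, 3, 2, 10, 7, 6, 5, 4, 3, 2, 10, 7, 6, 5, 4, 3, 2, 10, 7, 6, 5, 4, 3, 2, 10, 7, 6, 5, 4, 3, 2, 10, 7, 6, 5, 4, 3, 2] 1) 189786 781 = true := by decide +kernel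

theorem hm66_245 : Fn.fixRangeK TT (wpow [0, 10, 7, 6, 5, 4, 3, 2, 10, 7, 6, 5, 4, 3, 2, 10, 7, 6, 5, 4, 3, 2, 10, 7, 6, 5, 4, 3, 2, 10, 7, 6, 5, 4, 3, 2, 10, 7, 6, 5, 4, 3, 2, 10, 7, 6, 5, 4, 3, 2, 10, 7, 6, 5, 4, 3, 2, 10, 7, 6, 5, 4, 3, 2] 1) 114810 781 = true := by decide +kernel

theorem hm66_341 : Fn.fixRangeK TT (wpow [0, 10, 7, 6, 5, 4, 3, 2, 10, 7, 6, 5, 4, 3, 2, 10, 7, 6, 5, 4, 3, 2, 10, 7, 6, 5, 4, 3, 2, 10, 7, 6, 5, 4, 3, 2, 10, 7, 6, 5, 4, 3, 2, 10, 7, 6, 5, 4, 3, 2, 10, 7, 6, 5, 4, 3, 2, 10, 7, 6, 5, 4, 3, 2] 1) 39834 781 = true := by decide +kernel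

theorem hm67_92 : Fn.fixRangeK TT (wpow [13, 5, 4, 3, 2, 1, 0, 5, 6, 7, 8, 9, 5, 10, 11] 1) 0 300 = true := by decide +kernel

theorem hm68_74 : Fn.fixRangeK TT (wpow [12] 17) 86361 2941 = true := by decide +kernel

theorem hm74_7 : Fn.fixRangeK TT (wpow [5] 2) 106936 25000 = true := by decide +kernel

theorem hm82_7 : Fn.fixRangeK TT (wpow [13, 12] 1) 106936 25000 = true := by decide +kernel

theorem horbi2_5_0 : Fn.allRangeK (Fn.invP TT [7] 275265 306936) 275265 31671 = true := by decide +kernel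

theorem hperm3_12 : permPartG 18360536419842404880 TT 3 tN 196608 16384 = true := by decide +kernel

theorem hperm9_0 : permPartG 18360536419842404880 TT 9 tN 0 16384 = true := by decide +kernel

end Cfsg.Agent.Lib.Helper12.TCG.Fi24x306936
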