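import Cfsg.Agent.Lib.Helper12.TCG.Fi24x306936.TabT
import Cfsg.Agent.Lib.Helper12.TCG.Fi24x306936.Tab
import Cfsg.Agent.Lib.Helper12.TC.Fn.Ranges2

/-! relator checks for Fi24x306936, part 45 (generated, helper12) -/

set_option autoImplicit false
set_option maxRecDepth 100000
set_option Elab.async false

namespace Cfsg.Agent.Lib.Helper12.TCG.Fi24x306936

open Cfsg.Agent.Lib.Helper12.TC Cfsg.Agent.Lib.Helper12.TCG

theorem horbc1_11 : Fn.allRangeK (Fn.connP TT sw 1) 275153 112 = true := by decide +kernel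

theorem hm0_9 : Fn.fixRangeK TT (wpow [0, 1] 3) 223606 8333 = true := by decide +kernel

theorem hm2_33 : Fn.fixRangeK TT (wpow [1, 2] 3) 23614 8333 = true := by decide +kernel

theorem hm3_21 : Fn.fixRangeK TT (wpow [0, 3] 2) 31936 12500 = true := by decide +kernel

theorem hm8_21 : Fn.fixRangeK TT (wpow [2, 4] 2) 31936 12500 = true := by decide +kernel

theorem hm13_21 : Fn.fixRangeK TT (wpow [3, 5] 2) 31936 12500 = true := by decide +kernel

theorem hm14_21 : Fn.fixRangeK TT (wpow [4, 5] 3) 123610 8333 = true := by decide +kernel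

theorem hm18_21 : Fn.fixRangeK TT (wpow [3, 6] 2) 31936 12500 = true := by decide +kernel

theorem hm23_21 : Fn.fixRangeK TT (wpow [2, 7] 2) 31936 12500 = true := by decide +kernel

theorem hm28_21 : Fn.fixRangeK TT (wpow [0, 8] 2) 31936 12500 = true := by decide +kernel

theorem hm32_21 : Fn.fixRangeK TT (wpow [4, 8] 2) 31936 12500 = true := by decide +kernel

theorem hm35_9 : Fn.fixRangeK TT (wpow [7, 8] 3) 223606 8333 = true := by decide +kernel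

theorem hm37_21 : Fn.fixRangeK TT (wpow [1, 9] 2) 31936 12500 = true := by decide +kernel

theorem hm41_21 : Fn.fixRangeK TT (wpow [5, 9] 2) 31936 12500 = true := by decide +kernel

theorem hm46_21 : Fn.fixRangeK TT (wpow [1, 10] 2) 31936 12500 = true := by decide +kernel

theorem hm50_33 : Fn.fixRangeK TT (wpow [5, 10] 3) 23614 8333 = true := by decide +kernel

theorem hm51_21 : Fn.fixRangeK TT (wpow [6, 10] 2) 31936 12500 = true := by decide +kernel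

theorem hm55_21 : Fn.fixRangeK TT (wpow [0, 11] 2) 31936 12500 = true := by decide +kernel

theorem hm59_21 : Fn.fixRangeK TT (wpow [4, 11] 2) 31936 12500 = true := by decide +kernel

theorem hm63_21 : Fn.fixRangeK TT (wpow [8, 11] 2) 31936 12500 = true := by decide +kernel

theorem hm66_13 : Fn.fixRangeK TT (wpow [0, 10, 7, 6, 5, 4, 3, 2, 10, 7, 6, 5, 4, 3, 2, 10, 7, 6, 5, 4, 3, 2, 10, 7, 6, 5, 4, 3, 2, 10, 7, 6, 5, 4, 3, 2, 10, 7, 6, 5, 4, 3, 2, 10, 7, 6, 5, 4, 3, 2, 10, 7, 6, 5, 4, 3, 2, 10, 7, 6, 5, 4, 3, 2] 1) 296002 781 = true := by decide +kernel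

theorem hm66_55 : Fn.fixRangeK TT (wpow [0, 10, 7, 6, 5, 4, 3, 2, 10, 7, 6, 5, 4, 3, 2, 10, 7, 6, 5, 4, 3, 2, 10, 7, 6, 5, 4, 3, 2, 10, 7, 6, 5, 4, 3, 2, 10, 7, 6, 5, 4, 3, 2, 10, 7, 6, 5, 4, 3, 2, 10, 7, 6, 5, 4, 3, 2, 10, 7, 6, 5, 4, 3, 2] 1) 263200 781 = true := by decide +kernel

theorem hm66_151 : Fn.fixRangeK TT (wpow [0, 10, 7, 6, 5, 4, 3, 2, 10, 7, 6, 5, 4, 3, 2, 10, 7, 6, 5, 4, 3, 2, 10, 7, 6, 5, 4, 3, 2, 10, 7, 6, 5, 4, 3, 2, 10, 7, 6, 5, 4, 3, 2, 10, 7, 6, 5, 4, 3, 2, 10, 7, 6, 5, 4, 3, 2, 10, 7, 6, 5, 4, 3, 2] 1) 188224 781 = true := by decide +kernel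

theorem hm66_247 : Fn.fixRangeK TT (wpow [0, 10, 7, 6, 5, 4, 3, 2, 10, 7, 6, 5, 4, 3, 2, 10, 7, 6, 5, 4, 3, 2, 10, 7, 6, 5, 4, 3, 2, 10, 7, 6, 5, 4, 3, 2, 10, 7, 6, 5, 4, 3, 2, 10, 7, 6, 5, 4, 3, 2, 10, 7, 6, 5, 4, 3, 2, 10, 7, 6, 5, 4, 3, 2] 1) 113248 781 = true := by decide +kernel

theorem hm66_343 : Fn.fixRangeK TT (wpow [0, 10, 7, 6, 5, 4, 3, 2, 10, 7, 6, 5, 4, 3, 2, 10, 7, 6, 5, 4, 3, 2, 10, 7, 6, 5, 4, 3, 2, 10, 7, 6, 5, 4, 3, 2, 10, 7, 6, 5, 4, 3, 2, 10, 7, 6, 5, 4, 3, 2, 10, 7, 6, 5, 4, 3, 2, 10, 7, 6, 5, 4, 3, 2] 1) 38272 781 = true := by decide +kernel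

theorem hm68_76 : Fn.fixRangeK TT (wpow [12] 17) 80479 2941 = true := by decide +kernel

theorem hm74_9 : Fn.fixRangeK TT (wpow [5] 2) 56936 25000 = true := by decide +kernel

theorem hm82_9 : Fn.fixRangeK TT (wpow [13, 12] 1) 56936 25000 = true := by decide +kernel

theorem horbi2_7_0 : Fn.allRangeK (Fn.invP TT [10] 275265 306936) 275265 31671 = true := by decide +kernel

theorem hperm3_14 : permPartG 18360536419842404880 TT 3 tN 229376 16384 = true := by decide +kernel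

theorem hperm9_2 : permPartG 18360536419842404880 TT 9 tN 32768 16384 = true := by decide +kernel

end Cfsg.Agent.Lib.Helper12.TCG.Fi24x306936
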