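import Cfsg.Agent.Lib.Helper12.TCG.Fi24x306936.TabT
import Cfsg.Agent.Lib.Helper12.TCG.Fi24x306936.Tab
import Cfsg.Agent.Lib.Helper12.TC.Fn.Ranges2

/-! relator checks for Fi24x306936, part 46 (generated, helper12) -/

set_option autoImplicit false
set_option maxRecDepth 100000
set_option Elab.async false

namespace Cfsg.Agent.Lib.Helper12.TCG.Fi24x306936

open Cfsg.Agent.Lib.Helper12.TC Cfsg.Agent.Lib.Helper12.TCG

theorem hm0_10 : Fn.fixRangeK TT (wpow [0, 1] 3) 215273 8333 = true := by decide +kernel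

theorem hm2_34 : Fn.fixRangeK TT (wpow [1, 2] 3) 15281 8333 = true := by decide +kernel

theorem hm3_22 : Fn.fixRangeK TT (wpow [0, 3] 2) 19436 12500 = true := by decide +kernel

theorem hm8_22 : Fn.fixRangeK TT (wpow [2, 4] 2) 19436 12500 = true := by decide +kernel

theorem hm13_22 : Fn.fixRangeK TT (wpow [3, 5] 2) 19436 12500 = true := by decide +kernel

theorem hm14_22 : Fn.fixRangeK TT (wpow [4, 5] 3) 115277 8333 = true := by decide +kernel

theorem hm18_22 : Fn.fixRangeK TT (wpow [3, 6] 2) 19436 12500 = true := by decide +kernel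

theorem hm23_22 : Fn.fixRangeK TT (wpow [2, 7] 2) 19436 12500 = true := by decide +kernel

theorem hm28_22 : Fn.fixRangeK TT (wpow [0, 8] 2) 19436 12500 = true := by decide +kernel

theorem hm32_22 : Fn.fixRangeK TT (wpow [4, 8] 2) 19436 12500 = true := by decide +kernel

theorem hm35_10 : Fn.fixRangeK TT (wpow [7, 8] 3) 215273 8333 = true := by decide +kernel

theorem hm37_22 : Fn.fixRangeK TT (wpow [1, 9] 2) 19436 12500 = true := by decide +kernel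

theorem hm41_22 : Fn.fixRangeK TT (wpow [5, 9] 2) 19436 12500 = true := by decide +kernel

theorem hm46_22 : Fn.fixRangeK TT (wpow [1, 10] 2) 19436 12500 = true := by decide +kernel

theorem hm50_34 : Fn.fixRangeK TT (wpow [5, 10] 3) 15281 8333 = true := by decide +kernel

theorem hm51_22 : Fn.fixRangeK TT (wpow [6, 10] 2) 19436 12500 = true := by decide +kernel

theorem hm55_22 : Fn.fixRangeK TT (wpow [0, 11] 2) 19436 12500 = true := by decide +kernel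

theorem hm59_22 : Fn.fixRangeK TT (wpow [4, 11] 2) 19436 12500 = true := by decide +kernel

theorem hm63_22 : Fn.fixRangeK TT (wpow [8, 11] 2) 19436 12500 = true := by decide +kernel

theorem hm66_14 : Fn.fixRangeK TT (wpow [0, 10, 7, 6, 5, 4, 3, 2, 10, 7, 6, 5, 4, 3, 2, 10, 7, 6, 5, 4, 3, 2, 10, 7, 6, 5, 4, 3, 2, 10, 7, 6, 5, 4, 3, 2, 10, 7, 6, 5, 4, 3, 2, 10, 7, 6, 5, 4, 3, 2, 10, 7, 6, 5, 4, 3, 2, 10, 7, 6, 5, 4, 3, 2] 1) 295221 781 = true := by decide +kernel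

theorem hm66_56 : Fn.fixRangeK TT (wpow [0, 10, 7, 6, 5, 4, 3, 2, 10, 7, 6, 5, 4, 3, 2, 10, 7, 6, 5, 4, 3, 2, 10, 7, 6, 5, 4, 3, 2, 10, 7, 6, 5, 4, 3, 2, 10, 7, 6, 5, 4, 3, 2, 10, 7, 6, 5, 4, 3, 2, 10, 7, 6, 5, 4, 3, 2, 10, 7, 6, 5, 4, 3, 2] 1) 262419 781 = true := by decide +kernel

theorem hm66_152 : Fn.fixRangeK TT (wpow [0, 10, 7, 6, 5, 4, 3, 2, 10, 7, 6, 5, 4, 3, 2, 10, 7, 6, 5, 4, 3, 2, 10, 7, 6, 5, 4, 3, 2, 10, 7, 6, 5, 4, 3, 2, 10, 7, 6, 5, 4, 3, 2, 10, 7, 6, 5, 4, 3, 2, 10, 7, 6, 5, 4, 3, 2, 10, 7, 6, 5, 4, 3, 2] 1) 187443 781 = true := by decide +kernel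

theorem hm66_248 : Fn.fixRangeK TT (wpow [0, 10, 7, 6, 5, 4, 3, 2, 10, 7, 6, 5, 4, 3, 2, 10, 7, 6, 5, 4, 3, 2, 10, 7, 6, 5, 4, 3, 2, 10, 7, 6, 5, 4, 3, 2, 10, 7, 6, 5, 4, 3, 2, 10, 7, 6, 5, 4, 3, 2, 10, 7, 6, 5, 4, 3, 2, 10, 7, 6, 5, 4, 3, 2] 1) 112467 781 = true := by decide +kernel

theorem hm66_344 : Fn.fixRangeK TT (wpow [0, 10, 7, 6, 5, 4, 3, 2, 10, 7, 6, 5, 4, 3, 2, 10, 7, 6, 5, 4, 3, 2, 10, 7, 6, 5, 4, 3, 2, 10, 7, 6, 5, 4, 3, 2, 10, 7, 6, 5, 4, 3, 2, 10, 7, 6, 5, 4, 3, 2, 10, 7, 6, 5, 4, 3, 2, 10, 7, 6, 5, 4, 3, 2] 1) 37491 781 = true := by decide +kernel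

theorem hm68_77 : Fn.fixRangeK TT (wpow [12] 17) 77538 2941 = true := by decide +kernel

theorem hm74_10 : Fn.fixRangeK TT (wpow [5] 2) 31936 25000 = true := by decide +kernel

theorem hm82_10 : Fn.fixRangeK TT (wpow [13, 12] 1) 31936 25000 = true := by decide +kernel

theorem horbi0_0_0 : Fn.allRangeK (Fn.invP TT [2] 0 1) 0 1 = true := by decide +kernel

theorem horbi2_8_0 : Fn.allRangeK (Fn.invP TT [11] 275265 306936) 275265 31671 = true := by decide +kernel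

theorem hperm3_15 : permPartG 18360536419842404880 TT 3 tN 245760 16384 = true := by decide +kernel

theorem hperm9_3 : permPartG 18360536419842404880 TT 9 tN 49152 16384 = true := by decide +kernel

end Cfsg.Agent.Lib.Helper12.TCG.Fi24x306936
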