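import Cfsg.Agent.Lib.Helper12.TCG.Fi24x306936.TabT
import Cfsg.Agent.Lib.Helper12.TCG.Fi24x306936.Tab
import Cfsg.Agent.Lib.Helper12.TC.Fn.Ranges2

/-! relator checks for Fi24x306936, part 47 (generated, helper12) -/

set_option autoImplicit false
set_option maxRecDepth 100000
set_option Elab.async false

namespace Cfsg.Agent.Lib.Helper12.TCG.Fi24x306936

open Cfsg.Agent.Lib.Helper12.TC Cfsg.Agent.Lib.Helper12.TCG

theorem hm0_11 : Fn.fixRangeK TT (wpow [0, 1] 3) 206940 8333 = true := by decide +kernel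

theorem hm2_35 : Fn.fixRangeK TT (wpow [1, 2] 3) 6948 8333 = true := by decide +kernel

theorem hm3_23 : Fn.fixRangeK TT (wpow [0, 3] 2) 6936 12500 = true := by decide +kernel

theorem hm8_23 : Fn.fixRangeK TT (wpow [2, 4] 2) 6936 12500 = true := by decide +kernel

theorem hm13_23 : Fn.fixRangeK TT (wpow [3, 5] 2) 6936 12500 = true := by decide +kernel

theorem hm14_23 : Fn.fixRangeK TT (wpow [4, 5] 3) 106944 8333 = true := by decide +kernel

theorem hm18_23 : Fn.fixRangeK TT (wpow [3, 6] 2) 6936 12500 = true := by decide +kernel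

theorem hm23_23 : Fn.fixRangeK TT (wpow [2, 7] 2) 6936 12500 = true := by decide +kernel

theorem hm28_23 : Fn.fixRangeK TT (wpow [0, 8] 2) 6936 12500 = true := by decide +kernel

theorem hm32_23 : Fn.fixRangeK TT (wpow [4, 8] 2) 6936 12500 = true := by decide +kernel

theorem hm35_11 : Fn.fixRangeK TT (wpow [7, 8] 3) 206940 8333 = true := by decide +kernel

theorem hm37_23 : Fn.fixRangeK TT (wpow [1, 9] 2) 6936 12500 = true := by decide +kernel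

theorem hm41_23 : Fn.fixRangeK TT (wpow [5, 9] 2) 6936 12500 = true := by decide +kernel

theorem hm46_23 : Fn.fixRangeK TT (wpow [1, 10] 2) 6936 12500 = true := by decide +kernel

theorem hm50_35 : Fn.fixRangeK TT (wpow [5, 10] 3) 6948 8333 = true := by decide +kernel

theorem hm51_23 : Fn.fixRangeK TT (wpow [6, 10] 2) 6936 12500 = true := by decide +kernel

theorem hm55_23 : Fn.fixRangeK TT (wpow [0, 11] 2) 6936 12500 = true := by decide +kernel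

theorem hm59_23 : Fn.fixRangeK TT (wpow [4, 11] 2) 6936 12500 = true := by decide +kernel

theorem hm63_23 : Fn.fixRangeK TT (wpow [8, 11] 2) 6936 12500 = true := by decide +kernel

theorem hm66_15 : Fn.fixRangeK TT (wpow [0, 10, 7, 6, 5, 4, 3, 2, 10, 7, 6, 5, 4, 3, 2, 10, 7, 6, 5, 4, 3, 2, 10, 7, 6, 5, 4, 3, 2, 10, 7, 6, 5, 4, 3, 2, 10, 7, 6, 5, 4, 3, 2, 10, 7, 6, 5, 4, 3, 2, 10, 7, 6, 5, 4, 3, 2, 10, 7, 6, 5, 4, 3, 2] 1) 294440 781 = true := by decide +kernel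

theorem hm66_57 : Fn.fixRangeK TT (wpow [0, 10, 7, 6, 5, 4, 3, 2, 10, 7, 6, 5, 4, 3, 2, 10, 7, 6, 5, 4, 3, 2, 10, 7, 6, 5, 4, 3, 2, 10, 7, 6, 5, 4, 3, 2, 10, 7, 6, 5, 4, 3, 2, 10, 7, 6, 5, 4, 3, 2, 10, 7, 6, 5, 4, 3, 2, 10, 7, 6, 5, 4, 3, 2] 1) 261638 781 = true := by decide +kernel

theorem hm66_153 : Fn.fixRangeK TT (wpow [0, 10, 7, 6, 5, 4, 3, 2, 10, 7, 6, 5, 4, 3, 2, 10, 7, 6, 5, 4, 3, 2, 10, 7, 6, 5, 4, 3, 2, 10, 7, 6, 5, 4, 3, 2, 10, 7, 6, 5, 4, 3, 2, 10, 7, 6, 5, 4, 3, 2, 10, 7, 6, 5, 4, 3, 2, 10, 7, 6, 5, 4, 3, 2] 1) 186662 781 = true := by decide +kernel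

theorem hm66_249 : Fn.fixRangeK TT (wpow [0, 10, 7, 6, 5, 4, 3, 2, 10, 7, 6, 5, 4, 3, 2, 10, 7, 6, 5, 4, 3, 2, 10, 7, 6, 5, 4, 3, 2, 10, 7, 6, 5, 4, 3, 2, 10, 7, 6, 5, 4, 3, 2, 10, 7, 6, 5, 4, 3, 2, 10, 7, 6, 5, 4, 3, 2, 10, 7, 6, 5, 4, 3, 2] 1) 111686 781 = true := by decide +kernel

theorem hm66_345 : Fn.fixRangeK TT (wpow [0, 10, 7, 6, 5, 4, 3, 2, 10, 7, 6, 5, 4, 3, 2, 10, 7, 6, 5, 4, 3, 2, 10, 7, 6, 5, 4, 3, 2, 10, 7, 6, 5, 4, 3, 2, 10, 7, 6, 5, 4, 3, 2, 10, 7, 6, 5, 4, 3, 2, 10, 7, 6, 5, 4, 3, 2, 10, 7, 6, 5, 4, 3, 2] 1) 36710 781 = true := by decide +kernel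

theorem hm68_78 : Fn.fixRangeK TT (wpow [12] 17) 74597 2941 = true := by decide +kernel

theorem hm74_11 : Fn.fixRangeK TT (wpow [5] 2) 6936 25000 = true := by decide +kernel

theorem hm82_11 : Fn.fixRangeK TT (wpow [13, 12] 1) 6936 25000 = true := by decide +kernel

theorem horbi0_1_0 : Fn.allRangeK (Fn.invP TT [3] 0 1) 0 1 = true := by decide +kernel

theorem horbi2_9_0 : Fn.allRangeK (Fn.invP TT [9] 275265 306936) 275265 31671 = true := by decide +kernel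

theorem hperm3_16 : permPartG 18360536419842404880 TT 3 tN 262144 16384 = true := by decide +kernel

theorem hperm9_4 : permPartG 18360536419842404880 TT 9 tN 65536 16384 = true := by decide +kernel

end Cfsg.Agent.Lib.Helper12.TCG.Fi24x306936
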