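import Cfsg.Agent.Lib.Helper12.TCG.Fi24x306936.TabT
import Cfsg.Agent.Lib.Helper12.TCG.Fi24x306936.Tab
import Cfsg.Agent.Lib.Helper12.TC.Fn.Ranges2

/-! relator checks for Fi24x306936, part 48 (generated, helper12) -/

set_option autoImplicit false
set_option maxRecDepth 100000
set_option Elab.async false

namespace Cfsg.Agent.Lib.Helper12.TCG.Fi24x306936

open Cfsg.Agent.Lib.Helper12.TC Cfsg.Agent.Lib.Helper12.TCG

theorem hm0_12 : Fn.fixRangeK TT (wpow [0, 1] 3) 198607 8333 = true := by decide +kernel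

theorem hm4_0 : Fn.fixRangeK TT (wpow [1, 3] 2) 294436 12500 = true := by decide +kernel

theorem hm5_0 : Fn.fixRangeK TT (wpow [2, 3] 3) 298603 8333 = true := by decide +kernel

theorem hm10_0 : Fn.fixRangeK TT (wpow [0, 5] 2) 294436 12500 = true := by decide +kernel

theorem hm14_24 : Fn.fixRangeK TT (wpow [4, 5] 3) 98611 8333 = true := by decide +kernel

theorem hm15_0 : Fn.fixRangeK TT (wpow [0, 6] 2) 294436 12500 = true := by decide +kernel

theorem hm19_0 : Fn.fixRangeK TT (wpow [4, 6] 2) 294436 12500 = true := by decide +kernel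

theorem hm24_0 : Fn.fixRangeK TT (wpow [3, 7] 2) 294436 12500 = true := by decide +kernel

theorem hm29_0 : Fn.fixRangeK TT (wpow [1, 8] 2) 294436 12500 = true := by decide +kernel

theorem hm33_0 : Fn.fixRangeK TT (wpow [5, 8] 2) 294436 12500 = true := by decide +kernel

theorem hm35_12 : Fn.fixRangeK TT (wpow [7, 8] 3) 198607 8333 = true := by decide +kernel

theorem hm38_0 : Fn.fixRangeK TT (wpow [2, 9] 2) 294436 12500 = true := by decide +kernel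

theorem hm42_0 : Fn.fixRangeK TT (wpow [6, 9] 2) 294436 12500 = true := by decide +kernel

theorem hm47_0 : Fn.fixRangeK TT (wpow [2, 10] 2) 294436 12500 = true := by decide +kernel

theorem hm52_0 : Fn.fixRangeK TT (wpow [7, 10] 2) 294436 12500 = true := by decide +kernel

theorem hm56_0 : Fn.fixRangeK TT (wpow [1, 11] 2) 294436 12500 = true := by decide +kernel

theorem hm60_0 : Fn.fixRangeK TT (wpow [5, 11] 2) 294436 12500 = true := by decide +kernel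

theorem hm64_0 : Fn.fixRangeK TT (wpow [9, 11] 2) 294436 12500 = true := by decide +kernel

theorem hm65_0 : Fn.fixRangeK TT (wpow [10, 11] 3) 298603 8333 = true := by decide +kernel

theorem hm66_16 : Fn.fixRangeK TT (wpow [0, 10, 7, 6, 5, 4, 3, 2, 10, 7, 6, 5, 4, 3, 2, 10, 7, 6, 5, 4, 3, 2, 10, 7, 6, 5, 4, 3, 2, 10, 7, 6, 5, 4, 3, 2, 10, 7, 6, 5, 4, 3, 2, 10, 7, 6, 5, 4, 3, 2, 10, 7, 6, 5, 4, 3, 2, 10, 7, 6, 5, 4, 3, 2] 1) 293659 781 = true := by decide +kernel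

theorem hm66_58 : Fn.fixRangeK TT (wpow [0, 10, 7, 6, 5, 4, 3, 2, 10, 7, 6, 5, 4, 3, 2, 10, 7, 6, 5, 4, 3, 2, 10, 7, 6, 5, 4, 3, 2, 10, 7, 6, 5, 4, 3, 2, 10, 7, 6, 5, 4, 3, 2, 10, 7, 6, 5, 4, 3, 2, 10, 7, 6, 5, 4, 3, 2, 10, 7, 6, 5, 4, 3, 2] 1) 260857 781 = true := by decide +kernel

theorem hm66_154 : Fn.fixRangeK TT (wpow [0, 10, 7, 6, 5, 4, 3, 2, 10, 7, 6, 5, 4, 3, 2, 10, 7, 6, 5, 4, 3, 2, 10, 7, 6, 5, 4, 3, 2, 10, 7, 6, 5, 4, 3, 2, 10, 7, 6, 5, 4, 3, 2, 10, 7, 6, 5, 4, 3, 2, 10, 7, 6, 5, 4, 3, 2, 10, 7, 6, 5, 4, 3, 2] 1) 185881 781 = true := by decide +kernel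

theorem hm66_250 : Fn.fixRangeK TT (wpow [0, 10, 7, 6, 5, 4, 3, 2, 10, 7, 6, 5, 4, 3, 2, 10, 7, 6, 5, 4, 3, 2, 10, 7, 6, 5, 4, 3, 2, 10, 7, 6, 5, 4, 3, 2, 10, 7, 6, 5, 4, 3, 2, 10, 7, 6, 5, 4, 3, 2, 10, 7, 6, 5, 4, 3, 2, 10, 7, 6, 5, 4, 3, 2] 1) 110905 781 = true := by decide +kernel

theorem hm66_346 : Fn.fixRangeK TT (wpow [0, 10, 7, 6, 5, 4, 3, 2, 10, 7, 6, 5, 4, 3, 2, 10, 7, 6, 5, 4, 3, 2, 10, 7, 6, 5, 4, 3, 2, 10, 7, 6, 5, 4, 3, 2, 10, 7, 6, 5, 4, 3, 2, 10, 7, 6, 5, 4, 3, 2, 10, 7, 6, 5, 4, 3, 2, 10, 7, 6, 5, 4, 3, 2] 1) 35929 781 = true := by decide +kernel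

theorem hm68_79 : Fn.fixRangeK TT (wpow [12] 17) 71656 2941 = true := by decide +kernel

theorem hm75_0 : Fn.fixRangeK TT (wpow [6] 2) 281936 25000 = true := by decide +kernel

theorem hm83_0 : Fn.fixRangeK TT (wpow [] 1) 256936 50000 = true := by decide +kernel

theorem horbi0_2_0 : Fn.allRangeK (Fn.invP TT [4] 0 1) 0 1 = true := by decide +kernel

theorem horbi2_10_0 : Fn.allRangeK (Fn.invP TT [0] 275265 306936) 275265 31671 = true := by decide +kernel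

theorem hperm3_17 : permPartG 18360536419842404880 TT 3 tN 278528 16384 = true := by decide +kernel

theorem hperm9_5 : permPartG 18360536419842404880 TT 9 tN 81920 16384 = true := by decide +kernel

end Cfsg.Agent.Lib.Helper12.TCG.Fi24x306936
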