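import Cfsg.Agent.Lib.Helper12.TCG.Fi24x306936.TabT
import Cfsg.Agent.Lib.Helper12.TCG.Fi24x306936.Tab
import Cfsg.Agent.Lib.Helper12.TC.Fn.Ranges2

/-! relator checks for Fi24x306936, part 49 (generated, helper12) -/

set_option autoImplicit false
set_option maxRecDepth 100000
set_option Elab.async false

namespace Cfsg.Agent.Lib.Helper12.TCG.Fi24x306936

open Cfsg.Agent.Lib.Helper12.TC Cfsg.Agent.Lib.Helper12.TCG

theorem hm0_13 : Fn.fixRangeK TT (wpow [0, 1] 3) 190274 8333 = true := by decide +kernel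

theorem hm4_1 : Fn.fixRangeK TT (wpow [1, 3] 2) 281936 12500 = true := by decide +kernel

theorem hm5_1 : Fn.fixRangeK TT (wpow [2, 3] 3) 290270 8333 = true := by decide +kernel

theorem hm10_1 : Fn.fixRangeK TT (wpow [0, 5] 2) 281936 12500 = true := by decide +kernel

theorem hm14_25 : Fn.fixRangeK TT (wpow [4, 5] 3) 90278 8333 = true := by decide +kernel

theorem hm15_1 : Fn.fixRangeK TT (wpow [0, 6] 2) 281936 12500 = true := by decide +kernel

theorem hm19_1 : Fn.fixRangeK TT (wpow [4, 6] 2) 281936 12500 = true := by decide +kernel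

theorem hm24_1 : Fn.fixRangeK TT (wpow [3, 7] 2) 281936 12500 = true := by decide +kernel

theorem hm29_1 : Fn.fixRangeK TT (wpow [1, 8] 2) 281936 12500 = true := by decide +kernel

theorem hm33_1 : Fn.fixRangeK TT (wpow [5, 8] 2) 281936 12500 = true := by decide +kernel

theorem hm35_13 : Fn.fixRangeK TT (wpow [7, 8] 3) 190274 8333 = true := by decide +kernel

theorem hm38_1 : Fn.fixRangeK TT (wpow [2, 9] 2) 281936 12500 = true := by decide +kernel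

theorem hm42_1 : Fn.fixRangeK TT (wpow [6, 9] 2) 281936 12500 = true := by decide +kernel

theorem hm47_1 : Fn.fixRangeK TT (wpow [2, 10] 2) 281936 12500 = true := by decide +kernel

theorem hm52_1 : Fn.fixRangeK TT (wpow [7, 10] 2) 281936 12500 = true := by decide +kernel

theorem hm56_1 : Fn.fixRangeK TT (wpow [1, 11] 2) 281936 12500 = true := by decide +kernel

theorem hm60_1 : Fn.fixRangeK TT (wpow [5, 11] 2) 281936 12500 = true := by decide +kernel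

theorem hm64_1 : Fn.fixRangeK TT (wpow [9, 11] 2) 281936 12500 = true := by decide +kernel

theorem hm65_1 : Fn.fixRangeK TT (wpow [10, 11] 3) 290270 8333 = true := by decide +kernel

theorem hm66_17 : Fn.fixRangeK TT (wpow [0, 10, 7, 6, 5, 4, 3, 2, 10, 7, 6, 5, 4, 3, 2, 10, 7, 6, 5, 4, 3, 2, 10, 7, 6, 5, 4, 3, 2, 10, 7, 6, 5, 4, 3, 2, 10, 7, 6, 5, 4, 3, 2, 10, 7, 6, 5, 4, 3, 2, 10, 7, 6, 5, 4, 3, 2, 10, 7, 6, 5, 4, 3, 2] 1) 292878 781 = true := by decide +kernel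

theorem hm66_59 : Fn.fixRangeK TT (wpow [0, 10, 7, 6, 5, 4, 3, 2, 10, 7, 6, 5, 4, 3, 2, 10, 7, 6, 5, 4, 3, 2, 10, 7, 6, 5, 4, 3, 2, 10, 7, 6, 5, 4, 3, 2, 10, 7, 6, 5, 4, 3, 2, 10, 7, 6, 5, 4, 3, 2, 10, 7, 6, 5, 4, 3, 2, 10, 7, 6, 5, 4, 3, 2] 1) 260076 781 = true := by decide +kernel

theorem hm66_155 : Fn.fixRangeK TT (wpow [0, 10, 7, 6, 5, 4, 3, 2, 10, 7, 6, 5, 4, 3, 2, 10, 7, 6, 5, 4, 3, 2, 10, 7, 6, 5, 4, 3, 2, 10, 7, 6, 5, 4, 3, 2, 10, 7, 6, 5, 4, 3, 2, 10, 7, 6, 5, 4, 3, 2, 10, 7, 6, 5, 4, 3, 2, 10, 7, 6, 5, 4, 3, 2] 1) 185100 781 = true := by decide +kernel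

theorem hm66_251 : Fn.fixRangeK TT (wpow [0, 10, 7, 6, 5, 4, 3, 2, 10, 7, 6, 5, 4, 3, 2, 10, 7, 6, 5, 4, 3, 2, 10, 7, 6, 5, 4, 3, 2, 10, 7, 6, 5, 4, 3, 2, 10, 7, 6, 5, 4, 3, 2, 10, 7, 6, 5, 4, 3, 2, 10, 7, 6, 5, 4, 3, 2, 10, 7, 6, 5, 4, 3, 2] 1) 110124 781 = true := by decide +kernel

theorem hm66_347 : Fn.fixRangeK TT (wpow [0, 10, 7, 6, 5, 4, 3, 2, 10, 7, 6, 5, 4, 3, 2, 10, 7, 6, 5, 4, 3, 2, 10, 7, 6, 5, 4, 3, 2, 10, 7, 6, 5, 4, 3, 2, 10, 7, 6, 5, 4, 3, 2, 10, 7, 6, 5, 4, 3, 2, 10, 7, 6, 5, 4, 3, 2, 10, 7, 6, 5, 4, 3, 2] 1) 35148 781 = true := by decide +kernel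

theorem hm68_80 : Fn.fixRangeK TT (wpow [12] 17) 68715 2941 = true := by decide +kernel

theorem hm75_1 : Fn.fixRangeK TT (wpow [6] 2) 256936 25000 = true := by decide +kernel

theorem hm83_1 : Fn.fixRangeK TT (wpow [] 1) 206936 50000 = true := by decide +kernel

theorem horbi1_9_5 : Fn.allRangeK (Fn.invP TT [9] 1 275265) 250001 25264 = true := by decide +kernel

theorem hperm0_18 : permPartG 18360536419842404880 TT 0 tN 294912 12024 = true := by decide +kernel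

theorem hperm4_0 : permPartG 18360536419842404880 TT 4 tN 0 16384 = true := by decide +kernel

theorem hperm9_6 : permPartG 18360536419842404880 TT 9 tN 98304 16384 = true := by decide +kernel

end Cfsg.Agent.Lib.Helper12.TCG.Fi24x306936
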