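import Cfsg.Agent.Lib.Helper12.TCG.Fi24x306936.TabT
import Cfsg.Agent.Lib.Helper12.TCG.Fi24x306936.Tab
import Cfsg.Agent.Lib.Helper12.TC.Fn.Ranges2

/-! relator checks for Fi24x306936, part 5 (generated, helper12) -/

set_option autoImplicit false
set_option maxRecDepth 100000
set_option Elab.async false

namespace Cfsg.Agent.Lib.Helper12.TCG.Fi24x306936

open Cfsg.Agent.Lib.Helper12.TC Cfsg.Agent.Lib.Helper12.TCG

theorem hm1_5 : Fn.fixRangeK TT (wpow [0, 2] 2) 231936 12500 = true := by decide +kernel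

theorem hm7_5 : Fn.fixRangeK TT (wpow [1, 4] 2) 231936 12500 = true := by decide +kernel

theorem hm9_24 : Fn.fixRangeK TT (wpow [3, 4] 3) 98611 8333 = true := by decide +kernel

theorem hm12_5 : Fn.fixRangeK TT (wpow [2, 5] 2) 231936 12500 = true := by decide +kernel

theorem hm17_5 : Fn.fixRangeK TT (wpow [2, 6] 2) 231936 12500 = true := by decide +kernel

theorem hm22_5 : Fn.fixRangeK TT (wpow [1, 7] 2) 231936 12500 = true := by decide +kernel

theorem hm26_5 : Fn.fixRangeK TT (wpow [5, 7] 2) 231936 12500 = true := by decide +kernel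

theorem hm27_12 : Fn.fixRangeK TT (wpow [6, 7] 3) 198607 8333 = true := by decide +kernel

theorem hm31_5 : Fn.fixRangeK TT (wpow [3, 8] 2) 231936 12500 = true := by decide +kernel

theorem hm33_24 : Fn.fixRangeK TT (wpow [5, 8] 2) 0 6936 = true := by decide +kernel

theorem hm36_5 : Fn.fixRangeK TT (wpow [0, 9] 2) 231936 12500 = true := by decide +kernel

theorem hm40_5 : Fn.fixRangeK TT (wpow [4, 9] 2) 231936 12500 = true := by decide +kernel

theorem hm45_5 : Fn.fixRangeK TT (wpow [0, 10] 2) 231936 12500 = true := by decide +kernel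

theorem hm49_5 : Fn.fixRangeK TT (wpow [4, 10] 2) 231936 12500 = true := by decide +kernel

theorem hm50_0 : Fn.fixRangeK TT (wpow [5, 10] 3) 298603 8333 = true := by decide +kernel

theorem hm54_5 : Fn.fixRangeK TT (wpow [9, 10] 2) 231936 12500 = true := by decide +kernel

theorem hm58_5 : Fn.fixRangeK TT (wpow [3, 11] 2) 231936 12500 = true := by decide +kernel

theorem hm62_5 : Fn.fixRangeK TT (wpow [7, 11] 2) 231936 12500 = true := by decide +kernel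

theorem hm66_99 : Fn.fixRangeK TT (wpow [0, 10, 7, 6, 5, 4, 3, 2, 10, 7, 6, 5, 4, 3, 2, 10, 7, 6, 5, 4, 3, 2, 10, 7, 6, 5, 4, 3, 2, 10, 7, 6, 5, 4, 3, 2, 10, 7, 6, 5, 4, 3, 2, 10, 7, 6, 5, 4, 3, 2, 10, 7, 6, 5, 4, 3, 2, 10, 7, 6, 5, 4, 3, 2] 1) 228836 781 = true := by decide +kernel

theorem hm66_195 : Fn.fixRangeK TT (wpow [0, 10, 7, 6, 5, 4, 3, 2, 10, 7, 6, 5, 4, 3, 2, 10, 7, 6, 5, 4, 3, 2, 10, 7, 6, 5, 4, 3, 2, 10, 7, 6, 5, 4, 3, 2, 10, 7, 6, 5, 4, 3, 2, 10, 7, 6, 5, 4, 3, 2, 10, 7, 6, 5, 4, 3, 2, 10, 7, 6, 5, 4, 3, 2] 1) 153860 781 = true := by decide +kernel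

theorem hm66_291 : Fn.fixRangeK TT (wpow [0, 10, 7, 6, 5, 4, 3, 2, 10, 7, 6, 5, 4, 3, 2, 10, 7, 6, 5, 4, 3, 2, 10, 7, 6, 5, 4, 3, 2, 10, 7, 6, 5, 4, 3, 2, 10, 7, 6, 5, 4, 3, 2, 10, 7, 6, 5, 4, 3, 2, 10, 7, 6, 5, 4, 3, 2, 10, 7, 6, 5, 4, 3, 2] 1) 78884 781 = true := by decide +kernel

theorem hm66_387 : Fn.fixRangeK TT (wpow [0, 10, 7, 6, 5, 4, 3, 2, 10, 7, 6, 5, 4, 3, 2, 10, 7, 6, 5, 4, 3, 2, 10, 7, 6, 5, 4, 3, 2, 10, 7, 6, 5, 4, 3, 2, 10, 7, 6, 5, 4, 3, 2, 10, 7, 6, 5, 4, 3, 2, 10, 7, 6, 5, 4, 3, 2, 10, 7, 6, 5, 4, 3, 2] 1) 3908 781 = true := by decide +kernel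

theorem hm67_15 : Fn.fixRangeK TT (wpow [13, 5, 4, 3, 2, 1, 0, 5, 6, 7, 8, 9, 5, 10, 11] 1) 253608 3333 = true := by decide +kernel

theorem hm67_54 : Fn.fixRangeK TT (wpow [13, 5, 4, 3, 2, 1, 0, 5, 6, 7, 8, 9, 5, 10, 11] 1) 123621 3333 = true := by decide +kernel

theorem hm68_24 : Fn.fixRangeK TT (wpow [12] 17) 233411 2941 = true := by decide +kernel

theorem hm71_5 : Fn.fixRangeK TT (wpow [2] 2) 156936 25000 = true := by decide +kernel

theorem hm79_5 : Fn.fixRangeK TT (wpow [10] 2) 156936 25000 = true := by decide +kernel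

theorem horbi1_3_5 : Fn.allRangeK (Fn.invP TT [5] 1 275265) 250001 25264 = true := by decide +kernel

theorem horbi1_9_2 : Fn.allRangeK (Fn.invP TT [9] 1 275265) 100001 50000 = true := by decide +kernel

theorem hperm6_4 : permPartG 18360536419842404880 TT 6 tN 65536 16384 = true := by decide +kernel

theorem hperm11_10 : permPartG 18360536419842404880 TT 11 tN 163840 16384 = true := by decide +kernel

end Cfsg.Agent.Lib.Helper12.TCG.Fi24x306936
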