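import Cfsg.Agent.Lib.Helper12.TCG.Fi24x306936.TabT
import Cfsg.Agent.Lib.Helper12.TCG.Fi24x306936.Tab
import Cfsg.Agent.Lib.Helper12.TC.Fn.Ranges2

/-! relator checks for Fi24x306936, part 50 (generated, helper12) -/

set_option autoImplicit false
set_option maxRecDepth 100000
set_option Elab.async false

namespace Cfsg.Agent.Lib.Helper12.TCG.Fi24x306936

open Cfsg.Agent.Lib.Helper12.TC Cfsg.Agent.Lib.Helper12.TCG

theorem hm0_14 : Fn.fixRangeK TT (wpow [0, 1] 3) 181941 8333 = true := by decide +kernel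

theorem hm4_2 : Fn.fixRangeK TT (wpow [1, 3] 2) 269436 12500 = true := by decide +kernel

theorem hm5_2 : Fn.fixRangeK TT (wpow [2, 3] 3) 281937 8333 = true := by decide +kernel

theorem hm10_2 : Fn.fixRangeK TT (wpow [0, 5] 2) 269436 12500 = true := by decide +kernel

theorem hm14_26 : Fn.fixRangeK TT (wpow [4, 5] 3) 81945 8333 = true := by decide +kernel

theorem hm15_2 : Fn.fixRangeK TT (wpow [0, 6] 2) 269436 12500 = true := by decide +kernel

theorem hm19_2 : Fn.fixRangeK TT (wpow [4, 6] 2) 269436 12500 = true := by decide +kernel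

theorem hm24_2 : Fn.fixRangeK TT (wpow [3, 7] 2) 269436 12500 = true := by decide +kernel

theorem hm29_2 : Fn.fixRangeK TT (wpow [1, 8] 2) 269436 12500 = true := by decide +kernel

theorem hm33_2 : Fn.fixRangeK TT (wpow [5, 8] 2) 269436 12500 = true := by decide +kernel

theorem hm35_14 : Fn.fixRangeK TT (wpow [7, 8] 3) 181941 8333 = true := by decide +kernel

theorem hm38_2 : Fn.fixRangeK TT (wpow [2, 9] 2) 269436 12500 = true := by decide +kernel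

theorem hm42_2 : Fn.fixRangeK TT (wpow [6, 9] 2) 269436 12500 = true := by decide +kernel

theorem hm47_2 : Fn.fixRangeK TT (wpow [2, 10] 2) 269436 12500 = true := by decide +kernel

theorem hm52_2 : Fn.fixRangeK TT (wpow [7, 10] 2) 269436 12500 = true := by decide +kernel

theorem hm56_2 : Fn.fixRangeK TT (wpow [1, 11] 2) 269436 12500 = true := by decide +kernel

theorem hm60_2 : Fn.fixRangeK TT (wpow [5, 11] 2) 269436 12500 = true := by decide +kernel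

theorem hm64_2 : Fn.fixRangeK TT (wpow [9, 11] 2) 269436 12500 = true := by decide +kernel

theorem hm65_2 : Fn.fixRangeK TT (wpow [10, 11] 3) 281937 8333 = true := by decide +kernel

theorem hm66_18 : Fn.fixRangeK TT (wpow [0, 10, 7, 6, 5, 4, 3, 2, 10, 7, 6, 5, 4, 3, 2, 10, 7, 6, 5, 4, 3, 2, 10, 7, 6, 5, 4, 3, 2, 10, 7, 6, 5, 4, 3, 2, 10, 7, 6, 5, 4, 3, 2, 10, 7, 6, 5, 4, 3, 2, 10, 7, 6, 5, 4, 3, 2, 10, 7, 6, 5, 4, 3, 2] 1) 292097 781 = true := by decide +kernel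

theorem hm66_60 : Fn.fixRangeK TT (wpow [0, 10, 7, 6, 5, 4, 3, 2, 10, 7, 6, 5, 4, 3, 2, 10, 7, 6, 5, 4, 3, 2, 10, 7, 6, 5, 4, 3, 2, 10, 7, 6, 5, 4, 3, 2, 10, 7, 6, 5, 4, 3, 2, 10, 7, 6, 5, 4, 3, 2, 10, 7, 6, 5, 4, 3, 2, 10, 7, 6, 5, 4, 3, 2] 1) 259295 781 = true := by decide +kernel

theorem hm66_156 : Fn.fixRangeK TT (wpow [0, 10, 7, 6, 5, 4, 3, 2, 10, 7, 6, 5, 4, 3, 2, 10, 7, 6, 5, 4, 3, 2, 10, 7, 6, 5, 4, 3, 2, 10, 7, 6, 5, 4, 3, 2, 10, 7, 6, 5, 4, 3, 2, 10, 7, 6, 5, 4, 3, 2, 10, 7, 6, 5, 4, 3, 2, 10, 7, 6, 5, 4, 3, 2] 1) 184319 781 = true := by decide +kernel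

theorem hm66_252 : Fn.fixRangeK TT (wpow [0, 10, 7, 6, 5, 4, 3, 2, 10, 7, 6, 5, 4, 3, 2, 10, 7, 6, 5, 4, 3, 2, 10, 7, 6, 5, 4, 3, 2, 10, 7, 6, 5, 4, 3, 2, 10, 7, 6, 5, 4, 3, 2, 10, 7, 6, 5, 4, 3, 2, 10, 7, 6, 5, 4, 3, 2, 10, 7, 6, 5, 4, 3, 2] 1) 109343 781 = true := by decide +kernel

theorem hm66_348 : Fn.fixRangeK TT (wpow [0, 10, 7, 6, 5, 4, 3, 2, 10, 7, 6, 5, 4, 3, 2, 10, 7, 6, 5, 4, 3, 2, 10, 7, 6, 5, 4, 3, 2, 10, 7, 6, 5, 4, 3, 2, 10, 7, 6, 5, 4, 3, 2, 10, 7, 6, 5, 4, 3, 2, 10, 7, 6, 5, 4, 3, 2, 10, 7, 6, 5, 4, 3, 2] 1) 34367 781 = true := by decide +kernel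

theorem hm68_81 : Fn.fixRangeK TT (wpow [12] 17) 65774 2941 = true := by decide +kernel

theorem hm75_2 : Fn.fixRangeK TT (wpow [6] 2) 231936 25000 = true := by decide +kernel

theorem hm83_2 : Fn.fixRangeK TT (wpow [] 1) 156936 50000 = true := by decide +kernel

theorem horbi1_10_5 : Fn.allRangeK (Fn.invP TT [0] 1 275265) 250001 25264 = true := by decide +kernel

theorem hperm1_18 : permPartG 18360536419842404880 TT 1 tN 294912 12024 = true := by decide +kernel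

theorem hperm4_1 : permPartG 18360536419842404880 TT 4 tN 16384 16384 = true := by decide +kernel

theorem hperm9_7 : permPartG 18360536419842404880 TT 9 tN 114688 16384 = true := by decide +kernel

end Cfsg.Agent.Lib.Helper12.TCG.Fi24x306936
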