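import Cfsg.Agent.Lib.Helper12.TCG.Fi24x306936.TabT
import Cfsg.Agent.Lib.Helper12.TCG.Fi24x306936.Tab
import Cfsg.Agent.Lib.Helper12.TC.Fn.Ranges2

/-! relator checks for Fi24x306936, part 51 (generated, helper12) -/

set_option autoImplicit false
set_option maxRecDepth 100000
set_option Elab.async false

namespace Cfsg.Agent.Lib.Helper12.TCG.Fi24x306936

open Cfsg.Agent.Lib.Helper12.TC Cfsg.Agent.Lib.Helper12.TCG

theorem hm0_15 : Fn.fixRangeK TT (wpow [0, 1] 3) 173608 8333 = true := by decide +kernel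

theorem hm4_3 : Fn.fixRangeK TT (wpow [1, 3] 2) 256936 12500 = true := by decide +kernel

theorem hm5_3 : Fn.fixRangeK TT (wpow [2, 3] 3) 273604 8333 = true := by decide +kernel

theorem hm10_3 : Fn.fixRangeK TT (wpow [0, 5] 2) 256936 12500 = true := by decide +kernel

theorem hm14_27 : Fn.fixRangeK TT (wpow [4, 5] 3) 73612 8333 = true := by decide +kernel

theorem hm15_3 : Fn.fixRangeK TT (wpow [0, 6] 2) 256936 12500 = true := by decide +kernel

theorem hm19_3 : Fn.fixRangeK TT (wpow [4, 6] 2) 256936 12500 = true := by decide +kernel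

theorem hm24_3 : Fn.fixRangeK TT (wpow [3, 7] 2) 256936 12500 = true := by decide +kernel

theorem hm29_3 : Fn.fixRangeK TT (wpow [1, 8] 2) 256936 12500 = true := by decide +kernel

theorem hm33_3 : Fn.fixRangeK TT (wpow [5, 8] 2) 256936 12500 = true := by decide +kernel

theorem hm35_15 : Fn.fixRangeK TT (wpow [7, 8] 3) 173608 8333 = true := by decide +kernel

theorem hm38_3 : Fn.fixRangeK TT (wpow [2, 9] 2) 256936 12500 = true := by decide +kernel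

theorem hm42_3 : Fn.fixRangeK TT (wpow [6, 9] 2) 256936 12500 = true := by decide +kernel

theorem hm47_3 : Fn.fixRangeK TT (wpow [2, 10] 2) 256936 12500 = true := by decide +kernel

theorem hm52_3 : Fn.fixRangeK TT (wpow [7, 10] 2) 256936 12500 = true := by decide +kernel

theorem hm56_3 : Fn.fixRangeK TT (wpow [1, 11] 2) 256936 12500 = true := by decide +kernel

theorem hm60_3 : Fn.fixRangeK TT (wpow [5, 11] 2) 256936 12500 = true := by decide +kernel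

theorem hm64_3 : Fn.fixRangeK TT (wpow [9, 11] 2) 256936 12500 = true := by decide +kernel

theorem hm65_3 : Fn.fixRangeK TT (wpow [10, 11] 3) 273604 8333 = true := by decide +kernel

theorem hm66_19 : Fn.fixRangeK TT (wpow [0, 10, 7, 6, 5, 4, 3, 2, 10, 7, 6, 5, 4, 3, 2, 10, 7, 6, 5, 4, 3, 2, 10, 7, 6, 5, 4, 3, 2, 10, 7, 6, 5, 4, 3, 2, 10, 7, 6, 5, 4, 3, 2, 10, 7, 6, 5, 4, 3, 2, 10, 7, 6, 5, 4, 3, 2, 10, 7, 6, 5, 4, 3, 2] 1) 291316 781 = true := by decide +kernel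

theorem hm66_61 : Fn.fixRangeK TT (wpow [0, 10, 7, 6, 5, 4, 3, 2, 10, 7, 6, 5, 4, 3, 2, 10, 7, 6, 5, 4, 3, 2, 10, 7, 6, 5, 4, 3, 2, 10, 7, 6, 5, 4, 3, 2, 10, 7, 6, 5, 4, 3, 2, 10, 7, 6, 5, 4, 3, 2, 10, 7, 6, 5, 4, 3, 2, 10, 7, 6, 5, 4, 3, 2] 1) 258514 781 = true := by decide +kernel

theorem hm66_157 : Fn.fixRangeK TT (wpow [0, 10, 7, 6, 5, 4, 3, 2, 10, 7, 6, 5, 4, 3, 2, 10, 7, 6, 5, 4, 3, 2, 10, 7, 6, 5, 4, 3, 2, 10, 7, 6, 5, 4, 3, 2, 10, 7, 6, 5, 4, 3, 2, 10, 7, 6, 5, 4, 3, 2, 10, 7, 6, 5, 4, 3, 2, 10, 7, 6, 5, 4, 3, 2] 1) 183538 781 = true := by decide +kernel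

theorem hm66_253 : Fn.fixRangeK TT (wpow [0, 10, 7, 6, 5, 4, 3, 2, 10, 7, 6, 5, 4, 3, 2, 10, 7, 6, 5, 4, 3, 2, 10, 7, 6, 5, 4, 3, 2, 10, 7, 6, 5, 4, 3, 2, 10, 7, 6, 5, 4, 3, 2, 10, 7, 6, 5, 4, 3, 2, 10, 7, 6, 5, 4, 3, 2, 10, 7, 6, 5, 4, 3, 2] 1) 108562 781 = true := by decide +kernel

theorem hm66_349 : Fn.fixRangeK TT (wpow [0, 10, 7, 6, 5, 4, 3, 2, 10, 7, 6, 5, 4, 3, 2, 10, 7, 6, 5, 4, 3, 2, 10, 7, 6, 5, 4, 3, 2, 10, 7, 6, 5, 4, 3, 2, 10, 7, 6, 5, 4, 3, 2, 10, 7, 6, 5, 4, 3, 2, 10, 7, 6, 5, 4, 3, 2, 10, 7, 6, 5, 4, 3, 2] 1) 33586 781 = true := by decide +kernel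

theorem hm68_82 : Fn.fixRangeK TT (wpow [12] 17) 62833 2941 = true := by decide +kernel

theorem hm68_104 : Fn.fixRangeK TT (wpow [12] 17) 0 1072 = true := by decide +kernel

theorem hm75_3 : Fn.fixRangeK TT (wpow [6] 2) 206936 25000 = true := by decide +kernel

theorem hm83_3 : Fn.fixRangeK TT (wpow [] 1) 106936 50000 = true := by decide +kernel

theorem hperm2_18 : permPartG 18360536419842404880 TT 2 tN 294912 12024 = true := by decide +kernel

theorem hperm4_2 : permPartG 18360536419842404880 TT 4 tN 32768 16384 = true := by decide +kernel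

theorem hperm9_8 : permPartG 18360536419842404880 TT 9 tN 131072 16384 = true := by decide +kernel

end Cfsg.Agent.Lib.Helper12.TCG.Fi24x306936
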