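import Cfsg.Agent.Lib.Helper12.TCG.Fi24x306936.TabT
import Cfsg.Agent.Lib.Helper12.TCG.Fi24x306936.Tab
import Cfsg.Agent.Lib.Helper12.TC.Fn.Ranges2

/-! relator checks for Fi24x306936, part 52 (generated, helper12) -/

set_option autoImplicit false
set_option maxRecDepth 100000
set_option Elab.async false

namespace Cfsg.Agent.Lib.Helper12.TCG.Fi24x306936

open Cfsg.Agent.Lib.Helper12.TC Cfsg.Agent.Lib.Helper12.TCG

theorem horbc2_1 : Fn.allRangeK (Fn.connP TT sw 275265) 297703 9233 = true := by decide +kernel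

theorem hm0_16 : Fn.fixRangeK TT (wpow [0, 1] 3) 165275 8333 = true := by decide +kernel

theorem hm4_4 : Fn.fixRangeK TT (wpow [1, 3] 2) 244436 12500 = true := by decide +kernel

theorem hm5_4 : Fn.fixRangeK TT (wpow [2, 3] 3) 265271 8333 = true := by decide +kernel

theorem hm10_4 : Fn.fixRangeK TT (wpow [0, 5] 2) 244436 12500 = true := by decide +kernel

theorem hm14_28 : Fn.fixRangeK TT (wpow [4, 5] 3) 65279 8333 = true := by decide +kernel

theorem hm15_4 : Fn.fixRangeK TT (wpow [0, 6] 2) 244436 12500 = true := by decide +kernel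

theorem hm19_4 : Fn.fixRangeK TT (wpow [4, 6] 2) 244436 12500 = true := by decide +kernel

theorem hm24_4 : Fn.fixRangeK TT (wpow [3, 7] 2) 244436 12500 = true := by decide +kernel

theorem hm29_4 : Fn.fixRangeK TT (wpow [1, 8] 2) 244436 12500 = true := by decide +kernel

theorem hm33_4 : Fn.fixRangeK TT (wpow [5, 8] 2) 244436 12500 = true := by decide +kernel

theorem hm35_16 : Fn.fixRangeK TT (wpow [7, 8] 3) 165275 8333 = true := by decide +kernel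

theorem hm38_4 : Fn.fixRangeK TT (wpow [2, 9] 2) 244436 12500 = true := by decide +kernel

theorem hm42_4 : Fn.fixRangeK TT (wpow [6, 9] 2) 244436 12500 = true := by decide +kernel

theorem hm47_4 : Fn.fixRangeK TT (wpow [2, 10] 2) 244436 12500 = true := by decide +kernel

theorem hm52_4 : Fn.fixRangeK TT (wpow [7, 10] 2) 244436 12500 = true := by decide +kernel

theorem hm56_4 : Fn.fixRangeK TT (wpow [1, 11] 2) 244436 12500 = true := by decide +kernel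

theorem hm60_4 : Fn.fixRangeK TT (wpow [5, 11] 2) 244436 12500 = true := by decide +kernel

theorem hm64_4 : Fn.fixRangeK TT (wpow [9, 11] 2) 244436 12500 = true := by decide +kernel

theorem hm65_4 : Fn.fixRangeK TT (wpow [10, 11] 3) 265271 8333 = true := by decide +kernel

theorem hm66_20 : Fn.fixRangeK TT (wpow [0, 10, 7, 6, 5, 4, 3, 2, 10, 7, 6, 5, 4, 3, 2, 10, 7, 6, 5, 4, 3, 2, 10, 7, 6, 5, 4, 3, 2, 10, 7, 6, 5, 4, 3, 2, 10, 7, 6, 5, 4, 3, 2, 10, 7, 6, 5, 4, 3, 2, 10, 7, 6, 5, 4, 3, 2, 10, 7, 6, 5, 4, 3, 2] 1) 290535 781 = true := by decide +kernel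

theorem hm66_62 : Fn.fixRangeK TT (wpow [0, 10, 7, 6, 5, 4, 3, 2, 10, 7, 6, 5, 4, 3, 2, 10, 7, 6, 5, 4, 3, 2, 10, 7, 6, 5, 4, 3, 2, 10, 7, 6, 5, 4, 3, 2, 10, 7, 6, 5, 4, 3, 2, 10, 7, 6, 5, 4, 3, 2, 10, 7, 6, 5, 4, 3, 2, 10, 7, 6, 5, 4, 3, 2] 1) 257733 781 = true := by decide +kernel

theorem hm66_158 : Fn.fixRangeK TT (wpow [0, 10, 7, 6, 5, 4, 3, 2, 10, 7, 6, 5, 4, 3, 2, 10, 7, 6, 5, 4, 3, 2, 10, 7, 6, 5, 4, 3, 2, 10, 7, 6, 5, 4, 3, 2, 10, 7, 6, 5, 4, 3, 2, 10, 7, 6, 5, 4, 3, 2, 10, 7, 6, 5, 4, 3, 2, 10, 7, 6, 5, 4, 3, 2] 1) 182757 781 = true := by decide +kernel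

theorem hm66_254 : Fn.fixRangeK TT (wpow [0, 10, 7, 6, 5, 4, 3, 2, 10, 7, 6, 5, 4, 3, 2, 10, 7, 6, 5, 4, 3, 2, 10, 7, 6, 5, 4, 3, 2, 10, 7, 6, 5, 4, 3, 2, 10, 7, 6, 5, 4, 3, 2, 10, 7, 6, 5, 4, 3, 2, 10, 7, 6, 5, 4, 3, 2, 10, 7, 6, 5, 4, 3, 2] 1) 107781 781 = true := by decide +kernel

theorem hm66_350 : Fn.fixRangeK TT (wpow [0, 10, 7, 6, 5, 4, 3, 2, 10, 7, 6, 5, 4, 3, 2, 10, 7, 6, 5, 4, 3, 2, 10, 7, 6, 5, 4, 3, 2, 10, 7, 6, 5, 4, 3, 2, 10, 7, 6, 5, 4, 3, 2, 10, 7, 6, 5, 4, 3, 2, 10, 7, 6, 5, 4, 3, 2, 10, 7, 6, 5, 4, 3, 2] 1) 32805 781 = true := by decide +kernel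

theorem hm68_83 : Fn.fixRangeK TT (wpow [12] 17) 59892 2941 = true := by decide +kernel

theorem hm75_4 : Fn.fixRangeK TT (wpow [6] 2) 181936 25000 = true := by decide +kernel

theorem hm83_4 : Fn.fixRangeK TT (wpow [] 1) 56936 50000 = true := by decide +kernel

theorem hperm3_18 : permPartG 18360536419842404880 TT 3 tN 294912 12024 = true := by decide +kernel

theorem hperm4_3 : permPartG 18360536419842404880 TT 4 tN 49152 16384 = true := by decide +kernel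

theorem hperm9_9 : permPartG 18360536419842404880 TT 9 tN 147456 16384 = true := by decide +kernel

end Cfsg.Agent.Lib.Helper12.TCG.Fi24x306936
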