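import Cfsg.Agent.Lib.Helper12.TCG.Fi24x306936.TabT
import Cfsg.Agent.Lib.Helper12.TCG.Fi24x306936.Tab
import Cfsg.Agent.Lib.Helper12.TC.Fn.Ranges2

/-! relator checks for Fi24x306936, part 55 (generated, helper12) -/

set_option autoImplicit false
set_option maxRecDepth 100000
set_option Elab.async false

namespace Cfsg.Agent.Lib.Helper12.TCG.Fi24x306936

open Cfsg.Agent.Lib.Helper12.TC Cfsg.Agent.Lib.Helper12.TCG

theorem hm0_19 : Fn.fixRangeK TT (wpow [0, 1] 3) 140276 8333 = true := by decide +kernel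

theorem hm4_7 : Fn.fixRangeK TT (wpow [1, 3] 2) 206936 12500 = true := by decide +kernel

theorem hm5_7 : Fn.fixRangeK TT (wpow [2, 3] 3) 240272 8333 = true := by decide +kernel

theorem hm10_7 : Fn.fixRangeK TT (wpow [0, 5] 2) 206936 12500 = true := by decide +kernel

theorem hm14_31 : Fn.fixRangeK TT (wpow [4, 5] 3) 40280 8333 = true := by decide +kernel

theorem hm15_7 : Fn.fixRangeK TT (wpow [0, 6] 2) 206936 12500 = true := by decide +kernel

theorem hm19_7 : Fn.fixRangeK TT (wpow [4, 6] 2) 206936 12500 = true := by decide +kernel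

theorem hm24_7 : Fn.fixRangeK TT (wpow [3, 7] 2) 206936 12500 = true := by decide +kernel

theorem hm29_7 : Fn.fixRangeK TT (wpow [1, 8] 2) 206936 12500 = true := by decide +kernel

theorem hm33_7 : Fn.fixRangeK TT (wpow [5, 8] 2) 206936 12500 = true := by decide +kernel

theorem hm35_19 : Fn.fixRangeK TT (wpow [7, 8] 3) 140276 8333 = true := by decide +kernel

theorem hm38_7 : Fn.fixRangeK TT (wpow [2, 9] 2) 206936 12500 = true := by decide +kernel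

theorem hm42_7 : Fn.fixRangeK TT (wpow [6, 9] 2) 206936 12500 = true := by decide +kernel

theorem hm47_7 : Fn.fixRangeK TT (wpow [2, 10] 2) 206936 12500 = true := by decide +kernel

theorem hm52_7 : Fn.fixRangeK TT (wpow [7, 10] 2) 206936 12500 = true := by decide +kernel

theorem hm56_7 : Fn.fixRangeK TT (wpow [1, 11] 2) 206936 12500 = true := by decide +kernel

theorem hm60_7 : Fn.fixRangeK TT (wpow [5, 11] 2) 206936 12500 = true := by decide +kernel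

theorem hm64_7 : Fn.fixRangeK TT (wpow [9, 11] 2) 206936 12500 = true := by decide +kernel

theorem hm65_7 : Fn.fixRangeK TT (wpow [10, 11] 3) 240272 8333 = true := by decide +kernel

theorem hm66_23 : Fn.fixRangeK TT (wpow [0, 10, 7, 6, 5, 4, 3, 2, 10, 7, 6, 5, 4, 3, 2, 10, 7, 6, 5, 4, 3, 2, 10, 7, 6, 5, 4, 3, 2, 10, 7, 6, 5, 4, 3, 2, 10, 7, 6, 5, 4, 3, 2, 10, 7, 6, 5, 4, 3, 2, 10, 7, 6, 5, 4, 3, 2, 10, 7, 6, 5, 4, 3, 2] 1) 288192 781 = true := by decide +kernel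

theorem hm66_65 : Fn.fixRangeK TT (wpow [0, 10, 7, 6, 5, 4, 3, 2, 10, 7, 6, 5, 4, 3, 2, 10, 7, 6, 5, 4, 3, 2, 10, 7, 6, 5, 4, 3, 2, 10, 7, 6, 5, 4, 3, 2, 10, 7, 6, 5, 4, 3, 2, 10, 7, 6, 5, 4, 3, 2, 10, 7, 6, 5, 4, 3, 2, 10, 7, 6, 5, 4, 3, 2] 1) 255390 781 = true := by decide +kernel

theorem hm66_161 : Fn.fixRangeK TT (wpow [0, 10, 7, 6, 5, 4, 3, 2, 10, 7, 6, 5, 4, 3, 2, 10, 7, 6, 5, 4, 3, 2, 10, 7, 6, 5, 4, 3, 2, 10, 7, 6, 5, 4, 3, 2, 10, 7, 6, 5, 4, 3, 2, 10, 7, 6, 5, 4, 3, 2, 10, 7, 6, 5, 4, 3, 2, 10, 7, 6, 5, 4, 3, 2] 1) 180414 781 = true := by decide +kernel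

theorem hm66_257 : Fn.fixRangeK TT (wpow [0, 10, 7, 6, 5, 4, 3, 2, 10, 7, 6, 5, 4, 3, 2, 10, 7, 6, 5, 4, 3, 2, 10, 7, 6, 5, 4, 3, 2, 10, 7, 6, 5, 4, 3, 2, 10, 7, 6, 5, 4, 3, 2, 10, 7, 6, 5, 4, 3, 2, 10, 7, 6, 5, 4, 3, 2, 10, 7, 6, 5, 4, 3, 2] 1) 105438 781 = true := by decide +kernel

theorem hm66_353 : Fn.fixRangeK TT (wpow [0, 10, 7, 6, 5, 4, 3, 2, 10, 7, 6, 5, 4, 3, 2, 10, 7, 6, 5, 4, 3, 2, 10, 7, 6, 5, 4, 3, 2, 10, 7, 6, 5, 4, 3, 2, 10, 7, 6, 5, 4, 3, 2, 10, 7, 6, 5, 4, 3, 2, 10, 7, 6, 5, 4, 3, 2, 10, 7, 6, 5, 4, 3, 2] 1) 30462 781 = true := by decide +kernel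

theorem hm68_86 : Fn.fixRangeK TT (wpow [12] 17) 51069 2941 = true := by decide +kernel

theorem hm71_12 : Fn.fixRangeK TT (wpow [2] 2) 0 6936 = true := by decide +kernel

theorem hm75_7 : Fn.fixRangeK TT (wpow [6] 2) 106936 25000 = true := by decide +kernel

theorem horbi1_0_1 : Fn.allRangeK (Fn.invP TT [2] 1 275265) 50001 50000 = true := by decide +kernel

theorem hperm4_6 : permPartG 18360536419842404880 TT 4 tN 98304 16384 = true := by decide +kernel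

theorem hperm6_18 : permPartG 18360536419842404880 TT 6 tN 294912 12024 = true := by decide +kernel

theorem hperm9_12 : permPartG 18360536419842404880 TT 9 tN 196608 16384 = true := by decide +kernel

end Cfsg.Agent.Lib.Helper12.TCG.Fi24x306936
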