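import Cfsg.Agent.Lib.Helper12.TCG.Fi24x306936.TabT
import Cfsg.Agent.Lib.Helper12.TCG.Fi24x306936.Tab
import Cfsg.Agent.Lib.Helper12.TC.Fn.Ranges2

/-! relator checks for Fi24x306936, part 56 (generated, helper12) -/

set_option autoImplicit false
set_option maxRecDepth 100000
set_option Elab.async false

namespace Cfsg.Agent.Lib.Helper12.TCG.Fi24x306936

open Cfsg.Agent.Lib.Helper12.TC Cfsg.Agent.Lib.Helper12.TCG

theorem hm0_20 : Fn.fixRangeK TT (wpow [0, 1] 3) 131943 8333 = true := by decide +kernel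

theorem hm4_8 : Fn.fixRangeK TT (wpow [1, 3] 2) 194436 12500 = true := by decide +kernel

theorem hm5_8 : Fn.fixRangeK TT (wpow [2, 3] 3) 231939 8333 = true := by decide +kernel

theorem hm10_8 : Fn.fixRangeK TT (wpow [0, 5] 2) 194436 12500 = true := by decide +kernel

theorem hm14_32 : Fn.fixRangeK TT (wpow [4, 5] 3) 31947 8333 = true := by decide +kernel

theorem hm15_8 : Fn.fixRangeK TT (wpow [0, 6] 2) 194436 12500 = true := by decide +kernel

theorem hm19_8 : Fn.fixRangeK TT (wpow [4, 6] 2) 194436 12500 = true := by decide +kernel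

theorem hm24_8 : Fn.fixRangeK TT (wpow [3, 7] 2) 194436 12500 = true := by decide +kernel

theorem hm29_8 : Fn.fixRangeK TT (wpow [1, 8] 2) 194436 12500 = true := by decide +kernel

theorem hm33_8 : Fn.fixRangeK TT (wpow [5, 8] 2) 194436 12500 = true := by decide +kernel

theorem hm35_20 : Fn.fixRangeK TT (wpow [7, 8] 3) 131943 8333 = true := by decide +kernel

theorem hm38_8 : Fn.fixRangeK TT (wpow [2, 9] 2) 194436 12500 = true := by decide +kernel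

theorem hm42_8 : Fn.fixRangeK TT (wpow [6, 9] 2) 194436 12500 = true := by decide +kernel

theorem hm47_8 : Fn.fixRangeK TT (wpow [2, 10] 2) 194436 12500 = true := by decide +kernel

theorem hm52_8 : Fn.fixRangeK TT (wpow [7, 10] 2) 194436 12500 = true := by decide +kernel

theorem hm56_8 : Fn.fixRangeK TT (wpow [1, 11] 2) 194436 12500 = true := by decide +kernel

theorem hm60_8 : Fn.fixRangeK TT (wpow [5, 11] 2) 194436 12500 = true := by decide +kernel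

theorem hm64_8 : Fn.fixRangeK TT (wpow [9, 11] 2) 194436 12500 = true := by decide +kernel

theorem hm65_8 : Fn.fixRangeK TT (wpow [10, 11] 3) 231939 8333 = true := by decide +kernel

theorem hm66_24 : Fn.fixRangeK TT (wpow [0, 10, 7, 6, 5, 4, 3, 2, 10, 7, 6, 5, 4, 3, 2, 10, 7, 6, 5, 4, 3, 2, 10, 7, 6, 5, 4, 3, 2, 10, 7, 6, 5, 4, 3, 2, 10, 7, 6, 5, 4, 3, 2, 10, 7, 6, 5, 4, 3, 2, 10, 7, 6, 5, 4, 3, 2, 10, 7, 6, 5, 4, 3, 2] 1) 287411 781 = true := by decide +kernel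

theorem hm66_66 : Fn.fixRangeK TT (wpow [0, 10, 7, 6, 5, 4, 3, 2, 10, 7, 6, 5, 4, 3, 2, 10, 7, 6, 5, 4, 3, 2, 10, 7, 6, 5, 4, 3, 2, 10, 7, 6, 5, 4, 3, 2, 10, 7, 6, 5, 4, 3, 2, 10, 7, 6, 5, 4, 3, 2, 10, 7, 6, 5, 4, 3, 2, 10, 7, 6, 5, 4, 3, 2] 1) 254609 781 = true := by decide +kernel

theorem hm66_162 : Fn.fixRangeK TT (wpow [0, 10, 7, 6, 5, 4, 3, 2, 10, 7, 6, 5, 4, 3, 2, 10, 7, 6, 5, 4, 3, 2, 10, 7, 6, 5, 4, 3, 2, 10, 7, 6, 5, 4, 3, 2, 10, 7, 6, 5, 4, 3, 2, 10, 7, 6, 5, 4, 3, 2, 10, 7, 6, 5, 4, 3, 2, 10, 7, 6, 5, 4, 3, 2] 1) 179633 781 = true := by decide +kernel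

theorem hm66_258 : Fn.fixRangeK TT (wpow [0, 10, 7, 6, 5, 4, 3, 2, 10, 7, 6, 5, 4, 3, 2, 10, 7, 6, 5, 4, 3, 2, 10, 7, 6, 5, 4, 3, 2, 10, 7, 6, 5, 4, 3, 2, 10, 7, 6, 5, 4, 3, 2, 10, 7, 6, 5, 4, 3, 2, 10, 7, 6, 5, 4, 3, 2, 10, 7, 6, 5, 4, 3, 2] 1) 104657 781 = true := by decide +kernel

theorem hm66_354 : Fn.fixRangeK TT (wpow [0, 10, 7, 6, 5, 4, 3, 2, 10, 7, 6, 5, 4, 3, 2, 10, 7, 6, 5, 4, 3, 2, 10, 7, 6, 5, 4, 3, 2, 10, 7, 6, 5, 4, 3, 2, 10, 7, 6, 5, 4, 3, 2, 10, 7, 6, 5, 4, 3, 2, 10, 7, 6, 5, 4, 3, 2, 10, 7, 6, 5, 4, 3, 2] 1) 29681 781 = true := by decide +kernel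

theorem hm68_87 : Fn.fixRangeK TT (wpow [12] 17) 48128 2941 = true := by decide +kernel

theorem hm72_12 : Fn.fixRangeK TT (wpow [3] 2) 0 6936 = true := by decide +kernel

theorem hm75_8 : Fn.fixRangeK TT (wpow [6] 2) 81936 25000 = true := by decide +kernel

theorem horbi1_0_2 : Fn.allRangeK (Fn.invP TT [2] 1 275265) 100001 50000 = true := by decide +kernel

theorem hperm4_7 : permPartG 18360536419842404880 TT 4 tN 114688 16384 = true := by decide +kernel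

theorem hperm7_18 : permPartG 18360536419842404880 TT 7 tN 294912 12024 = true := by decide +kernel

theorem hperm9_13 : permPartG 18360536419842404880 TT 9 tN 212992 16384 = true := by decide +kernel

end Cfsg.Agent.Lib.Helper12.TCG.Fi24x306936
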