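import Cfsg.Agent.Lib.Helper12.TCG.Fi24x306936.TabT
import Cfsg.Agent.Lib.Helper12.TCG.Fi24x306936.Tab
import Cfsg.Agent.Lib.Helper12.TC.Fn.Ranges2

/-! relator checks for Fi24x306936, part 60 (generated, helper12) -/

set_option autoImplicit false
set_option maxRecDepth 100000
set_option Elab.async false

namespace Cfsg.Agent.Lib.Helper12.TCG.Fi24x306936

open Cfsg.Agent.Lib.Helper12.TC Cfsg.Agent.Lib.Helper12.TCG

theorem hm0_24 : Fn.fixRangeK TT (wpow [0, 1] 3) 98611 8333 = true := by decide +kernel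

theorem hm4_12 : Fn.fixRangeK TT (wpow [1, 3] 2) 144436 12500 = true := by decide +kernel

theorem hm5_12 : Fn.fixRangeK TT (wpow [2, 3] 3) 198607 8333 = true := by decide +kernel

theorem hm10_12 : Fn.fixRangeK TT (wpow [0, 5] 2) 144436 12500 = true := by decide +kernel

theorem hm15_12 : Fn.fixRangeK TT (wpow [0, 6] 2) 144436 12500 = true := by decide +kernel

theorem hm19_12 : Fn.fixRangeK TT (wpow [4, 6] 2) 144436 12500 = true := by decide +kernel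

theorem hm20_0 : Fn.fixRangeK TT (wpow [5, 6] 3) 298603 8333 = true := by decide +kernel

theorem hm24_12 : Fn.fixRangeK TT (wpow [3, 7] 2) 144436 12500 = true := by decide +kernel

theorem hm29_12 : Fn.fixRangeK TT (wpow [1, 8] 2) 144436 12500 = true := by decide +kernel

theorem hm33_12 : Fn.fixRangeK TT (wpow [5, 8] 2) 144436 12500 = true := by decide +kernel

theorem hm35_24 : Fn.fixRangeK TT (wpow [7, 8] 3) 98611 8333 = true := by decide +kernel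

theorem hm38_12 : Fn.fixRangeK TT (wpow [2, 9] 2) 144436 12500 = true := by decide +kernel

theorem hm42_12 : Fn.fixRangeK TT (wpow [6, 9] 2) 144436 12500 = true := by decide +kernel

theorem hm47_12 : Fn.fixRangeK TT (wpow [2, 10] 2) 144436 12500 = true := by decide +kernel

theorem hm52_12 : Fn.fixRangeK TT (wpow [7, 10] 2) 144436 12500 = true := by decide +kernel

theorem hm56_12 : Fn.fixRangeK TT (wpow [1, 11] 2) 144436 12500 = true := by decide +kernel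

theorem hm60_12 : Fn.fixRangeK TT (wpow [5, 11] 2) 144436 12500 = true := by decide +kernel

theorem hm64_12 : Fn.fixRangeK TT (wpow [9, 11] 2) 144436 12500 = true := by decide +kernel

theorem hm65_12 : Fn.fixRangeK TT (wpow [10, 11] 3) 198607 8333 = true := by decide +kernel

theorem hm66_28 : Fn.fixRangeK TT (wpow [0, 10, 7, 6, 5, 4, 3, 2, 10, 7, 6, 5, 4, 3, 2, 10, 7, 6, 5, 4, 3, 2, 10, 7, 6, 5, 4, 3, 2, 10, 7, 6, 5, 4, 3, 2, 10, 7, 6, 5, 4, 3, 2, 10, 7, 6, 5, 4, 3, 2, 10, 7, 6, 5, 4, 3, 2, 10, 7, 6, 5, 4, 3, 2] 1) 284287 781 = true := by decide +kernel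

theorem hm66_70 : Fn.fixRangeK TT (wpow [0, 10, 7, 6, 5, 4, 3, 2, 10, 7, 6, 5, 4, 3, 2, 10, 7, 6, 5, 4, 3, 2, 10, 7, 6, 5, 4, 3, 2, 10, 7, 6, 5, 4, 3, 2, 10, 7, 6, 5, 4, 3, 2, 10, 7, 6, 5, 4, 3, 2, 10, 7, 6, 5, 4, 3, 2, 10, 7, 6, 5, 4, 3, 2] 1) 251485 781 = true := by decide +kernel

theorem hm66_166 : Fn.fixRangeK TT (wpow [0, 10, 7, 6, 5, 4, 3, 2, 10, 7, 6, 5, 4, 3, 2, 10, 7, 6, 5, 4, 3, 2, 10, 7, 6, 5, 4, 3, 2, 10, 7, 6, 5, 4, 3, 2, 10, 7, 6, 5, 4, 3, 2, 10, 7, 6, 5, 4, 3, 2, 10, 7, 6, 5, 4, 3, 2, 10, 7, 6, 5, 4, 3, 2] 1) 176509 781 = true := by decide +kernel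

theorem hm66_262 : Fn.fixRangeK TT (wpow [0, 10, 7, 6, 5, 4, 3, 2, 10, 7, 6, 5, 4, 3, 2, 10, 7, 6, 5, 4, 3, 2, 10, 7, 6, 5, 4, 3, 2, 10, 7, 6, 5, 4, 3, 2, 10, 7, 6, 5, 4, 3, 2, 10, 7, 6, 5, 4, 3, 2, 10, 7, 6, 5, 4, 3, 2, 10, 7, 6, 5, 4, 3, 2] 1) 101533 781 = true := by decide +kernel

theorem hm66_358 : Fn.fixRangeK TT (wpow [0, 10, 7, 6, 5, 4, 3, 2, 10, 7, 6, 5, 4, 3, 2, 10, 7, 6, 5, 4, 3, 2, 10, 7, 6, 5, 4, 3, 2, 10, 7, 6, 5, 4, 3, 2, 10, 7, 6, 5, 4, 3, 2, 10, 7, 6, 5, 4, 3, 2, 10, 7, 6, 5, 4, 3, 2, 10, 7, 6, 5, 4, 3, 2] 1) 26557 781 = true := by decide +kernel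

theorem hm68_91 : Fn.fixRangeK TT (wpow [12] 17) 36364 2941 = true := by decide +kernel

theorem hm76_0 : Fn.fixRangeK TT (wpow [7] 2) 281936 25000 = true := by decide +kernel

theorem hm76_12 : Fn.fixRangeK TT (wpow [7] 2) 0 6936 = true := by decide +kernel

theorem horbi1_1_1 : Fn.allRangeK (Fn.invP TT [3] 1 275265) 50001 50000 = true := by decide +kernel

theorem hperm4_11 : permPartG 18360536419842404880 TT 4 tN 180224 16384 = true := by decide +kernel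

theorem hperm9_17 : permPartG 18360536419842404880 TT 9 tN 278528 16384 = true := by decide +kernel

theorem hperm11_18 : permPartG 18360536419842404880 TT 11 tN 294912 12024 = true := by decide +kernel

end Cfsg.Agent.Lib.Helper12.TCG.Fi24x306936
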