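import Cfsg.Agent.Lib.Helper12.TCG.Fi24x306936.TabT
import Cfsg.Agent.Lib.Helper12.TCG.Fi24x306936.Tab
import Cfsg.Agent.Lib.Helper12.TC.Fn.Ranges2

/-! relator checks for Fi24x306936, part 61 (generated, helper12) -/

set_option autoImplicit false
set_option maxRecDepth 100000
set_option Elab.async false

namespace Cfsg.Agent.Lib.Helper12.TCG.Fi24x306936

open Cfsg.Agent.Lib.Helper12.TC Cfsg.Agent.Lib.Helper12.TCG

theorem hm0_25 : Fn.fixRangeK TT (wpow [0, 1] 3) 90278 8333 = true := by decide +kernel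

theorem hm4_13 : Fn.fixRangeK TT (wpow [1, 3] 2) 131936 12500 = true := by decide +kernel

theorem hm5_13 : Fn.fixRangeK TT (wpow [2, 3] 3) 190274 8333 = true := by decide +kernel

theorem hm10_13 : Fn.fixRangeK TT (wpow [0, 5] 2) 131936 12500 = true := by decide +kernel

theorem hm15_13 : Fn.fixRangeK TT (wpow [0, 6] 2) 131936 12500 = true := by decide +kernel

theorem hm19_13 : Fn.fixRangeK TT (wpow [4, 6] 2) 131936 12500 = true := by decide +kernel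

theorem hm20_1 : Fn.fixRangeK TT (wpow [5, 6] 3) 290270 8333 = true := by decide +kernel

theorem hm24_13 : Fn.fixRangeK TT (wpow [3, 7] 2) 131936 12500 = true := by decide +kernel

theorem hm29_13 : Fn.fixRangeK TT (wpow [1, 8] 2) 131936 12500 = true := by decide +kernel

theorem hm33_13 : Fn.fixRangeK TT (wpow [5, 8] 2) 131936 12500 = true := by decide +kernel

theorem hm35_25 : Fn.fixRangeK TT (wpow [7, 8] 3) 90278 8333 = true := by decide +kernel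

theorem hm38_13 : Fn.fixRangeK TT (wpow [2, 9] 2) 131936 12500 = true := by decide +kernel

theorem hm42_13 : Fn.fixRangeK TT (wpow [6, 9] 2) 131936 12500 = true := by decide +kernel

theorem hm47_13 : Fn.fixRangeK TT (wpow [2, 10] 2) 131936 12500 = true := by decide +kernel

theorem hm52_13 : Fn.fixRangeK TT (wpow [7, 10] 2) 131936 12500 = true := by decide +kernel

theorem hm56_13 : Fn.fixRangeK TT (wpow [1, 11] 2) 131936 12500 = true := by decide +kernel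

theorem hm60_13 : Fn.fixRangeK TT (wpow [5, 11] 2) 131936 12500 = true := by decide +kernel

theorem hm64_13 : Fn.fixRangeK TT (wpow [9, 11] 2) 131936 12500 = true := by decide +kernel

theorem hm65_13 : Fn.fixRangeK TT (wpow [10, 11] 3) 190274 8333 = true := by decide +kernel

theorem hm66_29 : Fn.fixRangeK TT (wpow [0, 10, 7, 6, 5, 4, 3, 2, 10, 7, 6, 5, 4, 3, 2, 10, 7, 6, 5, 4, 3, 2, 10, 7, 6, 5, 4, 3, 2, 10, 7, 6, 5, 4, 3, 2, 10, 7, 6, 5, 4, 3, 2, 10, 7, 6, 5, 4, 3, 2, 10, 7, 6, 5, 4, 3, 2, 10, 7, 6, 5, 4, 3, 2] 1) 283506 781 = true := by decide +kernel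

theorem hm66_71 : Fn.fixRangeK TT (wpow [0, 10, 7, 6, 5, 4, 3, 2, 10, 7, 6, 5, 4, 3, 2, 10, 7, 6, 5, 4, 3, 2, 10, 7, 6, 5, 4, 3, 2, 10, 7, 6, 5, 4, 3, 2, 10, 7, 6, 5, 4, 3, 2, 10, 7, 6, 5, 4, 3, 2, 10, 7, 6, 5, 4, 3, 2, 10, 7, 6, 5, 4, 3, 2] 1) 250704 781 = true := by decide +kernel

theorem hm66_167 : Fn.fixRangeK TT (wpow [0, 10, 7, 6, 5, 4, 3, 2, 10, 7, 6, 5, 4, 3, 2, 10, 7, 6, 5, 4, 3, 2, 10, 7, 6, 5, 4, 3, 2, 10, 7, 6, 5, 4, 3, 2, 10, 7, 6, 5, 4, 3, 2, 10, 7, 6, 5, 4, 3, 2, 10, 7, 6, 5, 4, 3, 2, 10, 7, 6, 5, 4, 3, 2] 1) 175728 781 = true := by decide +kernel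

theorem hm66_263 : Fn.fixRangeK TT (wpow [0, 10, 7, 6, 5, 4, 3, 2, 10, 7, 6, 5, 4, 3, 2, 10, 7, 6, 5, 4, 3, 2, 10, 7, 6, 5, 4, 3, 2, 10, 7, 6, 5, 4, 3, 2, 10, 7, 6, 5, 4, 3, 2, 10, 7, 6, 5, 4, 3, 2, 10, 7, 6, 5, 4, 3, 2, 10, 7, 6, 5, 4, 3, 2] 1) 100752 781 = true := by decide +kernel

theorem hm66_359 : Fn.fixRangeK TT (wpow [0, 10, 7, 6, 5, 4, 3, 2, 10, 7, 6, 5, 4, 3, 2, 10, 7, 6, 5, 4, 3, 2, 10, 7, 6, 5, 4, 3, 2, 10, 7, 6, 5, 4, 3, 2, 10, 7, 6, 5, 4, 3, 2, 10, 7, 6, 5, 4, 3, 2, 10, 7, 6, 5, 4, 3, 2, 10, 7, 6, 5, 4, 3, 2] 1) 25776 781 = true := by decide +kernel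

theorem hm68_92 : Fn.fixRangeK TT (wpow [12] 17) 33423 2941 = true := by decide +kernel

theorem hm76_1 : Fn.fixRangeK TT (wpow [7] 2) 256936 25000 = true := by decide +kernel

theorem hm77_12 : Fn.fixRangeK TT (wpow [8] 2) 0 6936 = true := by decide +kernel

theorem horbi1_1_2 : Fn.allRangeK (Fn.invP TT [3] 1 275265) 100001 50000 = true := by decide +kernel

theorem hperm4_12 : permPartG 18360536419842404880 TT 4 tN 196608 16384 = true := by decide +kernel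

theorem hperm10_0 : permPartG 18360536419842404880 TT 10 tN 0 16384 = true := by decide +kernel

theorem hperm12_18 : permPartG 18360536419842404880 TT 12 tN 294912 12024 = true := by decide +kernel

end Cfsg.Agent.Lib.Helper12.TCG.Fi24x306936
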