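import Cfsg.Agent.Lib.Helper12.TCG.Fi24x306936.TabT
import Cfsg.Agent.Lib.Helper12.TCG.Fi24x306936.Tab
import Cfsg.Agent.Lib.Helper12.TC.Fn.Ranges2

/-! relator checks for Fi24x306936, part 63 (generated, helper12) -/

set_option autoImplicit false
set_option maxRecDepth 100000
set_option Elab.async false

namespace Cfsg.Agent.Lib.Helper12.TCG.Fi24x306936

open Cfsg.Agent.Lib.Helper12.TC Cfsg.Agent.Lib.Helper12.TCG

theorem hm0_27 : Fn.fixRangeK TT (wpow [0, 1] 3) 73612 8333 = true := by decide +kernel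

theorem hm1_24 : Fn.fixRangeK TT (wpow [0, 2] 2) 0 6936 = true := by decide +kernel

theorem hm4_15 : Fn.fixRangeK TT (wpow [1, 3] 2) 106936 12500 = true := by decide +kernel

theorem hm5_15 : Fn.fixRangeK TT (wpow [2, 3] 3) 173608 8333 = true := by decide +kernel

theorem hm10_15 : Fn.fixRangeK TT (wpow [0, 5] 2) 106936 12500 = true := by decide +kernel

theorem hm15_15 : Fn.fixRangeK TT (wpow [0, 6] 2) 106936 12500 = true := by decide +kernel

theorem hm19_15 : Fn.fixRangeK TT (wpow [4, 6] 2) 106936 12500 = true := by decide +kernel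

theorem hm20_3 : Fn.fixRangeK TT (wpow [5, 6] 3) 273604 8333 = true := by decide +kernel

theorem hm24_15 : Fn.fixRangeK TT (wpow [3, 7] 2) 106936 12500 = true := by decide +kernel

theorem hm29_15 : Fn.fixRangeK TT (wpow [1, 8] 2) 106936 12500 = true := by decide +kernel

theorem hm33_15 : Fn.fixRangeK TT (wpow [5, 8] 2) 106936 12500 = true := by decide +kernel

theorem hm35_27 : Fn.fixRangeK TT (wpow [7, 8] 3) 73612 8333 = true := by decide +kernel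

theorem hm38_15 : Fn.fixRangeK TT (wpow [2, 9] 2) 106936 12500 = true := by decide +kernel

theorem hm40_24 : Fn.fixRangeK TT (wpow [4, 9] 2) 0 6936 = true := by decide +kernel

theorem hm42_15 : Fn.fixRangeK TT (wpow [6, 9] 2) 106936 12500 = true := by decide +kernel

theorem hm47_15 : Fn.fixRangeK TT (wpow [2, 10] 2) 106936 12500 = true := by decide +kernel

theorem hm52_15 : Fn.fixRangeK TT (wpow [7, 10] 2) 106936 12500 = true := by decide +kernel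

theorem hm56_15 : Fn.fixRangeK TT (wpow [1, 11] 2) 106936 12500 = true := by decide +kernel

theorem hm60_15 : Fn.fixRangeK TT (wpow [5, 11] 2) 106936 12500 = true := by decide +kernel

theorem hm64_15 : Fn.fixRangeK TT (wpow [9, 11] 2) 106936 12500 = true := by decide +kernel

theorem hm65_15 : Fn.fixRangeK TT (wpow [10, 11] 3) 173608 8333 = true := by decide +kernel

theorem hm66_31 : Fn.fixRangeK TT (wpow [0, 10, 7, 6, 5, 4, 3, 2, 10, 7, 6, 5, 4, 3, 2, 10, 7, 6, 5, 4, 3, 2, 10, 7, 6, 5, 4, 3, 2, 10, 7, 6, 5, 4, 3, 2, 10, 7, 6, 5, 4, 3, 2, 10, 7, 6, 5, 4, 3, 2, 10, 7, 6, 5, 4, 3, 2, 10, 7, 6, 5, 4, 3, 2] 1) 281944 781 = true := by decide +kernel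

theorem hm66_73 : Fn.fixRangeK TT (wpow [0, 10, 7, 6, 5, 4, 3, 2, 10, 7, 6, 5, 4, 3, 2, 10, 7, 6, 5, 4, 3, 2, 10, 7, 6, 5, 4, 3, 2, 10, 7, 6, 5, 4, 3, 2, 10, 7, 6, 5, 4, 3, 2, 10, 7, 6, 5, 4, 3, 2, 10, 7, 6, 5, 4, 3, 2, 10, 7, 6, 5, 4, 3, 2] 1) 249142 781 = true := by decide +kernel

theorem hm66_169 : Fn.fixRangeK TT (wpow [0, 10, 7, 6, 5, 4, 3, 2, 10, 7, 6, 5, 4, 3, 2, 10, 7, 6, 5, 4, 3, 2, 10, 7, 6, 5, 4, 3, 2, 10, 7, 6, 5, 4, 3, 2, 10, 7, 6, 5, 4, 3, 2, 10, 7, 6, 5, 4, 3, 2, 10, 7, 6, 5, 4, 3, 2, 10, 7, 6, 5, 4, 3, 2] 1) 174166 781 = true := by decide +kernel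

theorem hm66_265 : Fn.fixRangeK TT (wpow [0, 10, 7, 6, 5, 4, 3, 2, 10, 7, 6, 5, 4, 3, 2, 10, 7, 6, 5, 4, 3, 2, 10, 7, 6, 5, 4, 3, 2, 10, 7, 6, 5, 4, 3, 2, 10, 7, 6, 5, 4, 3, 2, 10, 7, 6, 5, 4, 3, 2, 10, 7, 6, 5, 4, 3, 2, 10, 7, 6, 5, 4, 3, 2] 1) 99190 781 = true := by decide +kernel

theorem hm66_361 : Fn.fixRangeK TT (wpow [0, 10, 7, 6, 5, 4, 3, 2, 10, 7, 6, 5, 4, 3, 2, 10, 7, 6, 5, 4, 3, 2, 10, 7, 6, 5, 4, 3, 2, 10, 7, 6, 5, 4, 3, 2, 10, 7, 6, 5, 4, 3, 2, 10, 7, 6, 5, 4, 3, 2, 10, 7, 6, 5, 4, 3, 2, 10, 7, 6, 5, 4, 3, 2] 1) 24214 781 = true := by decide +kernel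

theorem hm68_94 : Fn.fixRangeK TT (wpow [12] 17) 27541 2941 = true := by decide +kernel

theorem hm76_3 : Fn.fixRangeK TT (wpow [7] 2) 206936 25000 = true := by decide +kernel

theorem horbi1_1_4 : Fn.allRangeK (Fn.invP TT [3] 1 275265) 200001 50000 = true := by decide +kernel

theorem hperm4_14 : permPartG 18360536419842404880 TT 4 tN 229376 16384 = true := by decide +kernel

theorem hperm10_2 : permPartG 18360536419842404880 TT 10 tN 32768 16384 = true := by decide +kernel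

end Cfsg.Agent.Lib.Helper12.TCG.Fi24x306936
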