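import Cfsg.Agent.Lib.Helper12.TCG.Fi24x306936.TabT
import Cfsg.Agent.Lib.Helper12.TCG.Fi24x306936.Tab
import Cfsg.Agent.Lib.Helper12.TC.Fn.Ranges2

/-! relator checks for Fi24x306936, part 65 (generated, helper12) -/

set_option autoImplicit false
set_option maxRecDepth 100000
set_option Elab.async false

namespace Cfsg.Agent.Lib.Helper12.TCG.Fi24x306936

open Cfsg.Agent.Lib.Helper12.TC Cfsg.Agent.Lib.Helper12.TCG

theorem hm0_29 : Fn.fixRangeK TT (wpow [0, 1] 3) 56946 8333 = true := by decide +kernel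

theorem hm4_17 : Fn.fixRangeK TT (wpow [1, 3] 2) 81936 12500 = true := by decide +kernel

theorem hm4_24 : Fn.fixRangeK TT (wpow [1, 3] 2) 0 6936 = true := by decide +kernel

theorem hm5_17 : Fn.fixRangeK TT (wpow [2, 3] 3) 156942 8333 = true := by decide +kernel

theorem hm10_17 : Fn.fixRangeK TT (wpow [0, 5] 2) 81936 12500 = true := by decide +kernel

theorem hm15_17 : Fn.fixRangeK TT (wpow [0, 6] 2) 81936 12500 = true := by decide +kernel

theorem hm19_17 : Fn.fixRangeK TT (wpow [4, 6] 2) 81936 12500 = true := by decide +kernel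

theorem hm20_5 : Fn.fixRangeK TT (wpow [5, 6] 3) 256938 8333 = true := by decide +kernel

theorem hm24_17 : Fn.fixRangeK TT (wpow [3, 7] 2) 81936 12500 = true := by decide +kernel

theorem hm29_17 : Fn.fixRangeK TT (wpow [1, 8] 2) 81936 12500 = true := by decide +kernel

theorem hm33_17 : Fn.fixRangeK TT (wpow [5, 8] 2) 81936 12500 = true := by decide +kernel

theorem hm35_29 : Fn.fixRangeK TT (wpow [7, 8] 3) 56946 8333 = true := by decide +kernel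

theorem hm38_17 : Fn.fixRangeK TT (wpow [2, 9] 2) 81936 12500 = true := by decide +kernel

theorem hm42_17 : Fn.fixRangeK TT (wpow [6, 9] 2) 81936 12500 = true := by decide +kernel

theorem hm42_24 : Fn.fixRangeK TT (wpow [6, 9] 2) 0 6936 = true := by decide +kernel

theorem hm47_17 : Fn.fixRangeK TT (wpow [2, 10] 2) 81936 12500 = true := by decide +kernel

theorem hm52_17 : Fn.fixRangeK TT (wpow [7, 10] 2) 81936 12500 = true := by decide +kernel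

theorem hm56_17 : Fn.fixRangeK TT (wpow [1, 11] 2) 81936 12500 = true := by decide +kernel

theorem hm60_17 : Fn.fixRangeK TT (wpow [5, 11] 2) 81936 12500 = true := by decide +kernel

theorem hm64_17 : Fn.fixRangeK TT (wpow [9, 11] 2) 81936 12500 = true := by decide +kernel

theorem hm65_17 : Fn.fixRangeK TT (wpow [10, 11] 3) 156942 8333 = true := by decide +kernel

theorem hm66_33 : Fn.fixRangeK TT (wpow [0, 10, 7, 6, 5, 4, 3, 2, 10, 7, 6, 5, 4, 3, 2, 10, 7, 6, 5, 4, 3, 2, 10, 7, 6, 5, 4, 3, 2, 10, 7, 6, 5, 4, 3, 2, 10, 7, 6, 5, 4, 3, 2, 10, 7, 6, 5, 4, 3, 2, 10, 7, 6, 5, 4, 3, 2, 10, 7, 6, 5, 4, 3, 2] 1) 280382 781 = true := by decide +kernel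

theorem hm66_75 : Fn.fixRangeK TT (wpow [0, 10, 7, 6, 5, 4, 3, 2, 10, 7, 6, 5, 4, 3, 2, 10, 7, 6, 5, 4, 3, 2, 10, 7, 6, 5, 4, 3, 2, 10, 7, 6, 5, 4, 3, 2, 10, 7, 6, 5, 4, 3, 2, 10, 7, 6, 5, 4, 3, 2, 10, 7, 6, 5, 4, 3, 2, 10, 7, 6, 5, 4, 3, 2] 1) 247580 781 = true := by decide +kernel

theorem hm66_171 : Fn.fixRangeK TT (wpow [0, 10, 7, 6, 5, 4, 3, 2, 10, 7, 6, 5, 4, 3, 2, 10, 7, 6, 5, 4, 3, 2, 10, 7, 6, 5, 4, 3, 2, 10, 7, 6, 5, 4, 3, 2, 10, 7, 6, 5, 4, 3, 2, 10, 7, 6, 5, 4, 3, 2, 10, 7, 6, 5, 4, 3, 2, 10, 7, 6, 5, 4, 3, 2] 1) 172604 781 = true := by decide +kernel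

theorem hm66_267 : Fn.fixRangeK TT (wpow [0, 10, 7, 6, 5, 4, 3, 2, 10, 7, 6, 5, 4, 3, 2, 10, 7, 6, 5, 4, 3, 2, 10, 7, 6, 5, 4, 3, 2, 10, 7, 6, 5, 4, 3, 2, 10, 7, 6, 5, 4, 3, 2, 10, 7, 6, 5, 4, 3, 2, 10, 7, 6, 5, 4, 3, 2, 10, 7, 6, 5, 4, 3, 2] 1) 97628 781 = true := by decide +kernel

theorem hm66_363 : Fn.fixRangeK TT (wpow [0, 10, 7, 6, 5, 4, 3, 2, 10, 7, 6, 5, 4, 3, 2, 10, 7, 6, 5, 4, 3, 2, 10, 7, 6, 5, 4, 3, 2, 10, 7, 6, 5, 4, 3, 2, 10, 7, 6, 5, 4, 3, 2, 10, 7, 6, 5, 4, 3, 2, 10, 7, 6, 5, 4, 3, 2, 10, 7, 6, 5, 4, 3, 2] 1) 22652 781 = true := by decide +kernel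

theorem hm68_96 : Fn.fixRangeK TT (wpow [12] 17) 21659 2941 = true := by decide +kernel

theorem hm76_5 : Fn.fixRangeK TT (wpow [7] 2) 156936 25000 = true := by decide +kernel

theorem horbi1_2_1 : Fn.allRangeK (Fn.invP TT [4] 1 275265) 50001 50000 = true := by decide +kernel

theorem hperm4_16 : permPartG 18360536419842404880 TT 4 tN 262144 16384 = true := by decide +kernel

theorem hperm10_4 : permPartG 18360536419842404880 TT 10 tN 65536 16384 = true := by decide +kernel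

end Cfsg.Agent.Lib.Helper12.TCG.Fi24x306936
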