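import Cfsg.Agent.Lib.Helper12.TCG.Fi24x306936.TabT
import Cfsg.Agent.Lib.Helper12.TCG.Fi24x306936.Tab
import Cfsg.Agent.Lib.Helper12.TC.Fn.Ranges2

/-! relator checks for Fi24x306936, part 66 (generated, helper12) -/

set_option autoImplicit false
set_option maxRecDepth 100000
set_option Elab.async false

namespace Cfsg.Agent.Lib.Helper12.TCG.Fi24x306936

open Cfsg.Agent.Lib.Helper12.TC Cfsg.Agent.Lib.Helper12.TCG

theorem hm0_30 : Fn.fixRangeK TT (wpow [0, 1] 3) 48613 8333 = true := by decide +kernel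

theorem hm4_18 : Fn.fixRangeK TT (wpow [1, 3] 2) 69436 12500 = true := by decide +kernel

theorem hm5_18 : Fn.fixRangeK TT (wpow [2, 3] 3) 148609 8333 = true := by decide +kernel

theorem hm6_24 : Fn.fixRangeK TT (wpow [0, 4] 2) 0 6936 = true := by decide +kernel

theorem hm10_18 : Fn.fixRangeK TT (wpow [0, 5] 2) 69436 12500 = true := by decide +kernel

theorem hm15_18 : Fn.fixRangeK TT (wpow [0, 6] 2) 69436 12500 = true := by decide +kernel

theorem hm19_18 : Fn.fixRangeK TT (wpow [4, 6] 2) 69436 12500 = true := by decide +kernel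

theorem hm20_6 : Fn.fixRangeK TT (wpow [5, 6] 3) 248605 8333 = true := by decide +kernel

theorem hm24_18 : Fn.fixRangeK TT (wpow [3, 7] 2) 69436 12500 = true := by decide +kernel

theorem hm29_18 : Fn.fixRangeK TT (wpow [1, 8] 2) 69436 12500 = true := by decide +kernel

theorem hm33_18 : Fn.fixRangeK TT (wpow [5, 8] 2) 69436 12500 = true := by decide +kernel

theorem hm35_30 : Fn.fixRangeK TT (wpow [7, 8] 3) 48613 8333 = true := by decide +kernel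

theorem hm38_18 : Fn.fixRangeK TT (wpow [2, 9] 2) 69436 12500 = true := by decide +kernel

theorem hm42_18 : Fn.fixRangeK TT (wpow [6, 9] 2) 69436 12500 = true := by decide +kernel

theorem hm43_24 : Fn.fixRangeK TT (wpow [7, 9] 2) 0 6936 = true := by decide +kernel

theorem hm47_18 : Fn.fixRangeK TT (wpow [2, 10] 2) 69436 12500 = true := by decide +kernel

theorem hm52_18 : Fn.fixRangeK TT (wpow [7, 10] 2) 69436 12500 = true := by decide +kernel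

theorem hm56_18 : Fn.fixRangeK TT (wpow [1, 11] 2) 69436 12500 = true := by decide +kernel

theorem hm60_18 : Fn.fixRangeK TT (wpow [5, 11] 2) 69436 12500 = true := by decide +kernel

theorem hm64_18 : Fn.fixRangeK TT (wpow [9, 11] 2) 69436 12500 = true := by decide +kernel

theorem hm65_18 : Fn.fixRangeK TT (wpow [10, 11] 3) 148609 8333 = true := by decide +kernel

theorem hm66_34 : Fn.fixRangeK TT (wpow [0, 10, 7, 6, 5, 4, 3, 2, 10, 7, 6, 5, 4, 3, 2, 10, 7, 6, 5, 4, 3, 2, 10, 7, 6, 5, 4, 3, 2, 10, 7, 6, 5, 4, 3, 2, 10, 7, 6, 5, 4, 3, 2, 10, 7, 6, 5, 4, 3, 2, 10, 7, 6, 5, 4, 3, 2, 10, 7, 6, 5, 4, 3, 2] 1) 279601 781 = true := by decide +kernel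

theorem hm66_76 : Fn.fixRangeK TT (wpow [0, 10, 7, 6, 5, 4, 3, 2, 10, 7, 6, 5, 4, 3, 2, 10, 7, 6, 5, 4, 3, 2, 10, 7, 6, 5, 4, 3, 2, 10, 7, 6, 5, 4, 3, 2, 10, 7, 6, 5, 4, 3, 2, 10, 7, 6, 5, 4, 3, 2, 10, 7, 6, 5, 4, 3, 2, 10, 7, 6, 5, 4, 3, 2] 1) 246799 781 = true := by decide +kernel

theorem hm66_172 : Fn.fixRangeK TT (wpow [0, 10, 7, 6, 5, 4, 3, 2, 10, 7, 6, 5, 4, 3, 2, 10, 7, 6, 5, 4, 3, 2, 10, 7, 6, 5, 4, 3, 2, 10, 7, 6, 5, 4, 3, 2, 10, 7, 6, 5, 4, 3, 2, 10, 7, 6, 5, 4, 3, 2, 10, 7, 6, 5, 4, 3, 2, 10, 7, 6, 5, 4, 3, 2] 1) 171823 781 = true := by decide +kernel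

theorem hm66_268 : Fn.fixRangeK TT (wpow [0, 10, 7, 6, 5, 4, 3, 2, 10, 7, 6, 5, 4, 3, 2, 10, 7, 6, 5, 4, 3, 2, 10, 7, 6, 5, 4, 3, 2, 10, 7, 6, 5, 4, 3, 2, 10, 7, 6, 5, 4, 3, 2, 10, 7, 6, 5, 4, 3, 2, 10, 7, 6, 5, 4, 3, 2, 10, 7, 6, 5, 4, 3, 2] 1) 96847 781 = true := by decide +kernel

theorem hm66_364 : Fn.fixRangeK TT (wpow [0, 10, 7, 6, 5, 4, 3, 2, 10, 7, 6, 5, 4, 3, 2, 10, 7, 6, 5, 4, 3, 2, 10, 7, 6, 5, 4, 3, 2, 10, 7, 6, 5, 4, 3, 2, 10, 7, 6, 5, 4, 3, 2, 10, 7, 6, 5, 4, 3, 2, 10, 7, 6, 5, 4, 3, 2, 10, 7, 6, 5, 4, 3, 2] 1) 21871 781 = true := by decide +kernel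

theorem hm68_97 : Fn.fixRangeK TT (wpow [12] 17) 18718 2941 = true := by decide +kernel

theorem hm76_6 : Fn.fixRangeK TT (wpow [7] 2) 131936 25000 = true := by decide +kernel

theorem horbi1_2_2 : Fn.allRangeK (Fn.invP TT [4] 1 275265) 100001 50000 = true := by decide +kernel

theorem hperm4_17 : permPartG 18360536419842404880 TT 4 tN 278528 16384 = true := by decide +kernel

theorem hperm10_5 : permPartG 18360536419842404880 TT 10 tN 81920 16384 = true := by decide +kernel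

end Cfsg.Agent.Lib.Helper12.TCG.Fi24x306936
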