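import Cfsg.Agent.Lib.Helper12.TCG.Fi24x306936.TabT
import Cfsg.Agent.Lib.Helper12.TCG.Fi24x306936.Tab
import Cfsg.Agent.Lib.Helper12.TC.Fn.Ranges2

/-! relator checks for Fi24x306936, part 68 (generated, helper12) -/

set_option autoImplicit false
set_option maxRecDepth 100000
set_option Elab.async false

namespace Cfsg.Agent.Lib.Helper12.TCG.Fi24x306936

open Cfsg.Agent.Lib.Helper12.TC Cfsg.Agent.Lib.Helper12.TCG

theorem hm0_32 : Fn.fixRangeK TT (wpow [0, 1] 3) 31947 8333 = true := by decide +kernel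

theorem hm4_20 : Fn.fixRangeK TT (wpow [1, 3] 2) 44436 12500 = true := by decide +kernel

theorem hm5_20 : Fn.fixRangeK TT (wpow [2, 3] 3) 131943 8333 = true := by decide +kernel

theorem hm8_24 : Fn.fixRangeK TT (wpow [2, 4] 2) 0 6936 = true := by decide +kernel

theorem hm10_20 : Fn.fixRangeK TT (wpow [0, 5] 2) 44436 12500 = true := by decide +kernel

theorem hm15_20 : Fn.fixRangeK TT (wpow [0, 6] 2) 44436 12500 = true := by decide +kernel

theorem hm19_20 : Fn.fixRangeK TT (wpow [4, 6] 2) 44436 12500 = true := by decide +kernel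

theorem hm20_8 : Fn.fixRangeK TT (wpow [5, 6] 3) 231939 8333 = true := by decide +kernel

theorem hm24_20 : Fn.fixRangeK TT (wpow [3, 7] 2) 44436 12500 = true := by decide +kernel

theorem hm29_20 : Fn.fixRangeK TT (wpow [1, 8] 2) 44436 12500 = true := by decide +kernel

theorem hm33_20 : Fn.fixRangeK TT (wpow [5, 8] 2) 44436 12500 = true := by decide +kernel

theorem hm35_32 : Fn.fixRangeK TT (wpow [7, 8] 3) 31947 8333 = true := by decide +kernel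

theorem hm38_20 : Fn.fixRangeK TT (wpow [2, 9] 2) 44436 12500 = true := by decide +kernel

theorem hm42_20 : Fn.fixRangeK TT (wpow [6, 9] 2) 44436 12500 = true := by decide +kernel

theorem hm46_24 : Fn.fixRangeK TT (wpow [1, 10] 2) 0 6936 = true := by decide +kernel

theorem hm47_20 : Fn.fixRangeK TT (wpow [2, 10] 2) 44436 12500 = true := by decide +kernel

theorem hm52_20 : Fn.fixRangeK TT (wpow [7, 10] 2) 44436 12500 = true := by decide +kernel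

theorem hm56_20 : Fn.fixRangeK TT (wpow [1, 11] 2) 44436 12500 = true := by decide +kernel

theorem hm60_20 : Fn.fixRangeK TT (wpow [5, 11] 2) 44436 12500 = true := by decide +kernel

theorem hm64_20 : Fn.fixRangeK TT (wpow [9, 11] 2) 44436 12500 = true := by decide +kernel

theorem hm65_20 : Fn.fixRangeK TT (wpow [10, 11] 3) 131943 8333 = true := by decide +kernel

theorem hm66_36 : Fn.fixRangeK TT (wpow [0, 10, 7, 6, 5, 4, 3, 2, 10, 7, 6, 5, 4, 3, 2, 10, 7, 6, 5, 4, 3, 2, 10, 7, 6, 5, 4, 3, 2, 10, 7, 6, 5, 4, 3, 2, 10, 7, 6, 5, 4, 3, 2, 10, 7, 6, 5, 4, 3, 2, 10, 7, 6, 5, 4, 3, 2, 10, 7, 6, 5, 4, 3, 2] 1) 278039 781 = true := by decide +kernel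

theorem hm66_78 : Fn.fixRangeK TT (wpow [0, 10, 7, 6, 5, 4, 3, 2, 10, 7, 6, 5, 4, 3, 2, 10, 7, 6, 5, 4, 3, 2, 10, 7, 6, 5, 4, 3, 2, 10, 7, 6, 5, 4, 3, 2, 10, 7, 6, 5, 4, 3, 2, 10, 7, 6, 5, 4, 3, 2, 10, 7, 6, 5, 4, 3, 2, 10, 7, 6, 5, 4, 3, 2] 1) 245237 781 = true := by decide +kernel

theorem hm66_174 : Fn.fixRangeK TT (wpow [0, 10, 7, 6, 5, 4, 3, 2, 10, 7, 6, 5, 4, 3, 2, 10, 7, 6, 5, 4, 3, 2, 10, 7, 6, 5, 4, 3, 2, 10, 7, 6, 5, 4, 3, 2, 10, 7, 6, 5, 4, 3, 2, 10, 7, 6, 5, 4, 3, 2, 10, 7, 6, 5, 4, 3, 2, 10, 7, 6, 5, 4, 3, 2] 1) 170261 781 = true := by decide +kernel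

theorem hm66_270 : Fn.fixRangeK TT (wpow [0, 10, 7, 6, 5, 4, 3, 2, 10, 7, 6, 5, 4, 3, 2, 10, 7, 6, 5, 4, 3, 2, 10, 7, 6, 5, 4, 3, 2, 10, 7, 6, 5, 4, 3, 2, 10, 7, 6, 5, 4, 3, 2, 10, 7, 6, 5, 4, 3, 2, 10, 7, 6, 5, 4, 3, 2, 10, 7, 6, 5, 4, 3, 2] 1) 95285 781 = true := by decide +kernel

theorem hm66_366 : Fn.fixRangeK TT (wpow [0, 10, 7, 6, 5, 4, 3, 2, 10, 7, 6, 5, 4, 3, 2, 10, 7, 6, 5, 4, 3, 2, 10, 7, 6, 5, 4, 3, 2, 10, 7, 6, 5, 4, 3, 2, 10, 7, 6, 5, 4, 3, 2, 10, 7, 6, 5, 4, 3, 2, 10, 7, 6, 5, 4, 3, 2, 10, 7, 6, 5, 4, 3, 2] 1) 20309 781 = true := by decide +kernel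

theorem hm68_99 : Fn.fixRangeK TT (wpow [12] 17) 12836 2941 = true := by decide +kernel

theorem hm76_8 : Fn.fixRangeK TT (wpow [7] 2) 81936 25000 = true := by decide +kernel

theorem horbi1_2_4 : Fn.allRangeK (Fn.invP TT [4] 1 275265) 200001 50000 = true := by decide +kernel

theorem hperm5_1 : permPartG 18360536419842404880 TT 5 tN 16384 16384 = true := by decide +kernel

theorem hperm10_7 : permPartG 18360536419842404880 TT 10 tN 114688 16384 = true := by decide +kernel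

end Cfsg.Agent.Lib.Helper12.TCG.Fi24x306936
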