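import Cfsg.Agent.Lib.Helper12.TCG.Fi24x306936.TabT
import Cfsg.Agent.Lib.Helper12.TCG.Fi24x306936.Tab
import Cfsg.Agent.Lib.Helper12.TC.Fn.Ranges2

/-! relator checks for Fi24x306936, part 69 (generated, helper12) -/

set_option autoImplicit false
set_option maxRecDepth 100000
set_option Elab.async false

namespace Cfsg.Agent.Lib.Helper12.TCG.Fi24x306936

open Cfsg.Agent.Lib.Helper12.TC Cfsg.Agent.Lib.Helper12.TCG

theorem hm0_33 : Fn.fixRangeK TT (wpow [0, 1] 3) 23614 8333 = true := by decide +kernel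

theorem hm4_21 : Fn.fixRangeK TT (wpow [1, 3] 2) 31936 12500 = true := by decide +kernel

theorem hm5_21 : Fn.fixRangeK TT (wpow [2, 3] 3) 123610 8333 = true := by decide +kernel

theorem hm10_21 : Fn.fixRangeK TT (wpow [0, 5] 2) 31936 12500 = true := by decide +kernel

theorem hm10_24 : Fn.fixRangeK TT (wpow [0, 5] 2) 0 6936 = true := by decide +kernel

theorem hm15_21 : Fn.fixRangeK TT (wpow [0, 6] 2) 31936 12500 = true := by decide +kernel

theorem hm19_21 : Fn.fixRangeK TT (wpow [4, 6] 2) 31936 12500 = true := by decide +kernel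

theorem hm20_9 : Fn.fixRangeK TT (wpow [5, 6] 3) 223606 8333 = true := by decide +kernel

theorem hm24_21 : Fn.fixRangeK TT (wpow [3, 7] 2) 31936 12500 = true := by decide +kernel

theorem hm29_21 : Fn.fixRangeK TT (wpow [1, 8] 2) 31936 12500 = true := by decide +kernel

theorem hm33_21 : Fn.fixRangeK TT (wpow [5, 8] 2) 31936 12500 = true := by decide +kernel

theorem hm35_33 : Fn.fixRangeK TT (wpow [7, 8] 3) 23614 8333 = true := by decide +kernel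

theorem hm38_21 : Fn.fixRangeK TT (wpow [2, 9] 2) 31936 12500 = true := by decide +kernel

theorem hm42_21 : Fn.fixRangeK TT (wpow [6, 9] 2) 31936 12500 = true := by decide +kernel

theorem hm47_21 : Fn.fixRangeK TT (wpow [2, 10] 2) 31936 12500 = true := by decide +kernel

theorem hm47_24 : Fn.fixRangeK TT (wpow [2, 10] 2) 0 6936 = true := by decide +kernel

theorem hm52_21 : Fn.fixRangeK TT (wpow [7, 10] 2) 31936 12500 = true := by decide +kernel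

theorem hm56_21 : Fn.fixRangeK TT (wpow [1, 11] 2) 31936 12500 = true := by decide +kernel

theorem hm60_21 : Fn.fixRangeK TT (wpow [5, 11] 2) 31936 12500 = true := by decide +kernel

theorem hm64_21 : Fn.fixRangeK TT (wpow [9, 11] 2) 31936 12500 = true := by decide +kernel

theorem hm65_21 : Fn.fixRangeK TT (wpow [10, 11] 3) 123610 8333 = true := by decide +kernel

theorem hm66_37 : Fn.fixRangeK TT (wpow [0, 10, 7, 6, 5, 4, 3, 2, 10, 7, 6, 5, 4, 3, 2, 10, 7, 6, 5, 4, 3, 2, 10, 7, 6, 5, 4, 3, 2, 10, 7, 6, 5, 4, 3, 2, 10, 7, 6, 5, 4, 3, 2, 10, 7, 6, 5, 4, 3, 2, 10, 7, 6, 5, 4, 3, 2, 10, 7, 6, 5, 4, 3, 2] 1) 277258 781 = true := by decide +kernel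

theorem hm66_79 : Fn.fixRangeK TT (wpow [0, 10, 7, 6, 5, 4, 3, 2, 10, 7, 6, 5, 4, 3, 2, 10, 7, 6, 5, 4, 3, 2, 10, 7, 6, 5, 4, 3, 2, 10, 7, 6, 5, 4, 3, 2, 10, 7, 6, 5, 4, 3, 2, 10, 7, 6, 5, 4, 3, 2, 10, 7, 6, 5, 4, 3, 2, 10, 7, 6, 5, 4, 3, 2] 1) 244456 781 = true := by decide +kernel

theorem hm66_175 : Fn.fixRangeK TT (wpow [0, 10, 7, 6, 5, 4, 3, 2, 10, 7, 6, 5, 4, 3, 2, 10, 7, 6, 5, 4, 3, 2, 10, 7, 6, 5, 4, 3, 2, 10, 7, 6, 5, 4, 3, 2, 10, 7, 6, 5, 4, 3, 2, 10, 7, 6, 5, 4, 3, 2, 10, 7, 6, 5, 4, 3, 2, 10, 7, 6, 5, 4, 3, 2] 1) 169480 781 = true := by decide +kernel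

theorem hm66_271 : Fn.fixRangeK TT (wpow [0, 10, 7, 6, 5, 4, 3, 2, 10, 7, 6, 5, 4, 3, 2, 10, 7, 6, 5, 4, 3, 2, 10, 7, 6, 5, 4, 3, 2, 10, 7, 6, 5, 4, 3, 2, 10, 7, 6, 5, 4, 3, 2, 10, 7, 6, 5, 4, 3, 2, 10, 7, 6, 5, 4, 3, 2, 10, 7, 6, 5, 4, 3, 2] 1) 94504 781 = true := by decide +kernel

theorem hm66_367 : Fn.fixRangeK TT (wpow [0, 10, 7, 6, 5, 4, 3, 2, 10, 7, 6, 5, 4, 3, 2, 10, 7, 6, 5, 4, 3, 2, 10, 7, 6, 5, 4, 3, 2, 10, 7, 6, 5, 4, 3, 2, 10, 7, 6, 5, 4, 3, 2, 10, 7, 6, 5, 4, 3, 2, 10, 7, 6, 5, 4, 3, 2, 10, 7, 6, 5, 4, 3, 2] 1) 19528 781 = true := by decide +kernel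

theorem hm68_100 : Fn.fixRangeK TT (wpow [12] 17) 9895 2941 = true := by decide +kernel

theorem hm76_9 : Fn.fixRangeK TT (wpow [7] 2) 56936 25000 = true := by decide +kernel

theorem horbi1_3_0 : Fn.allRangeK (Fn.invP TT [5] 1 275265) 1 50000 = true := by decide +kernel

theorem hperm5_2 : permPartG 18360536419842404880 TT 5 tN 32768 16384 = true := by decide +kernel

theorem hperm10_8 : permPartG 18360536419842404880 TT 10 tN 131072 16384 = true := by decide +kernel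

end Cfsg.Agent.Lib.Helper12.TCG.Fi24x306936
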