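import Cfsg.Agent.Lib.Helper12.TCG.Fi24x306936.TabT
import Cfsg.Agent.Lib.Helper12.TCG.Fi24x306936.Tab
import Cfsg.Agent.Lib.Helper12.TC.Fn.Ranges2

/-! relator checks for Fi24x306936, part 70 (generated, helper12) -/

set_option autoImplicit false
set_option maxRecDepth 100000
set_option Elab.async false

namespace Cfsg.Agent.Lib.Helper12.TCG.Fi24x306936

open Cfsg.Agent.Lib.Helper12.TC Cfsg.Agent.Lib.Helper12.TCG

theorem hm0_34 : Fn.fixRangeK TT (wpow [0, 1] 3) 15281 8333 = true := by decide +kernel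

theorem hm4_22 : Fn.fixRangeK TT (wpow [1, 3] 2) 19436 12500 = true := by decide +kernel

theorem hm5_22 : Fn.fixRangeK TT (wpow [2, 3] 3) 115277 8333 = true := by decide +kernel

theorem hm10_22 : Fn.fixRangeK TT (wpow [0, 5] 2) 19436 12500 = true := by decide +kernel

theorem hm11_24 : Fn.fixRangeK TT (wpow [1, 5] 2) 0 6936 = true := by decide +kernel

theorem hm15_22 : Fn.fixRangeK TT (wpow [0, 6] 2) 19436 12500 = true := by decide +kernel

theorem hm19_22 : Fn.fixRangeK TT (wpow [4, 6] 2) 19436 12500 = true := by decide +kernel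

theorem hm20_10 : Fn.fixRangeK TT (wpow [5, 6] 3) 215273 8333 = true := by decide +kernel

theorem hm24_22 : Fn.fixRangeK TT (wpow [3, 7] 2) 19436 12500 = true := by decide +kernel

theorem hm29_22 : Fn.fixRangeK TT (wpow [1, 8] 2) 19436 12500 = true := by decide +kernel

theorem hm33_22 : Fn.fixRangeK TT (wpow [5, 8] 2) 19436 12500 = true := by decide +kernel

theorem hm35_34 : Fn.fixRangeK TT (wpow [7, 8] 3) 15281 8333 = true := by decide +kernel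

theorem hm38_22 : Fn.fixRangeK TT (wpow [2, 9] 2) 19436 12500 = true := by decide +kernel

theorem hm42_22 : Fn.fixRangeK TT (wpow [6, 9] 2) 19436 12500 = true := by decide +kernel

theorem hm47_22 : Fn.fixRangeK TT (wpow [2, 10] 2) 19436 12500 = true := by decide +kernel

theorem hm48_24 : Fn.fixRangeK TT (wpow [3, 10] 2) 0 6936 = true := by decide +kernel

theorem hm52_22 : Fn.fixRangeK TT (wpow [7, 10] 2) 19436 12500 = true := by decide +kernel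

theorem hm56_22 : Fn.fixRangeK TT (wpow [1, 11] 2) 19436 12500 = true := by decide +kernel

theorem hm60_22 : Fn.fixRangeK TT (wpow [5, 11] 2) 19436 12500 = true := by decide +kernel

theorem hm64_22 : Fn.fixRangeK TT (wpow [9, 11] 2) 19436 12500 = true := by decide +kernel

theorem hm65_22 : Fn.fixRangeK TT (wpow [10, 11] 3) 115277 8333 = true := by decide +kernel

theorem hm66_38 : Fn.fixRangeK TT (wpow [0, 10, 7, 6, 5, 4, 3, 2, 10, 7, 6, 5, 4, 3, 2, 10, 7, 6, 5, 4, 3, 2, 10, 7, 6, 5, 4, 3, 2, 10, 7, 6, 5, 4, 3, 2, 10, 7, 6, 5, 4, 3, 2, 10, 7, 6, 5, 4, 3, 2, 10, 7, 6, 5, 4, 3, 2, 10, 7, 6, 5, 4, 3, 2] 1) 276477 781 = true := by decide +kernel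

theorem hm66_80 : Fn.fixRangeK TT (wpow [0, 10, 7, 6, 5, 4, 3, 2, 10, 7, 6, 5, 4, 3, 2, 10, 7, 6, 5, 4, 3, 2, 10, 7, 6, 5, 4, 3, 2, 10, 7, 6, 5, 4, 3, 2, 10, 7, 6, 5, 4, 3, 2, 10, 7, 6, 5, 4, 3, 2, 10, 7, 6, 5, 4, 3, 2, 10, 7, 6, 5, 4, 3, 2] 1) 243675 781 = true := by decide +kernel

theorem hm66_176 : Fn.fixRangeK TT (wpow [0, 10, 7, 6, 5, 4, 3, 2, 10, 7, 6, 5, 4, 3, 2, 10, 7, 6, 5, 4, 3, 2, 10, 7, 6, 5, 4, 3, 2, 10, 7, 6, 5, 4, 3, 2, 10, 7, 6, 5, 4, 3, 2, 10, 7, 6, 5, 4, 3, 2, 10, 7, 6, 5, 4, 3, 2, 10, 7, 6, 5, 4, 3, 2] 1) 168699 781 = true := by decide +kernel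

theorem hm66_272 : Fn.fixRangeK TT (wpow [0, 10, 7, 6, 5, 4, 3, 2, 10, 7, 6, 5, 4, 3, 2, 10, 7, 6, 5, 4, 3, 2, 10, 7, 6, 5, 4, 3, 2, 10, 7, 6, 5, 4, 3, 2, 10, 7, 6, 5, 4, 3, 2, 10, 7, 6, 5, 4, 3, 2, 10, 7, 6, 5, 4, 3, 2, 10, 7, 6, 5, 4, 3, 2] 1) 93723 781 = true := by decide +kernel

theorem hm66_368 : Fn.fixRangeK TT (wpow [0, 10, 7, 6, 5, 4, 3, 2, 10, 7, 6, 5, 4, 3, 2, 10, 7, 6, 5, 4, 3, 2, 10, 7, 6, 5, 4, 3, 2, 10, 7, 6, 5, 4, 3, 2, 10, 7, 6, 5, 4, 3, 2, 10, 7, 6, 5, 4, 3, 2, 10, 7, 6, 5, 4, 3, 2, 10, 7, 6, 5, 4, 3, 2] 1) 18747 781 = true := by decide +kernel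

theorem hm68_101 : Fn.fixRangeK TT (wpow [12] 17) 6954 2941 = true := by decide +kernel

theorem hm76_10 : Fn.fixRangeK TT (wpow [7] 2) 31936 25000 = true := by decide +kernel

theorem horbi1_3_1 : Fn.allRangeK (Fn.invP TT [5] 1 275265) 50001 50000 = true := by decide +kernel

theorem hperm5_3 : permPartG 18360536419842404880 TT 5 tN 49152 16384 = true := by decide +kernel

theorem hperm10_9 : permPartG 18360536419842404880 TT 10 tN 147456 16384 = true := by decide +kernel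

end Cfsg.Agent.Lib.Helper12.TCG.Fi24x306936
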