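import Cfsg.Agent.Lib.Helper12.TCG.Fi24x306936.TabT
import Cfsg.Agent.Lib.Helper12.TCG.Fi24x306936.Tab
import Cfsg.Agent.Lib.Helper12.TC.Fn.Ranges2

/-! relator checks for Fi24x306936, part 72 (generated, helper12) -/

set_option autoImplicit false
set_option maxRecDepth 100000
set_option Elab.async false

namespace Cfsg.Agent.Lib.Helper12.TCG.Fi24x306936

open Cfsg.Agent.Lib.Helper12.TC Cfsg.Agent.Lib.Helper12.TCG

theorem hm2_0 : Fn.fixRangeK TT (wpow [1, 2] 3) 298603 8333 = true := by decide +kernel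

theorem hm5_24 : Fn.fixRangeK TT (wpow [2, 3] 3) 98611 8333 = true := by decide +kernel

theorem hm6_0 : Fn.fixRangeK TT (wpow [0, 4] 2) 294436 12500 = true := by decide +kernel

theorem hm11_0 : Fn.fixRangeK TT (wpow [1, 5] 2) 294436 12500 = true := by decide +kernel

theorem hm13_24 : Fn.fixRangeK TT (wpow [3, 5] 2) 0 6936 = true := by decide +kernel

theorem hm16_0 : Fn.fixRangeK TT (wpow [1, 6] 2) 294436 12500 = true := by decide +kernel

theorem hm20_12 : Fn.fixRangeK TT (wpow [5, 6] 3) 198607 8333 = true := by decide +kernel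

theorem hm21_0 : Fn.fixRangeK TT (wpow [0, 7] 2) 294436 12500 = true := by decide +kernel

theorem hm25_0 : Fn.fixRangeK TT (wpow [4, 7] 2) 294436 12500 = true := by decide +kernel

theorem hm30_0 : Fn.fixRangeK TT (wpow [2, 8] 2) 294436 12500 = true := by decide +kernel

theorem hm34_0 : Fn.fixRangeK TT (wpow [6, 8] 2) 294436 12500 = true := by decide +kernel

theorem hm39_0 : Fn.fixRangeK TT (wpow [3, 9] 2) 294436 12500 = true := by decide +kernel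

theorem hm43_0 : Fn.fixRangeK TT (wpow [7, 9] 2) 294436 12500 = true := by decide +kernel

theorem hm44_0 : Fn.fixRangeK TT (wpow [8, 9] 3) 298603 8333 = true := by decide +kernel

theorem hm48_0 : Fn.fixRangeK TT (wpow [3, 10] 2) 294436 12500 = true := by decide +kernel

theorem hm51_24 : Fn.fixRangeK TT (wpow [6, 10] 2) 0 6936 = true := by decide +kernel

theorem hm53_0 : Fn.fixRangeK TT (wpow [8, 10] 2) 294436 12500 = true := by decide +kernel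

theorem hm57_0 : Fn.fixRangeK TT (wpow [2, 11] 2) 294436 12500 = true := by decide +kernel

theorem hm61_0 : Fn.fixRangeK TT (wpow [6, 11] 2) 294436 12500 = true := by decide +kernel

theorem hm65_24 : Fn.fixRangeK TT (wpow [10, 11] 3) 98611 8333 = true := by decide +kernel

theorem hm66_40 : Fn.fixRangeK TT (wpow [0, 10, 7, 6, 5, 4, 3, 2, 10, 7, 6, 5, 4, 3, 2, 10, 7, 6, 5, 4, 3, 2, 10, 7, 6, 5, 4, 3, 2, 10, 7, 6, 5, 4, 3, 2, 10, 7, 6, 5, 4, 3, 2, 10, 7, 6, 5, 4, 3, 2, 10, 7, 6, 5, 4, 3, 2, 10, 7, 6, 5, 4, 3, 2] 1) 274915 781 = true := by decide +kernel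

theorem hm66_82 : Fn.fixRangeK TT (wpow [0, 10, 7, 6, 5, 4, 3, 2, 10, 7, 6, 5, 4, 3, 2, 10, 7, 6, 5, 4, 3, 2, 10, 7, 6, 5, 4, 3, 2, 10, 7, 6, 5, 4, 3, 2, 10, 7, 6, 5, 4, 3, 2, 10, 7, 6, 5, 4, 3, 2, 10, 7, 6, 5, 4, 3, 2, 10, 7, 6, 5, 4, 3, 2] 1) 242113 781 = true := by decide +kernel

theorem hm66_178 : Fn.fixRangeK TT (wpow [0, 10, 7, 6, 5, 4, 3, 2, 10, 7, 6, 5, 4, 3, 2, 10, 7, 6, 5, 4, 3, 2, 10, 7, 6, 5, 4, 3, 2, 10, 7, 6, 5, 4, 3, 2, 10, 7, 6, 5, 4, 3, 2, 10, 7, 6, 5, 4, 3, 2, 10, 7, 6, 5, 4, 3, 2, 10, 7, 6, 5, 4, 3, 2] 1) 167137 781 = true := by decide +kernel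

theorem hm66_274 : Fn.fixRangeK TT (wpow [0, 10, 7, 6, 5, 4, 3, 2, 10, 7, 6, 5, 4, 3, 2, 10, 7, 6, 5, 4, 3, 2, 10, 7, 6, 5, 4, 3, 2, 10, 7, 6, 5, 4, 3, 2, 10, 7, 6, 5, 4, 3, 2, 10, 7, 6, 5, 4, 3, 2, 10, 7, 6, 5, 4, 3, 2, 10, 7, 6, 5, 4, 3, 2] 1) 92161 781 = true := by decide +kernel

theorem hm66_370 : Fn.fixRangeK TT (wpow [0, 10, 7, 6, 5, 4, 3, 2, 10, 7, 6, 5, 4, 3, 2, 10, 7, 6, 5, 4, 3, 2, 10, 7, 6, 5, 4, 3, 2, 10, 7, 6, 5, 4, 3, 2, 10, 7, 6, 5, 4, 3, 2, 10, 7, 6, 5, 4, 3, 2, 10, 7, 6, 5, 4, 3, 2, 10, 7, 6, 5, 4, 3, 2] 1) 17185 781 = true := by decide +kernel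

theorem hm68_103 : Fn.fixRangeK TT (wpow [12] 17) 1072 2941 = true := by decide +kernel

theorem hm69_0 : Fn.fixRangeK TT (wpow [0] 2) 281936 25000 = true := by decide +kernel

theorem hm77_0 : Fn.fixRangeK TT (wpow [8] 2) 281936 25000 = true := by decide +kernel

theorem horbi1_3_3 : Fn.allRangeK (Fn.invP TT [5] 1 275265) 150001 50000 = true := by decide +kernel

theorem hperm5_5 : permPartG 18360536419842404880 TT 5 tN 81920 16384 = true := by decide +kernel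

theorem hperm10_11 : permPartG 18360536419842404880 TT 10 tN 180224 16384 = true := by decide +kernel

end Cfsg.Agent.Lib.Helper12.TCG.Fi24x306936
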