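import Cfsg.Agent.Lib.Helper12.TCG.Fi24x306936.TabT
import Cfsg.Agent.Lib.Helper12.TCG.Fi24x306936.Tab
import Cfsg.Agent.Lib.Helper12.TC.Fn.Ranges2

/-! relator checks for Fi24x306936, part 73 (generated, helper12) -/

set_option autoImplicit false
set_option maxRecDepth 100000
set_option Elab.async false

namespace Cfsg.Agent.Lib.Helper12.TCG.Fi24x306936

open Cfsg.Agent.Lib.Helper12.TC Cfsg.Agent.Lib.Helper12.TCG

theorem horbc1_0 : Fn.allRangeK (Fn.connP TT sw 1) 2 21941 = true := by decide +kernel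

theorem hm2_1 : Fn.fixRangeK TT (wpow [1, 2] 3) 290270 8333 = true := by decide +kernel

theorem hm5_25 : Fn.fixRangeK TT (wpow [2, 3] 3) 90278 8333 = true := by decide +kernel

theorem hm6_1 : Fn.fixRangeK TT (wpow [0, 4] 2) 281936 12500 = true := by decide +kernel

theorem hm11_1 : Fn.fixRangeK TT (wpow [1, 5] 2) 281936 12500 = true := by decide +kernel

theorem hm15_24 : Fn.fixRangeK TT (wpow [0, 6] 2) 0 6936 = true := by decide +kernel

theorem hm16_1 : Fn.fixRangeK TT (wpow [1, 6] 2) 281936 12500 = true := by decide +kernel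

theorem hm20_13 : Fn.fixRangeK TT (wpow [5, 6] 3) 190274 8333 = true := by decide +kernel

theorem hm21_1 : Fn.fixRangeK TT (wpow [0, 7] 2) 281936 12500 = true := by decide +kernel

theorem hm25_1 : Fn.fixRangeK TT (wpow [4, 7] 2) 281936 12500 = true := by decide +kernel

theorem hm30_1 : Fn.fixRangeK TT (wpow [2, 8] 2) 281936 12500 = true := by decide +kernel

theorem hm34_1 : Fn.fixRangeK TT (wpow [6, 8] 2) 281936 12500 = true := by decide +kernel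

theorem hm39_1 : Fn.fixRangeK TT (wpow [3, 9] 2) 281936 12500 = true := by decide +kernel

theorem hm43_1 : Fn.fixRangeK TT (wpow [7, 9] 2) 281936 12500 = true := by decide +kernel

theorem hm44_1 : Fn.fixRangeK TT (wpow [8, 9] 3) 290270 8333 = true := by decide +kernel

theorem hm48_1 : Fn.fixRangeK TT (wpow [3, 10] 2) 281936 12500 = true := by decide +kernel

theorem hm52_24 : Fn.fixRangeK TT (wpow [7, 10] 2) 0 6936 = true := by decide +kernel

theorem hm53_1 : Fn.fixRangeK TT (wpow [8, 10] 2) 281936 12500 = true := by decide +kernel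

theorem hm57_1 : Fn.fixRangeK TT (wpow [2, 11] 2) 281936 12500 = true := by decide +kernel

theorem hm61_1 : Fn.fixRangeK TT (wpow [6, 11] 2) 281936 12500 = true := by decide +kernel

theorem hm65_25 : Fn.fixRangeK TT (wpow [10, 11] 3) 90278 8333 = true := by decide +kernel

theorem hm66_41 : Fn.fixRangeK TT (wpow [0, 10, 7, 6, 5, 4, 3, 2, 10, 7, 6, 5, 4, 3, 2, 10, 7, 6, 5, 4, 3, 2, 10, 7, 6, 5, 4, 3, 2, 10, 7, 6, 5, 4, 3, 2, 10, 7, 6, 5, 4, 3, 2, 10, 7, 6, 5, 4, 3, 2, 10, 7, 6, 5, 4, 3, 2, 10, 7, 6, 5, 4, 3, 2] 1) 274134 781 = true := by decide +kernel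

theorem hm66_83 : Fn.fixRangeK TT (wpow [0, 10, 7, 6, 5, 4, 3, 2, 10, 7, 6, 5, 4, 3, 2, 10, 7, 6, 5, 4, 3, 2, 10, 7, 6, 5, 4, 3, 2, 10, 7, 6, 5, 4, 3, 2, 10, 7, 6, 5, 4, 3, 2, 10, 7, 6, 5, 4, 3, 2, 10, 7, 6, 5, 4, 3, 2, 10, 7, 6, 5, 4, 3, 2] 1) 241332 781 = true := by decide +kernel

theorem hm66_179 : Fn.fixRangeK TT (wpow [0, 10, 7, 6, 5, 4, 3, 2, 10, 7, 6, 5, 4, 3, 2, 10, 7, 6, 5, 4, 3, 2, 10, 7, 6, 5, 4, 3, 2, 10, 7, 6, 5, 4, 3, 2, 10, 7, 6, 5, 4, 3, 2, 10, 7, 6, 5, 4, 3, 2, 10, 7, 6, 5, 4, 3, 2, 10, 7, 6, 5, 4, 3, 2] 1) 166356 781 = true := by decide +kernel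

theorem hm66_275 : Fn.fixRangeK TT (wpow [0, 10, 7, 6, 5, 4, 3, 2, 10, 7, 6, 5, 4, 3, 2, 10, 7, 6, 5, 4, 3, 2, 10, 7, 6, 5, 4, 3, 2, 10, 7, 6, 5, 4, 3, 2, 10, 7, 6, 5, 4, 3, 2, 10, 7, 6, 5, 4, 3, 2, 10, 7, 6, 5, 4, 3, 2, 10, 7, 6, 5, 4, 3, 2] 1) 91380 781 = true := by decide +kernel

theorem hm66_371 : Fn.fixRangeK TT (wpow [0, 10, 7, 6, 5, 4, 3, 2, 10, 7, 6, 5, 4, 3, 2, 10, 7, 6, 5, 4, 3, 2, 10, 7, 6, 5, 4, 3, 2, 10, 7, 6, 5, 4, 3, 2, 10, 7, 6, 5, 4, 3, 2, 10, 7, 6, 5, 4, 3, 2, 10, 7, 6, 5, 4, 3, 2, 10, 7, 6, 5, 4, 3, 2] 1) 16404 781 = true := by decide +kernel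

theorem hm69_1 : Fn.fixRangeK TT (wpow [0] 2) 256936 25000 = true := by decide +kernel

theorem hm77_1 : Fn.fixRangeK TT (wpow [8] 2) 256936 25000 = true := by decide +kernel

theorem horbi1_3_4 : Fn.allRangeK (Fn.invP TT [5] 1 275265) 200001 50000 = true := by decide +kernel

theorem hperm5_6 : permPartG 18360536419842404880 TT 5 tN 98304 16384 = true := by decide +kernel

theorem hperm10_12 : permPartG 18360536419842404880 TT 10 tN 196608 16384 = true := by decide +kernel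

end Cfsg.Agent.Lib.Helper12.TCG.Fi24x306936
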