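import Cfsg.Agent.Lib.Helper12.TCG.Fi24x306936.TabT
import Cfsg.Agent.Lib.Helper12.TCG.Fi24x306936.Tab
import Cfsg.Agent.Lib.Helper12.TC.Fn.Ranges2

/-! relator checks for Fi24x306936, part 74 (generated, helper12) -/

set_option autoImplicit false
set_option maxRecDepth 100000
set_option Elab.async false

namespace Cfsg.Agent.Lib.Helper12.TCG.Fi24x306936

open Cfsg.Agent.Lib.Helper12.TC Cfsg.Agent.Lib.Helper12.TCG

theorem hm2_2 : Fn.fixRangeK TT (wpow [1, 2] 3) 281937 8333 = true := by decide +kernel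

theorem hm5_26 : Fn.fixRangeK TT (wpow [2, 3] 3) 81945 8333 = true := by decide +kernel

theorem hm6_2 : Fn.fixRangeK TT (wpow [0, 4] 2) 269436 12500 = true := by decide +kernel

theorem hm11_2 : Fn.fixRangeK TT (wpow [1, 5] 2) 269436 12500 = true := by decide +kernel

theorem hm16_2 : Fn.fixRangeK TT (wpow [1, 6] 2) 269436 12500 = true := by decide +kernel

theorem hm16_24 : Fn.fixRangeK TT (wpow [1, 6] 2) 0 6936 = true := by decide +kernel

theorem hm20_14 : Fn.fixRangeK TT (wpow [5, 6] 3) 181941 8333 = true := by decide +kernel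

theorem hm21_2 : Fn.fixRangeK TT (wpow [0, 7] 2) 269436 12500 = true := by decide +kernel

theorem hm25_2 : Fn.fixRangeK TT (wpow [4, 7] 2) 269436 12500 = true := by decide +kernel

theorem hm30_2 : Fn.fixRangeK TT (wpow [2, 8] 2) 269436 12500 = true := by decide +kernel

theorem hm34_2 : Fn.fixRangeK TT (wpow [6, 8] 2) 269436 12500 = true := by decide +kernel

theorem hm39_2 : Fn.fixRangeK TT (wpow [3, 9] 2) 269436 12500 = true := by decide +kernel

theorem hm43_2 : Fn.fixRangeK TT (wpow [7, 9] 2) 269436 12500 = true := by decide +kernel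

theorem hm44_2 : Fn.fixRangeK TT (wpow [8, 9] 3) 281937 8333 = true := by decide +kernel

theorem hm48_2 : Fn.fixRangeK TT (wpow [3, 10] 2) 269436 12500 = true := by decide +kernel

theorem hm53_2 : Fn.fixRangeK TT (wpow [8, 10] 2) 269436 12500 = true := by decide +kernel

theorem hm53_24 : Fn.fixRangeK TT (wpow [8, 10] 2) 0 6936 = true := by decide +kernel

theorem hm57_2 : Fn.fixRangeK TT (wpow [2, 11] 2) 269436 12500 = true := by decide +kernel

theorem hm61_2 : Fn.fixRangeK TT (wpow [6, 11] 2) 269436 12500 = true := by decide +kernel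

theorem hm65_26 : Fn.fixRangeK TT (wpow [10, 11] 3) 81945 8333 = true := by decide +kernel

theorem hm66_84 : Fn.fixRangeK TT (wpow [0, 10, 7, 6, 5, 4, 3, 2, 10, 7, 6, 5, 4, 3, 2, 10, 7, 6, 5, 4, 3, 2, 10, 7, 6, 5, 4, 3, 2, 10, 7, 6, 5, 4, 3, 2, 10, 7, 6, 5, 4, 3, 2, 10, 7, 6, 5, 4, 3, 2, 10, 7, 6, 5, 4, 3, 2, 10, 7, 6, 5, 4, 3, 2] 1) 240551 781 = true := by decide +kernel

theorem hm66_180 : Fn.fixRangeK TT (wpow [0, 10, 7, 6, 5, 4, 3, 2, 10, 7, 6, 5, 4, 3, 2, 10, 7, 6, 5, 4, 3, 2, 10, 7, 6, 5, 4, 3, 2, 10, 7, 6, 5, 4, 3, 2, 10, 7, 6, 5, 4, 3, 2, 10, 7, 6, 5, 4, 3, 2, 10, 7, 6, 5, 4, 3, 2, 10, 7, 6, 5, 4, 3, 2] 1) 165575 781 = true := by decide +kernel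

theorem hm66_276 : Fn.fixRangeK TT (wpow [0, 10, 7, 6, 5, 4, 3, 2, 10, 7, 6, 5, 4, 3, 2, 10, 7, 6, 5, 4, 3, 2, 10, 7, 6, 5, 4, 3, 2, 10, 7, 6, 5, 4, 3, 2, 10, 7, 6, 5, 4, 3, 2, 10, 7, 6, 5, 4, 3, 2, 10, 7, 6, 5, 4, 3, 2, 10, 7, 6, 5, 4, 3, 2] 1) 90599 781 = true := by decide +kernel

theorem hm66_372 : Fn.fixRangeK TT (wpow [0, 10, 7, 6, 5, 4, 3, 2, 10, 7, 6, 5, 4, 3, 2, 10, 7, 6, 5, 4, 3, 2, 10, 7, 6, 5, 4, 3, 2, 10, 7, 6, 5, 4, 3, 2, 10, 7, 6, 5, 4, 3, 2, 10, 7, 6, 5, 4, 3, 2, 10, 7, 6, 5, 4, 3, 2, 10, 7, 6, 5, 4, 3, 2] 1) 15623 781 = true := by decide +kernel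

theorem hm67_0 : Fn.fixRangeK TT (wpow [13, 5, 4, 3, 2, 1, 0, 5, 6, 7, 8, 9, 5, 10, 11] 1) 303603 3333 = true := by decide +kernel

theorem hm67_39 : Fn.fixRangeK TT (wpow [13, 5, 4, 3, 2, 1, 0, 5, 6, 7, 8, 9, 5, 10, 11] 1) 173616 3333 = true := by decide +kernel

theorem hm69_2 : Fn.fixRangeK TT (wpow [0] 2) 231936 25000 = true := by decide +kernel

theorem hm77_2 : Fn.fixRangeK TT (wpow [8] 2) 231936 25000 = true := by decide +kernel

theorem horbi1_4_0 : Fn.allRangeK (Fn.invP TT [6] 1 275265) 1 50000 = true := by decide +kernel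

theorem hperm5_7 : permPartG 18360536419842404880 TT 5 tN 114688 16384 = true := by decide +kernel

theorem hperm10_13 : permPartG 18360536419842404880 TT 10 tN 212992 16384 = true := by decide +kernel

end Cfsg.Agent.Lib.Helper12.TCG.Fi24x306936
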