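import Cfsg.Agent.Lib.Helper12.TCG.Fi24x306936.TabT
import Cfsg.Agent.Lib.Helper12.TCG.Fi24x306936.Tab
import Cfsg.Agent.Lib.Helper12.TC.Fn.Ranges2

/-! relator checks for Fi24x306936, part 76 (generated, helper12) -/

set_option autoImplicit false
set_option maxRecDepth 100000
set_option Elab.async false

namespace Cfsg.Agent.Lib.Helper12.TCG.Fi24x306936

open Cfsg.Agent.Lib.Helper12.TC Cfsg.Agent.Lib.Helper12.TCG

theorem hm2_4 : Fn.fixRangeK TT (wpow [1, 2] 3) 265271 8333 = true := by decide +kernel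

theorem hm5_28 : Fn.fixRangeK TT (wpow [2, 3] 3) 65279 8333 = true := by decide +kernel

theorem hm6_4 : Fn.fixRangeK TT (wpow [0, 4] 2) 244436 12500 = true := by decide +kernel

theorem hm11_4 : Fn.fixRangeK TT (wpow [1, 5] 2) 244436 12500 = true := by decide +kernel

theorem hm16_4 : Fn.fixRangeK TT (wpow [1, 6] 2) 244436 12500 = true := by decide +kernel

theorem hm18_24 : Fn.fixRangeK TT (wpow [3, 6] 2) 0 6936 = true := by decide +kernel

theorem hm20_16 : Fn.fixRangeK TT (wpow [5, 6] 3) 165275 8333 = true := by decide +kernel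

theorem hm21_4 : Fn.fixRangeK TT (wpow [0, 7] 2) 244436 12500 = true := by decide +kernel

theorem hm25_4 : Fn.fixRangeK TT (wpow [4, 7] 2) 244436 12500 = true := by decide +kernel

theorem hm30_4 : Fn.fixRangeK TT (wpow [2, 8] 2) 244436 12500 = true := by decide +kernel

theorem hm34_4 : Fn.fixRangeK TT (wpow [6, 8] 2) 244436 12500 = true := by decide +kernel

theorem hm39_4 : Fn.fixRangeK TT (wpow [3, 9] 2) 244436 12500 = true := by decide +kernel

theorem hm43_4 : Fn.fixRangeK TT (wpow [7, 9] 2) 244436 12500 = true := by decide +kernel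

theorem hm44_4 : Fn.fixRangeK TT (wpow [8, 9] 3) 265271 8333 = true := by decide +kernel

theorem hm48_4 : Fn.fixRangeK TT (wpow [3, 10] 2) 244436 12500 = true := by decide +kernel

theorem hm53_4 : Fn.fixRangeK TT (wpow [8, 10] 2) 244436 12500 = true := by decide +kernel

theorem hm55_24 : Fn.fixRangeK TT (wpow [0, 11] 2) 0 6936 = true := by decide +kernel

theorem hm57_4 : Fn.fixRangeK TT (wpow [2, 11] 2) 244436 12500 = true := by decide +kernel

theorem hm61_4 : Fn.fixRangeK TT (wpow [6, 11] 2) 244436 12500 = true := by decide +kernel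

theorem hm65_28 : Fn.fixRangeK TT (wpow [10, 11] 3) 65279 8333 = true := by decide +kernel

theorem hm66_86 : Fn.fixRangeK TT (wpow [0, 10, 7, 6, 5, 4, 3, 2, 10, 7, 6, 5, 4, 3, 2, 10, 7, 6, 5, 4, 3, 2, 10, 7, 6, 5, 4, 3, 2, 10, 7, 6, 5, 4, 3, 2, 10, 7, 6, 5, 4, 3, 2, 10, 7, 6, 5, 4, 3, 2, 10, 7, 6, 5, 4, 3, 2, 10, 7, 6, 5, 4, 3, 2] 1) 238989 781 = true := by decide +kernel

theorem hm66_182 : Fn.fixRangeK TT (wpow [0, 10, 7, 6, 5, 4, 3, 2, 10, 7, 6, 5, 4, 3, 2, 10, 7, 6, 5, 4, 3, 2, 10, 7, 6, 5, 4, 3, 2, 10, 7, 6, 5, 4, 3, 2, 10, 7, 6, 5, 4, 3, 2, 10, 7, 6, 5, 4, 3, 2, 10, 7, 6, 5, 4, 3, 2, 10, 7, 6, 5, 4, 3, 2] 1) 164013 781 = true := by decide +kernel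

theorem hm66_278 : Fn.fixRangeK TT (wpow [0, 10, 7, 6, 5, 4, 3, 2, 10, 7, 6, 5, 4, 3, 2, 10, 7, 6, 5, 4, 3, 2, 10, 7, 6, 5, 4, 3, 2, 10, 7, 6, 5, 4, 3, 2, 10, 7, 6, 5, 4, 3, 2, 10, 7, 6, 5, 4, 3, 2, 10, 7, 6, 5, 4, 3, 2, 10, 7, 6, 5, 4, 3, 2] 1) 89037 781 = true := by decide +kernel

theorem hm66_374 : Fn.fixRangeK TT (wpow [0, 10, 7, 6, 5, 4, 3, 2, 10, 7, 6, 5, 4, 3, 2, 10, 7, 6, 5, 4, 3, 2, 10, 7, 6, 5, 4, 3, 2, 10, 7, 6, 5, 4, 3, 2, 10, 7, 6, 5, 4, 3, 2, 10, 7, 6, 5, 4, 3, 2, 10, 7, 6, 5, 4, 3, 2, 10, 7, 6, 5, 4, 3, 2] 1) 14061 781 = true := by decide +kernel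

theorem hm67_2 : Fn.fixRangeK TT (wpow [13, 5, 4, 3, 2, 1, 0, 5, 6, 7, 8, 9, 5, 10, 11] 1) 296937 3333 = true := by decide +kernel

theorem hm67_41 : Fn.fixRangeK TT (wpow [13, 5, 4, 3, 2, 1, 0, 5, 6, 7, 8, 9, 5, 10, 11] 1) 166950 3333 = true := by decide +kernel

theorem hm69_4 : Fn.fixRangeK TT (wpow [0] 2) 181936 25000 = true := by decide +kernel

theorem hm77_4 : Fn.fixRangeK TT (wpow [8] 2) 181936 25000 = true := by decide +kernel

theorem horbi1_4_2 : Fn.allRangeK (Fn.invP TT [6] 1 275265) 100001 50000 = true := by decide +kernel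

theorem hperm5_9 : permPartG 18360536419842404880 TT 5 tN 147456 16384 = true := by decide +kernel

theorem hperm10_15 : permPartG 18360536419842404880 TT 10 tN 245760 16384 = true := by decide +kernel

end Cfsg.Agent.Lib.Helper12.TCG.Fi24x306936
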