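import Cfsg.Agent.Lib.Helper12.TCG.Fi24x306936.TabT
import Cfsg.Agent.Lib.Helper12.TCG.Fi24x306936.Tab
import Cfsg.Agent.Lib.Helper12.TC.Fn.Ranges2

/-! relator checks for Fi24x306936, part 78 (generated, helper12) -/

set_option autoImplicit false
set_option maxRecDepth 100000
set_option Elab.async false

namespace Cfsg.Agent.Lib.Helper12.TCG.Fi24x306936

open Cfsg.Agent.Lib.Helper12.TC Cfsg.Agent.Lib.Helper12.TCG

theorem hm2_6 : Fn.fixRangeK TT (wpow [1, 2] 3) 248605 8333 = true := by decide +kernel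

theorem hm5_30 : Fn.fixRangeK TT (wpow [2, 3] 3) 48613 8333 = true := by decide +kernel

theorem hm6_6 : Fn.fixRangeK TT (wpow [0, 4] 2) 219436 12500 = true := by decide +kernel

theorem hm11_6 : Fn.fixRangeK TT (wpow [1, 5] 2) 219436 12500 = true := by decide +kernel

theorem hm16_6 : Fn.fixRangeK TT (wpow [1, 6] 2) 219436 12500 = true := by decide +kernel

theorem hm20_18 : Fn.fixRangeK TT (wpow [5, 6] 3) 148609 8333 = true := by decide +kernel

theorem hm21_6 : Fn.fixRangeK TT (wpow [0, 7] 2) 219436 12500 = true := by decide +kernel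

theorem hm21_24 : Fn.fixRangeK TT (wpow [0, 7] 2) 0 6936 = true := by decide +kernel

theorem hm25_6 : Fn.fixRangeK TT (wpow [4, 7] 2) 219436 12500 = true := by decide +kernel

theorem hm30_6 : Fn.fixRangeK TT (wpow [2, 8] 2) 219436 12500 = true := by decide +kernel

theorem hm34_6 : Fn.fixRangeK TT (wpow [6, 8] 2) 219436 12500 = true := by decide +kernel

theorem hm39_6 : Fn.fixRangeK TT (wpow [3, 9] 2) 219436 12500 = true := by decide +kernel

theorem hm43_6 : Fn.fixRangeK TT (wpow [7, 9] 2) 219436 12500 = true := by decide +kernel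

theorem hm44_6 : Fn.fixRangeK TT (wpow [8, 9] 3) 248605 8333 = true := by decide +kernel

theorem hm48_6 : Fn.fixRangeK TT (wpow [3, 10] 2) 219436 12500 = true := by decide +kernel

theorem hm53_6 : Fn.fixRangeK TT (wpow [8, 10] 2) 219436 12500 = true := by decide +kernel

theorem hm57_6 : Fn.fixRangeK TT (wpow [2, 11] 2) 219436 12500 = true := by decide +kernel

theorem hm57_24 : Fn.fixRangeK TT (wpow [2, 11] 2) 0 6936 = true := by decide +kernel

theorem hm61_6 : Fn.fixRangeK TT (wpow [6, 11] 2) 219436 12500 = true := by decide +kernel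

theorem hm65_30 : Fn.fixRangeK TT (wpow [10, 11] 3) 48613 8333 = true := by decide +kernel

theorem hm66_88 : Fn.fixRangeK TT (wpow [0, 10, 7, 6, 5, 4, 3, 2, 10, 7, 6, 5, 4, 3, 2, 10, 7, 6, 5, 4, 3, 2, 10, 7, 6, 5, 4, 3, 2, 10, 7, 6, 5, 4, 3, 2, 10, 7, 6, 5, 4, 3, 2, 10, 7, 6, 5, 4, 3, 2, 10, 7, 6, 5, 4, 3, 2, 10, 7, 6, 5, 4, 3, 2] 1) 237427 781 = true := by decide +kernel

theorem hm66_184 : Fn.fixRangeK TT (wpow [0, 10, 7, 6, 5, 4, 3, 2, 10, 7, 6, 5, 4, 3, 2, 10, 7, 6, 5, 4, 3, 2, 10, 7, 6, 5, 4, 3, 2, 10, 7, 6, 5, 4, 3, 2, 10, 7, 6, 5, 4, 3, 2, 10, 7, 6, 5, 4, 3, 2, 10, 7, 6, 5, 4, 3, 2, 10, 7, 6, 5, 4, 3, 2] 1) 162451 781 = true := by decide +kernel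

theorem hm66_280 : Fn.fixRangeK TT (wpow [0, 10, 7, 6, 5, 4, 3, 2, 10, 7, 6, 5, 4, 3, 2, 10, 7, 6, 5, 4, 3, 2, 10, 7, 6, 5, 4, 3, 2, 10, 7, 6, 5, 4, 3, 2, 10, 7, 6, 5, 4, 3, 2, 10, 7, 6, 5, 4, 3, 2, 10, 7, 6, 5, 4, 3, 2, 10, 7, 6, 5, 4, 3, 2] 1) 87475 781 = true := by decide +kernel

theorem hm66_376 : Fn.fixRangeK TT (wpow [0, 10, 7, 6, 5, 4, 3, 2, 10, 7, 6, 5, 4, 3, 2, 10, 7, 6, 5, 4, 3, 2, 10, 7, 6, 5, 4, 3, 2, 10, 7, 6, 5, 4, 3, 2, 10, 7, 6, 5, 4, 3, 2, 10, 7, 6, 5, 4, 3, 2, 10, 7, 6, 5, 4, 3, 2, 10, 7, 6, 5, 4, 3, 2] 1) 12499 781 = true := by decide +kernel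

theorem hm67_4 : Fn.fixRangeK TT (wpow [13, 5, 4, 3, 2, 1, 0, 5, 6, 7, 8, 9, 5, 10, 11] 1) 290271 3333 = true := by decide +kernel

theorem hm67_43 : Fn.fixRangeK TT (wpow [13, 5, 4, 3, 2, 1, 0, 5, 6, 7, 8, 9, 5, 10, 11] 1) 160284 3333 = true := by decide +kernel

theorem hm69_6 : Fn.fixRangeK TT (wpow [0] 2) 131936 25000 = true := by decide +kernel

theorem hm77_6 : Fn.fixRangeK TT (wpow [8] 2) 131936 25000 = true := by decide +kernel

theorem horbi1_4_4 : Fn.allRangeK (Fn.invP TT [6] 1 275265) 200001 50000 = true := by decide +kernel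

theorem hperm5_11 : permPartG 18360536419842404880 TT 5 tN 180224 16384 = true := by decide +kernel

theorem hperm10_17 : permPartG 18360536419842404880 TT 10 tN 278528 16384 = true := by decide +kernel

end Cfsg.Agent.Lib.Helper12.TCG.Fi24x306936
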