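import Cfsg.Agent.Lib.Helper12.TCG.Fi24x306936.TabT
import Cfsg.Agent.Lib.Helper12.TCG.Fi24x306936.Tab
import Cfsg.Agent.Lib.Helper12.TC.Fn.Ranges2

/-! relator checks for Fi24x306936, part 83 (generated, helper12) -/

set_option autoImplicit false
set_option maxRecDepth 100000
set_option Elab.async false

namespace Cfsg.Agent.Lib.Helper12.TCG.Fi24x306936

open Cfsg.Agent.Lib.Helper12.TC Cfsg.Agent.Lib.Helper12.TCG

theorem hm2_11 : Fn.fixRangeK TT (wpow [1, 2] 3) 206940 8333 = true := by decide +kernel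

theorem hm5_35 : Fn.fixRangeK TT (wpow [2, 3] 3) 6948 8333 = true := by decide +kernel

theorem hm6_11 : Fn.fixRangeK TT (wpow [0, 4] 2) 156936 12500 = true := by decide +kernel

theorem hm11_11 : Fn.fixRangeK TT (wpow [1, 5] 2) 156936 12500 = true := by decide +kernel

theorem hm16_11 : Fn.fixRangeK TT (wpow [1, 6] 2) 156936 12500 = true := by decide +kernel

theorem hm20_23 : Fn.fixRangeK TT (wpow [5, 6] 3) 106944 8333 = true := by decide +kernel

theorem hm21_11 : Fn.fixRangeK TT (wpow [0, 7] 2) 156936 12500 = true := by decide +kernel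

theorem hm25_11 : Fn.fixRangeK TT (wpow [4, 7] 2) 156936 12500 = true := by decide +kernel

theorem hm26_24 : Fn.fixRangeK TT (wpow [5, 7] 2) 0 6936 = true := by decide +kernel

theorem hm30_11 : Fn.fixRangeK TT (wpow [2, 8] 2) 156936 12500 = true := by decide +kernel

theorem hm34_11 : Fn.fixRangeK TT (wpow [6, 8] 2) 156936 12500 = true := by decide +kernel

theorem hm39_11 : Fn.fixRangeK TT (wpow [3, 9] 2) 156936 12500 = true := by decide +kernel

theorem hm43_11 : Fn.fixRangeK TT (wpow [7, 9] 2) 156936 12500 = true := by decide +kernel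

theorem hm44_11 : Fn.fixRangeK TT (wpow [8, 9] 3) 206940 8333 = true := by decide +kernel

theorem hm48_11 : Fn.fixRangeK TT (wpow [3, 10] 2) 156936 12500 = true := by decide +kernel

theorem hm53_11 : Fn.fixRangeK TT (wpow [8, 10] 2) 156936 12500 = true := by decide +kernel

theorem hm57_11 : Fn.fixRangeK TT (wpow [2, 11] 2) 156936 12500 = true := by decide +kernel

theorem hm61_11 : Fn.fixRangeK TT (wpow [6, 11] 2) 156936 12500 = true := by decide +kernel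

theorem hm62_24 : Fn.fixRangeK TT (wpow [7, 11] 2) 0 6936 = true := by decide +kernel

theorem hm65_35 : Fn.fixRangeK TT (wpow [10, 11] 3) 6948 8333 = true := by decide +kernel

theorem hm66_93 : Fn.fixRangeK TT (wpow [0, 10, 7, 6, 5, 4, 3, 2, 10, 7, 6, 5, 4, 3, 2, 10, 7, 6, 5, 4, 3, 2, 10, 7, 6, 5, 4, 3, 2, 10, 7, 6, 5, 4, 3, 2, 10, 7, 6, 5, 4, 3, 2, 10, 7, 6, 5, 4, 3, 2, 10, 7, 6, 5, 4, 3, 2, 10, 7, 6, 5, 4, 3, 2] 1) 233522 781 = true := by decide +kernel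

theorem hm66_189 : Fn.fixRangeK TT (wpow [0, 10, 7, 6, 5, 4, 3, 2, 10, 7, 6, 5, 4, 3, 2, 10, 7, 6, 5, 4, 3, 2, 10, 7, 6, 5, 4, 3, 2, 10, 7, 6, 5, 4, 3, 2, 10, 7, 6, 5, 4, 3, 2, 10, 7, 6, 5, 4, 3, 2, 10, 7, 6, 5, 4, 3, 2, 10, 7, 6, 5, 4, 3, 2] 1) 158546 781 = true := by decide +kernel

theorem hm66_285 : Fn.fixRangeK TT (wpow [0, 10, 7, 6, 5, 4, 3, 2, 10, 7, 6, 5, 4, 3, 2, 10, 7, 6, 5, 4, 3, 2, 10, 7, 6, 5, 4, 3, 2, 10, 7, 6, 5, 4, 3, 2, 10, 7, 6, 5, 4, 3, 2, 10, 7, 6, 5, 4, 3, 2, 10, 7, 6, 5, 4, 3, 2, 10, 7, 6, 5, 4, 3, 2] 1) 83570 781 = true := by decide +kernel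

theorem hm66_381 : Fn.fixRangeK TT (wpow [0, 10, 7, 6, 5, 4, 3, 2, 10, 7, 6, 5, 4, 3, 2, 10, 7, 6, 5, 4, 3, 2, 10, 7, 6, 5, 4, 3, 2, 10, 7, 6, 5, 4, 3, 2, 10, 7, 6, 5, 4, 3, 2, 10, 7, 6, 5, 4, 3, 2, 10, 7, 6, 5, 4, 3, 2, 10, 7, 6, 5, 4, 3, 2] 1) 8594 781 = true := by decide +kernel

theorem hm67_9 : Fn.fixRangeK TT (wpow [13, 5, 4, 3, 2, 1, 0, 5, 6, 7, 8, 9, 5, 10, 11] 1) 273606 3333 = true := by decide +kernel

theorem hm67_48 : Fn.fixRangeK TT (wpow [13, 5, 4, 3, 2, 1, 0, 5, 6, 7, 8, 9, 5, 10, 11] 1) 143619 3333 = true := by decide +kernel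

theorem hm69_11 : Fn.fixRangeK TT (wpow [0] 2) 6936 25000 = true := by decide +kernel

theorem hm77_11 : Fn.fixRangeK TT (wpow [8] 2) 6936 25000 = true := by decide +kernel

theorem horbi1_5_4 : Fn.allRangeK (Fn.invP TT [7] 1 275265) 200001 50000 = true := by decide +kernel

theorem hperm5_16 : permPartG 18360536419842404880 TT 5 tN 262144 16384 = true := by decide +kernel

theorem hperm11_4 : permPartG 18360536419842404880 TT 11 tN 65536 16384 = true := by decide +kernel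

end Cfsg.Agent.Lib.Helper12.TCG.Fi24x306936
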