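import Cfsg.Agent.Lib.Helper12.TCG.Fi24x306936.TabT
import Cfsg.Agent.Lib.Helper12.TCG.Fi24x306936.Tab
import Cfsg.Agent.Lib.Helper12.TC.Fn.Ranges2

/-! relator checks for Fi24x306936, part 85 (generated, helper12) -/

set_option autoImplicit false
set_option maxRecDepth 100000
set_option Elab.async false

namespace Cfsg.Agent.Lib.Helper12.TCG.Fi24x306936

open Cfsg.Agent.Lib.Helper12.TC Cfsg.Agent.Lib.Helper12.TCG

theorem hm2_13 : Fn.fixRangeK TT (wpow [1, 2] 3) 190274 8333 = true := by decide +kernel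

theorem hm6_13 : Fn.fixRangeK TT (wpow [0, 4] 2) 131936 12500 = true := by decide +kernel

theorem hm9_1 : Fn.fixRangeK TT (wpow [3, 4] 3) 290270 8333 = true := by decide +kernel

theorem hm11_13 : Fn.fixRangeK TT (wpow [1, 5] 2) 131936 12500 = true := by decide +kernel

theorem hm16_13 : Fn.fixRangeK TT (wpow [1, 6] 2) 131936 12500 = true := by decide +kernel

theorem hm20_25 : Fn.fixRangeK TT (wpow [5, 6] 3) 90278 8333 = true := by decide +kernel

theorem hm21_13 : Fn.fixRangeK TT (wpow [0, 7] 2) 131936 12500 = true := by decide +kernel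

theorem hm25_13 : Fn.fixRangeK TT (wpow [4, 7] 2) 131936 12500 = true := by decide +kernel

theorem hm30_13 : Fn.fixRangeK TT (wpow [2, 8] 2) 131936 12500 = true := by decide +kernel

theorem hm34_13 : Fn.fixRangeK TT (wpow [6, 8] 2) 131936 12500 = true := by decide +kernel

theorem hm39_13 : Fn.fixRangeK TT (wpow [3, 9] 2) 131936 12500 = true := by decide +kernel

theorem hm43_13 : Fn.fixRangeK TT (wpow [7, 9] 2) 131936 12500 = true := by decide +kernel

theorem hm44_13 : Fn.fixRangeK TT (wpow [8, 9] 3) 190274 8333 = true := by decide +kernel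

theorem hm48_13 : Fn.fixRangeK TT (wpow [3, 10] 2) 131936 12500 = true := by decide +kernel

theorem hm53_13 : Fn.fixRangeK TT (wpow [8, 10] 2) 131936 12500 = true := by decide +kernel

theorem hm57_13 : Fn.fixRangeK TT (wpow [2, 11] 2) 131936 12500 = true := by decide +kernel

theorem hm61_13 : Fn.fixRangeK TT (wpow [6, 11] 2) 131936 12500 = true := by decide +kernel

theorem hm66_125 : Fn.fixRangeK TT (wpow [0, 10, 7, 6, 5, 4, 3, 2, 10, 7, 6, 5, 4, 3, 2, 10, 7, 6, 5, 4, 3, 2, 10, 7, 6, 5, 4, 3, 2, 10, 7, 6, 5, 4, 3, 2, 10, 7, 6, 5, 4, 3, 2, 10, 7, 6, 5, 4, 3, 2, 10, 7, 6, 5, 4, 3, 2, 10, 7, 6, 5, 4, 3, 2] 1) 208530 781 = true := by decide +kernel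

theorem hm66_221 : Fn.fixRangeK TT (wpow [0, 10, 7, 6, 5, 4, 3, 2, 10, 7, 6, 5, 4, 3, 2, 10, 7, 6, 5, 4, 3, 2, 10, 7, 6, 5, 4, 3, 2, 10, 7, 6, 5, 4, 3, 2, 10, 7, 6, 5, 4, 3, 2, 10, 7, 6, 5, 4, 3, 2, 10, 7, 6, 5, 4, 3, 2, 10, 7, 6, 5, 4, 3, 2] 1) 133554 781 = true := by decide +kernel

theorem hm66_317 : Fn.fixRangeK TT (wpow [0, 10, 7, 6, 5, 4, 3, 2, 10, 7, 6, 5, 4, 3, 2, 10, 7, 6, 5, 4, 3, 2, 10, 7, 6, 5, 4, 3, 2, 10, 7, 6, 5, 4, 3, 2, 10, 7, 6, 5, 4, 3, 2, 10, 7, 6, 5, 4, 3, 2, 10, 7, 6, 5, 4, 3, 2, 10, 7, 6, 5, 4, 3, 2] 1) 58578 781 = true := by decide +kernel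

theorem hm67_79 : Fn.fixRangeK TT (wpow [13, 5, 4, 3, 2, 1, 0, 5, 6, 7, 8, 9, 5, 10, 11] 1) 40296 3333 = true := by decide +kernel

theorem hm68_1 : Fn.fixRangeK TT (wpow [12] 17) 301054 2941 = true := by decide +kernel

theorem hm68_49 : Fn.fixRangeK TT (wpow [12] 17) 159886 2941 = true := by decide +kernel

theorem hm70_1 : Fn.fixRangeK TT (wpow [1] 2) 256936 25000 = true := by decide +kernel

theorem hm78_1 : Fn.fixRangeK TT (wpow [9] 2) 256936 25000 = true := by decide +kernel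

theorem horbi1_6_1 : Fn.allRangeK (Fn.invP TT [8] 1 275265) 50001 50000 = true := by decide +kernel

theorem hperm0_9 : permPartG 18360536419842404880 TT 0 tN 147456 16384 = true := by decide +kernel

theorem hperm1_13 : permPartG 18360536419842404880 TT 1 tN 212992 16384 = true := by decide +kernel

theorem hperm7_1 : permPartG 18360536419842404880 TT 7 tN 16384 16384 = true := by decide +kernel

theorem hperm12_7 : permPartG 18360536419842404880 TT 12 tN 114688 16384 = true := by decide +kernel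

end Cfsg.Agent.Lib.Helper12.TCG.Fi24x306936
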