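import Cfsg.Agent.Lib.Helper12.TCG.Fi24x306936.TabT
import Cfsg.Agent.Lib.Helper12.TCG.Fi24x306936.Tab
import Cfsg.Agent.Lib.Helper12.TC.Fn.Ranges2

/-! relator checks for Fi24x306936, part 9 (generated, helper12) -/

set_option autoImplicit false
set_option maxRecDepth 100000
set_option Elab.async false

namespace Cfsg.Agent.Lib.Helper12.TCG.Fi24x306936

open Cfsg.Agent.Lib.Helper12.TC Cfsg.Agent.Lib.Helper12.TCG

theorem hm1_9 : Fn.fixRangeK TT (wpow [0, 2] 2) 181936 12500 = true := by decide +kernel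

theorem hm7_9 : Fn.fixRangeK TT (wpow [1, 4] 2) 181936 12500 = true := by decide +kernel

theorem hm9_28 : Fn.fixRangeK TT (wpow [3, 4] 3) 65279 8333 = true := by decide +kernel

theorem hm12_9 : Fn.fixRangeK TT (wpow [2, 5] 2) 181936 12500 = true := by decide +kernel

theorem hm17_9 : Fn.fixRangeK TT (wpow [2, 6] 2) 181936 12500 = true := by decide +kernel

theorem hm22_9 : Fn.fixRangeK TT (wpow [1, 7] 2) 181936 12500 = true := by decide +kernel

theorem hm26_9 : Fn.fixRangeK TT (wpow [5, 7] 2) 181936 12500 = true := by decide +kernel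

theorem hm27_16 : Fn.fixRangeK TT (wpow [6, 7] 3) 165275 8333 = true := by decide +kernel

theorem hm31_9 : Fn.fixRangeK TT (wpow [3, 8] 2) 181936 12500 = true := by decide +kernel

theorem hm36_9 : Fn.fixRangeK TT (wpow [0, 9] 2) 181936 12500 = true := by decide +kernel

theorem hm38_24 : Fn.fixRangeK TT (wpow [2, 9] 2) 0 6936 = true := by decide +kernel

theorem hm40_9 : Fn.fixRangeK TT (wpow [4, 9] 2) 181936 12500 = true := by decide +kernel

theorem hm45_9 : Fn.fixRangeK TT (wpow [0, 10] 2) 181936 12500 = true := by decide +kernel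

theorem hm49_9 : Fn.fixRangeK TT (wpow [4, 10] 2) 181936 12500 = true := by decide +kernel

theorem hm50_4 : Fn.fixRangeK TT (wpow [5, 10] 3) 265271 8333 = true := by decide +kernel

theorem hm54_9 : Fn.fixRangeK TT (wpow [9, 10] 2) 181936 12500 = true := by decide +kernel

theorem hm58_9 : Fn.fixRangeK TT (wpow [3, 11] 2) 181936 12500 = true := by decide +kernel

theorem hm62_9 : Fn.fixRangeK TT (wpow [7, 11] 2) 181936 12500 = true := by decide +kernel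

theorem hm66_103 : Fn.fixRangeK TT (wpow [0, 10, 7, 6, 5, 4, 3, 2, 10, 7, 6, 5, 4, 3, 2, 10, 7, 6, 5, 4, 3, 2, 10, 7, 6, 5, 4, 3, 2, 10, 7, 6, 5, 4, 3, 2, 10, 7, 6, 5, 4, 3, 2, 10, 7, 6, 5, 4, 3, 2, 10, 7, 6, 5, 4, 3, 2, 10, 7, 6, 5, 4, 3, 2] 1) 225712 781 = true := by decide +kernel

theorem hm66_199 : Fn.fixRangeK TT (wpow [0, 10, 7, 6, 5, 4, 3, 2, 10, 7, 6, 5, 4, 3, 2, 10, 7, 6, 5, 4, 3, 2, 10, 7, 6, 5, 4, 3, 2, 10, 7, 6, 5, 4, 3, 2, 10, 7, 6, 5, 4, 3, 2, 10, 7, 6, 5, 4, 3, 2, 10, 7, 6, 5, 4, 3, 2, 10, 7, 6, 5, 4, 3, 2] 1) 150736 781 = true := by decide +kernel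

theorem hm66_295 : Fn.fixRangeK TT (wpow [0, 10, 7, 6, 5, 4, 3, 2, 10, 7, 6, 5, 4, 3, 2, 10, 7, 6, 5, 4, 3, 2, 10, 7, 6, 5, 4, 3, 2, 10, 7, 6, 5, 4, 3, 2, 10, 7, 6, 5, 4, 3, 2, 10, 7, 6, 5, 4, 3, 2, 10, 7, 6, 5, 4, 3, 2, 10, 7, 6, 5, 4, 3, 2] 1) 75760 781 = true := by decide +kernel

theorem hm66_391 : Fn.fixRangeK TT (wpow [0, 10, 7, 6, 5, 4, 3, 2, 10, 7, 6, 5, 4, 3, 2, 10, 7, 6, 5, 4, 3, 2, 10, 7, 6, 5, 4, 3, 2, 10, 7, 6, 5, 4, 3, 2, 10, 7, 6, 5, 4, 3, 2, 10, 7, 6, 5, 4, 3, 2, 10, 7, 6, 5, 4, 3, 2, 10, 7, 6, 5, 4, 3, 2] 1) 784 781 = true := by decide +kernel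

theorem hm67_19 : Fn.fixRangeK TT (wpow [13, 5, 4, 3, 2, 1, 0, 5, 6, 7, 8, 9, 5, 10, 11] 1) 240276 3333 = true := by decide +kernel

theorem hm67_58 : Fn.fixRangeK TT (wpow [13, 5, 4, 3, 2, 1, 0, 5, 6, 7, 8, 9, 5, 10, 11] 1) 110289 3333 = true := by decide +kernel

theorem hm68_28 : Fn.fixRangeK TT (wpow [12] 17) 221647 2941 = true := by decide +kernel

theorem hm71_9 : Fn.fixRangeK TT (wpow [2] 2) 56936 25000 = true := by decide +kernel

theorem hm79_9 : Fn.fixRangeK TT (wpow [10] 2) 56936 25000 = true := by decide +kernel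

theorem horbi1_7_5 : Fn.allRangeK (Fn.invP TT [10] 1 275265) 250001 25264 = true := by decide +kernel

theorem horbi1_10_1 : Fn.allRangeK (Fn.invP TT [0] 1 275265) 50001 50000 = true := by decide +kernel

theorem hperm6_8 : permPartG 18360536419842404880 TT 6 tN 131072 16384 = true := by decide +kernel

theorem hperm11_14 : permPartG 18360536419842404880 TT 11 tN 229376 16384 = true := by decide +kernel

end Cfsg.Agent.Lib.Helper12.TCG.Fi24x306936
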