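import Cfsg.Agent.Lib.Helper12.TCG.Fi24x306936.TabT
import Cfsg.Agent.Lib.Helper12.TCG.Fi24x306936.Tab
import Cfsg.Agent.Lib.Helper12.TC.Fn.Ranges2

/-! relator checks for Fi24x306936, part 93 (generated, helper12) -/

set_option autoImplicit false
set_option maxRecDepth 100000
set_option Elab.async false

namespace Cfsg.Agent.Lib.Helper12.TCG.Fi24x306936

open Cfsg.Agent.Lib.Helper12.TC Cfsg.Agent.Lib.Helper12.TCG

theorem hm2_21 : Fn.fixRangeK TT (wpow [1, 2] 3) 123610 8333 = true := by decide +kernel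

theorem hm6_21 : Fn.fixRangeK TT (wpow [0, 4] 2) 31936 12500 = true := by decide +kernel

theorem hm9_9 : Fn.fixRangeK TT (wpow [3, 4] 3) 223606 8333 = true := by decide +kernel

theorem hm11_21 : Fn.fixRangeK TT (wpow [1, 5] 2) 31936 12500 = true := by decide +kernel

theorem hm16_21 : Fn.fixRangeK TT (wpow [1, 6] 2) 31936 12500 = true := by decide +kernel

theorem hm20_33 : Fn.fixRangeK TT (wpow [5, 6] 3) 23614 8333 = true := by decide +kernel

theorem hm21_21 : Fn.fixRangeK TT (wpow [0, 7] 2) 31936 12500 = true := by decide +kernel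

theorem hm25_21 : Fn.fixRangeK TT (wpow [4, 7] 2) 31936 12500 = true := by decide +kernel

theorem hm30_21 : Fn.fixRangeK TT (wpow [2, 8] 2) 31936 12500 = true := by decide +kernel

theorem hm34_21 : Fn.fixRangeK TT (wpow [6, 8] 2) 31936 12500 = true := by decide +kernel

theorem hm39_21 : Fn.fixRangeK TT (wpow [3, 9] 2) 31936 12500 = true := by decide +kernel

theorem hm43_21 : Fn.fixRangeK TT (wpow [7, 9] 2) 31936 12500 = true := by decide +kernel

theorem hm44_21 : Fn.fixRangeK TT (wpow [8, 9] 3) 123610 8333 = true := by decide +kernel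

theorem hm48_21 : Fn.fixRangeK TT (wpow [3, 10] 2) 31936 12500 = true := by decide +kernel

theorem hm53_21 : Fn.fixRangeK TT (wpow [8, 10] 2) 31936 12500 = true := by decide +kernel

theorem hm57_21 : Fn.fixRangeK TT (wpow [2, 11] 2) 31936 12500 = true := by decide +kernel

theorem hm61_21 : Fn.fixRangeK TT (wpow [6, 11] 2) 31936 12500 = true := by decide +kernel

theorem hm66_133 : Fn.fixRangeK TT (wpow [0, 10, 7, 6, 5, 4, 3, 2, 10, 7, 6, 5, 4, 3, 2, 10, 7, 6, 5, 4, 3, 2, 10, 7, 6, 5, 4, 3, 2, 10, 7, 6, 5, 4, 3, 2, 10, 7, 6, 5, 4, 3, 2, 10, 7, 6, 5, 4, 3, 2, 10, 7, 6, 5, 4, 3, 2, 10, 7, 6, 5, 4, 3, 2] 1) 202282 781 = true := by decide +kernel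

theorem hm66_229 : Fn.fixRangeK TT (wpow [0, 10, 7, 6, 5, 4, 3, 2, 10, 7, 6, 5, 4, 3, 2, 10, 7, 6, 5, 4, 3, 2, 10, 7, 6, 5, 4, 3, 2, 10, 7, 6, 5, 4, 3, 2, 10, 7, 6, 5, 4, 3, 2, 10, 7, 6, 5, 4, 3, 2, 10, 7, 6, 5, 4, 3, 2, 10, 7, 6, 5, 4, 3, 2] 1) 127306 781 = true := by decide +kernel

theorem hm66_325 : Fn.fixRangeK TT (wpow [0, 10, 7, 6, 5, 4, 3, 2, 10, 7, 6, 5, 4, 3, 2, 10, 7, 6, 5, 4, 3, 2, 10, 7, 6, 5, 4, 3, 2, 10, 7, 6, 5, 4, 3, 2, 10, 7, 6, 5, 4, 3, 2, 10, 7, 6, 5, 4, 3, 2, 10, 7, 6, 5, 4, 3, 2, 10, 7, 6, 5, 4, 3, 2] 1) 52330 781 = true := by decide +kernel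

theorem hm67_87 : Fn.fixRangeK TT (wpow [13, 5, 4, 3, 2, 1, 0, 5, 6, 7, 8, 9, 5, 10, 11] 1) 13632 3333 = true := by decide +kernel

theorem hm68_9 : Fn.fixRangeK TT (wpow [12] 17) 277526 2941 = true := by decide +kernel

theorem hm68_57 : Fn.fixRangeK TT (wpow [12] 17) 136358 2941 = true := by decide +kernel

theorem hm70_9 : Fn.fixRangeK TT (wpow [1] 2) 56936 25000 = true := by decide +kernel

theorem hm78_9 : Fn.fixRangeK TT (wpow [9] 2) 56936 25000 = true := by decide +kernel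

theorem horbi1_7_4 : Fn.allRangeK (Fn.invP TT [10] 1 275265) 200001 50000 = true := by decide +kernel

theorem hperm0_17 : permPartG 18360536419842404880 TT 0 tN 278528 16384 = true := by decide +kernel

theorem hperm2_3 : permPartG 18360536419842404880 TT 2 tN 49152 16384 = true := by decide +kernel

theorem hperm7_9 : permPartG 18360536419842404880 TT 7 tN 147456 16384 = true := by decide +kernel

theorem hperm12_15 : permPartG 18360536419842404880 TT 12 tN 245760 16384 = true := by decide +kernel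

end Cfsg.Agent.Lib.Helper12.TCG.Fi24x306936
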