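import Cfsg.Agent.Lib.Helper12.TCG.Fi24x306936.Rel0
import Cfsg.Agent.Lib.Helper12.TCG.Fi24x306936.Rel1
import Cfsg.Agent.Lib.Helper12.TCG.Fi24x306936.Rel2
import Cfsg.Agent.Lib.Helper12.TCG.Fi24x306936.Rel3
import Cfsg.Agent.Lib.Helper12.TCG.Fi24x306936.Rel4
import Cfsg.Agent.Lib.Helper12.TCG.Fi24x306936.Rel5
import Cfsg.Agent.Lib.Helper12.TCG.Fi24x306936.Rel6
import Cfsg.Agent.Lib.Helper12.TCG.Fi24x306936.Rel7
import Cfsg.Agent.Lib.Helper12.TCG.Fi24x306936.Rel8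
import Cfsg.Agent.Lib.Helper12.TCG.Fi24x306936.Rel9
import Cfsg.Agent.Lib.Helper12.TCG.Fi24x306936.Rel10
import Cfsg.Agent.Lib.Helper12.TCG.Fi24x306936.Rel11
import Cfsg.Agent.Lib.Helper12.TCG.Fi24x306936.Rel12
import Cfsg.Agent.Lib.Helper12.TCG.Fi24x306936.Rel13
import Cfsg.Agent.Lib.Helper12.TCG.Fi24x306936.Rel14
import Cfsg.Agent.Lib.Helper12.TCG.Fi24x306936.Rel15
import Cfsg.Agent.Lib.Helper12.TCG.Fi24x306936.Rel16
import Cfsg.Agent.Lib.Helper12.TCG.Fi24x306936.Rel17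
import Cfsg.Agent.Lib.Helper12.TCG.Fi24x306936.Rel18
import Cfsg.Agent.Lib.Helper12.TCG.Fi24x306936.Rel19
import Cfsg.Agent.Lib.Helper12.TCG.Fi24x306936.Rel20
import Cfsg.Agent.Lib.Helper12.TCG.Fi24x306936.Rel21
import Cfsg.Agent.Lib.Helper12.TCG.Fi24x306936.Rel22
import Cfsg.Agent.Lib.Helper12.TCG.Fi24x306936.Rel23
import Cfsg.Agent.Lib.Helper12.TCG.Fi24x306936.Rel24
import Cfsg.Agent.Lib.Helper12.TCG.Fi24x306936.Rel25
import Cfsg.Agent.Lib.Helper12.TCG.Fi24x306936.Rel26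
import Cfsg.Agent.Lib.Helper12.TCG.Fi24x306936.Rel27
import Cfsg.Agent.Lib.Helper12.TCG.Fi24x306936.Rel28
import Cfsg.Agent.Lib.Helper12.TCG.Fi24x306936.Rel29
import Cfsg.Agent.Lib.Helper12.TCG.Fi24x306936.Rel30
import Cfsg.Agent.Lib.Helper12.TCG.Fi24x306936.Rel31
import Cfsg.Agent.Lib.Helper12.TCG.Fi24x306936.Rel32
import Cfsg.Agent.Lib.Helper12.TCG.Fi24x306936.Rel33
import Cfsg.Agent.Lib.Helper12.TCG.Fi24x306936.Rel34
import Cfsg.Agent.Lib.Helper12.TCG.Fi24x306936.Rel35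
import Cfsg.Agent.Lib.Helper12.TCG.Fi24x306936.Rel36
import Cfsg.Agent.Lib.Helper12.TCG.Fi24x306936.Rel37
import Cfsg.Agent.Lib.Helper12.TCG.Fi24x306936.Rel38
import Cfsg.Agent.Lib.Helper12.TCG.Fi24x306936.Rel39
import Cfsg.Agent.Lib.Helper12.TCG.Fi24x306936.Rel40
import Cfsg.Agent.Lib.Helper12.TCG.Fi24x306936.Rel41
import Cfsg.Agent.Lib.Helper12.TCG.Fi24x306936.Rel42
import Cfsg.Agent.Lib.Helper12.TCG.Fi24x306936.Rel43
import Cfsg.Agent.Lib.Helper12.TCG.Fi24x306936.Rel44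
import Cfsg.Agent.Lib.Helper12.TCG.Fi24x306936.Rel45
import Cfsg.Agent.Lib.Helper12.TCG.Fi24x306936.Rel46
import Cfsg.Agent.Lib.Helper12.TCG.Fi24x306936.Rel47
import Cfsg.Agent.Lib.Helper12.TCG.Fi24x306936.Rel48
import Cfsg.Agent.Lib.Helper12.TCG.Fi24x306936.Rel49
import Cfsg.Agent.Lib.Helper12.TCG.Fi24x306936.Rel50
import Cfsg.Agent.Lib.Helper12.TCG.Fi24x306936.Rel51
import Cfsg.Agent.Lib.Helper12.TCG.Fi24x306936.Rel52
import Cfsg.Agent.Lib.Helper12.TCG.Fi24x306936.Rel53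
import Cfsg.Agent.Lib.Helper12.TCG.Fi24x306936.Rel54
import Cfsg.Agent.Lib.Helper12.TCG.Fi24x306936.Rel55
import Cfsg.Agent.Lib.Helper12.TCG.Fi24x306936.Rel56
import Cfsg.Agent.Lib.Helper12.TCG.Fi24x306936.Rel57
import Cfsg.Agent.Lib.Helper12.TCG.Fi24x306936.Rel58
import Cfsg.Agent.Lib.Helper12.TCG.Fi24x306936.Rel59
import Cfsg.Agent.Lib.Helper12.TCG.Fi24x306936.Rel60
import Cfsg.Agent.Lib.Helper12.TCG.Fi24x306936.Rel61
import Cfsg.Agent.Lib.Helper12.TCG.Fi24x306936.Rel62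
import Cfsg.Agent.Lib.Helper12.TCG.Fi24x306936.Rel63
import Cfsg.Agent.Lib.Helper12.TCG.Fi24x306936.Rel64
import Cfsg.Agent.Lib.Helper12.TCG.Fi24x306936.Rel65
import Cfsg.Agent.Lib.Helper12.TCG.Fi24x306936.Rel66
import Cfsg.Agent.Lib.Helper12.TCG.Fi24x306936.Rel67
import Cfsg.Agent.Lib.Helper12.TCG.Fi24x306936.Rel68
import Cfsg.Agent.Lib.Helper12.TCG.Fi24x306936.Rel69
import Cfsg.Agent.Lib.Helper12.TCG.Fi24x306936.Rel70
import Cfsg.Agent.Lib.Helper12.TCG.Fi24x306936.Rel71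
import Cfsg.Agent.Lib.Helper12.TCG.Fi24x306936.Rel72
import Cfsg.Agent.Lib.Helper12.TCG.Fi24x306936.Rel73
import Cfsg.Agent.Lib.Helper12.TCG.Fi24x306936.Rel74
import Cfsg.Agent.Lib.Helper12.TCG.Fi24x306936.Rel75
import Cfsg.Agent.Lib.Helper12.TCG.Fi24x306936.Rel76
import Cfsg.Agent.Lib.Helper12.TCG.Fi24x306936.Rel77
import Cfsg.Agent.Lib.Helper12.TCG.Fi24x306936.Rel78
import Cfsg.Agent.Lib.Helper12.TCG.Fi24x306936.Rel79
import Cfsg.Agent.Lib.Helper12.TCG.Fi24x306936.Rel80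
import Cfsg.Agent.Lib.Helper12.TCG.Fi24x306936.Rel81
import Cfsg.Agent.Lib.Helper12.TCG.Fi24x306936.Rel82
import Cfsg.Agent.Lib.Helper12.TCG.Fi24x306936.Rel83
import Cfsg.Agent.Lib.Helper12.TCG.Fi24x306936.Rel84
import Cfsg.Agent.Lib.Helper12.TCG.Fi24x306936.Rel85
import Cfsg.Agent.Lib.Helper12.TCG.Fi24x306936.Rel86
import Cfsg.Agent.Lib.Helper12.TCG.Fi24x306936.Rel87
import Cfsg.Agent.Lib.Helper12.TCG.Fi24x306936.Rel88
import Cfsg.Agent.Lib.Helper12.TCG.Fi24x306936.Rel89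
import Cfsg.Agent.Lib.Helper12.TCG.Fi24x306936.Rel90
import Cfsg.Agent.Lib.Helper12.TCG.Fi24x306936.Rel91
import Cfsg.Agent.Lib.Helper12.TCG.Fi24x306936.Rel92
import Cfsg.Agent.Lib.Helper12.TCG.Fi24x306936.Rel93
import Cfsg.Agent.Lib.Helper12.TCG.Fi24x306936.Rel94
import Cfsg.Agent.Lib.Helper12.TCG.Fi24x306936.Rel95
import Cfsg.Agent.Lib.Helper12.TCG.Fi24x306936.Tab
import Cfsg.Agent.Lib.Helper12.TCG.Fi24Pres

/-! the permutation representation for Fi24x306936 (generated, helper12) -/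

set_option autoImplicit false
set_option maxRecDepth 100000
set_option linter.unusedSimpArgs false
set_option Elab.async false

namespace Cfsg.Agent.Lib.Helper12.TCG.Fi24x306936

open Cfsg.Agent.Lib.Helper12.TC Cfsg.Agent.Lib.Helper12.TCG Cfsg.Agent.Lib.Helper12.TCG.Fi24Pres

theorem htN : tN = cN := rfl

theorem hperm0 : permOneG 18360536419842404880 TT 0 tN = true :=
  permOneG_of_OK (permOK_step hperm0_18 rfl
    (permOK_step hperm0_17 rfl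
    (permOK_step hperm0_16 rfl
    (permOK_step hperm0_15 rfl
    (permOK_step hperm0_14 rfl
    (permOK_step hperm0_13 rfl
    (permOK_step hperm0_12 rfl
    (permOK_step hperm0_11 rfl
    (permOK_step hperm0_10 rfl
    (permOK_step hperm0_9 rfl
    (permOK_step hperm0_8 rfl
    (permOK_step hperm0_7 rfl
    (permOK_step hperm0_6 rfl
    (permOK_step hperm0_5 rfl
    (permOK_step hperm0_4 rfl
    (permOK_step hperm0_3 rfl
    (permOK_step hperm0_2 rfl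
    (permOK_step hperm0_1 rfl
    (permOK_step hperm0_0 rfl
    (permOK_start 18360536419842404880 TT 0 tN))))))))))))))))))))

theorem hperm1 : permOneG 18360536419842404880 TT 1 tN = true :=
  permOneG_of_OK (permOK_step hperm1_18 rfl
    (permOK_step hperm1_17 rfl
    (permOK_step hperm1_16 rfl
    (permOK_step hperm1_15 rfl
    (permOK_step hperm1_14 rfl
    (permOK_step hperm1_13 rfl
    (permOK_step hperm1_12 rfl
    (permOK_step hperm1_11 rfl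
    (permOK_step hperm1_10 rfl
    (permOK_step hperm1_9 rfl
    (permOK_step hperm1_8 rfl
    (permOK_step hperm1_7 rfl
    (permOK_step hperm1_6 rfl
    (permOK_step hperm1_5 rfl
    (permOK_step hperm1_4 rfl
    (permOK_step hperm1_3 rfl
    (permOK_step hperm1_2 rfl
    (permOK_step hperm1_1 rfl
    (permOK_step hperm1_0 rfl
    (permOK_start 18360536419842404880 TT 1 tN))))))))))))))))))))

theorem hperm2 : permOneG 18360536419842404880 TT 2 tN = true :=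
  permOneG_of_OK (permOK_step hperm2_18 rfl
    (permOK_step hperm2_17 rfl
    (permOK_step hperm2_16 rfl
    (permOK_step hperm2_15 rfl
    (permOK_step hperm2_14 rfl
    (permOK_step hperm2_13 rfl
    (permOK_step hperm2_12 rfl
    (permOK_step hperm2_11 rfl
    (permOK_step hperm2_10 rfl
    (permOK_step hperm2_9 rfl
    (permOK_step hperm2_8 rfl
    (permOK_step hperm2_7 rfl
    (permOK_step hperm2_6 rfl
    (permOK_step hperm2_5 rfl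
    (permOK_step hperm2_4 rfl
    (permOK_step hperm2_3 rfl
    (permOK_step hperm2_2 rfl
    (permOK_step hperm2_1 rfl
    (permOK_step hperm2_0 rfl
    (permOK_start 18360536419842404880 TT 2 tN))))))))))))))))))))

theorem hperm3 : permOneG 18360536419842404880 TT 3 tN = true :=
  permOneG_of_OK (permOK_step hperm3_18 rfl
    (permOK_step hperm3_17 rfl
    (permOK_step hperm3_16 rfl
    (permOK_step hperm3_15 rfl
    (permOK_step hperm3_14 rfl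
    (permOK_step hperm3_13 rfl
    (permOK_step hperm3_12 rfl
    (permOK_step hperm3_11 rfl
    (permOK_step hperm3_10 rfl
    (permOK_step hperm3_9 rfl
    (permOK_step hperm3_8 rfl
    (permOK_step hperm3_7 rfl
    (permOK_step hperm3_6 rfl
    (permOK_step hperm3_5 rfl
    (permOK_step hperm3_4 rfl
    (permOK_step hperm3_3 rfl
    (permOK_step hperm3_2 rfl
    (permOK_step hperm3_1 rfl
    (permOK_step hperm3_0 rfl
    (permOK_start 18360536419842404880 TT 3 tN))))))))))))))))))))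

theorem hperm4 : permOneG 18360536419842404880 TT 4 tN = true :=
  permOneG_of_OK (permOK_step hperm4_18 rfl
    (permOK_step hperm4_17 rfl
    (permOK_step hperm4_16 rfl
    (permOK_step hperm4_15 rfl
    (permOK_step hperm4_14 rfl
    (permOK_step hperm4_13 rfl
    (permOK_step hperm4_12 rfl
    (permOK_step hperm4_11 rfl
    (permOK_step hperm4_10 rfl
    (permOK_step hperm4_9 rfl
    (permOK_step hperm4_8 rfl
    (permOK_step hperm4_7 rfl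
    (permOK_step hperm4_6 rfl
    (permOK_step hperm4_5 rfl
    (permOK_step hperm4_4 rfl
    (permOK_step hperm4_3 rfl
    (permOK_step hperm4_2 rfl
    (permOK_step hperm4_1 rfl
    (permOK_step hperm4_0 rfl
    (permOK_start 18360536419842404880 TT 4 tN))))))))))))))))))))

theorem hperm5 : permOneG 18360536419842404880 TT 5 tN = true :=
  permOneG_of_OK (permOK_step hperm5_18 rfl
    (permOK_step hperm5_17 rfl
    (permOK_step hperm5_16 rfl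
    (permOK_step hperm5_15 rfl
    (permOK_step hperm5_14 rfl
    (permOK_step hperm5_13 rfl
    (permOK_step hperm5_12 rfl
    (permOK_step hperm5_11 rfl
    (permOK_step hperm5_10 rfl
    (permOK_step hperm5_9 rfl
    (permOK_step hperm5_8 rfl
    (permOK_step hperm5_7 rfl
    (permOK_step hperm5_6 rfl
    (permOK_step hperm5_5 rfl
    (permOK_step hperm5_4 rfl
    (permOK_step hperm5_3 rfl
    (permOK_step hperm5_2 rfl
    (permOK_step hperm5_1 rfl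
    (permOK_step hperm5_0 rfl
    (permOK_start 18360536419842404880 TT 5 tN))))))))))))))))))))

theorem hperm6 : permOneG 18360536419842404880 TT 6 tN = true :=
  permOneG_of_OK (permOK_step hperm6_18 rfl
    (permOK_step hperm6_17 rfl
    (permOK_step hperm6_16 rfl
    (permOK_step hperm6_15 rfl
    (permOK_step hperm6_14 rfl
    (permOK_step hperm6_13 rfl
    (permOK_step hperm6_12 rfl
    (permOK_step hperm6_11 rfl
    (permOK_step hperm6_10 rfl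
    (permOK_step hperm6_9 rfl
    (permOK_step hperm6_8 rfl
    (permOK_step hperm6_7 rfl
    (permOK_step hperm6_6 rfl
    (permOK_step hperm6_5 rfl
    (permOK_step hperm6_4 rfl
    (permOK_step hperm6_3 rfl
    (permOK_step hperm6_2 rfl
    (permOK_step hperm6_1 rfl
    (permOK_step hperm6_0 rfl
    (permOK_start 18360536419842404880 TT 6 tN))))))))))))))))))))

theorem hperm7 : permOneG 18360536419842404880 TT 7 tN = true :=
  permOneG_of_OK (permOK_step hperm7_18 rfl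
    (permOK_step hperm7_17 rfl
    (permOK_step hperm7_16 rfl
    (permOK_step hperm7_15 rfl
    (permOK_step hperm7_14 rfl
    (permOK_step hperm7_13 rfl
    (permOK_step hperm7_12 rfl
    (permOK_step hperm7_11 rfl
    (permOK_step hperm7_10 rfl
    (permOK_step hperm7_9 rfl
    (permOK_step hperm7_8 rfl
    (permOK_step hperm7_7 rfl
    (permOK_step hperm7_6 rfl
    (permOK_step hperm7_5 rfl
    (permOK_step hperm7_4 rfl
    (permOK_step hperm7_3 rfl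
    (permOK_step hperm7_2 rfl
    (permOK_step hperm7_1 rfl
    (permOK_step hperm7_0 rfl
    (permOK_start 18360536419842404880 TT 7 tN))))))))))))))))))))

theorem hperm8 : permOneG 18360536419842404880 TT 8 tN = true :=
  permOneG_of_OK (permOK_step hperm8_18 rfl
    (permOK_step hperm8_17 rfl
    (permOK_step hperm8_16 rfl
    (permOK_step hperm8_15 rfl
    (permOK_step hperm8_14 rfl
    (permOK_step hperm8_13 rfl
    (permOK_step hperm8_12 rfl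
    (permOK_step hperm8_11 rfl
    (permOK_step hperm8_10 rfl
    (permOK_step hperm8_9 rfl
    (permOK_step hperm8_8 rfl
    (permOK_step hperm8_7 rfl
    (permOK_step hperm8_6 rfl
    (permOK_step hperm8_5 rfl
    (permOK_step hperm8_4 rfl
    (permOK_step hperm8_3 rfl
    (permOK_step hperm8_2 rfl
    (permOK_step hperm8_1 rfl
    (permOK_step hperm8_0 rfl
    (permOK_start 18360536419842404880 TT 8 tN))))))))))))))))))))

theorem hperm9 : permOneG 18360536419842404880 TT 9 tN = true :=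
  permOneG_of_OK (permOK_step hperm9_18 rfl
    (permOK_step hperm9_17 rfl
    (permOK_step hperm9_16 rfl
    (permOK_step hperm9_15 rfl
    (permOK_step hperm9_14 rfl
    (permOK_step hperm9_13 rfl
    (permOK_step hperm9_12 rfl
    (permOK_step hperm9_11 rfl
    (permOK_step hperm9_10 rfl
    (permOK_step hperm9_9 rfl
    (permOK_step hperm9_8 rfl
    (permOK_step hperm9_7 rfl
    (permOK_step hperm9_6 rfl
    (permOK_step hperm9_5 rfl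
    (permOK_step hperm9_4 rfl
    (permOK_step hperm9_3 rfl
    (permOK_step hperm9_2 rfl
    (permOK_step hperm9_1 rfl
    (permOK_step hperm9_0 rfl
    (permOK_start 18360536419842404880 TT 9 tN))))))))))))))))))))

theorem hperm10 : permOneG 18360536419842404880 TT 10 tN = true :=
  permOneG_of_OK (permOK_step hperm10_18 rfl
    (permOK_step hperm10_17 rfl
    (permOK_step hperm10_16 rfl
    (permOK_step hperm10_15 rfl
    (permOK_step hperm10_14 rfl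
    (permOK_step hperm10_13 rfl
    (permOK_step hperm10_12 rfl
    (permOK_step hperm10_11 rfl
    (permOK_step hperm10_10 rfl
    (permOK_step hperm10_9 rfl
    (permOK_step hperm10_8 rfl
    (permOK_step hperm10_7 rfl
    (permOK_step hperm10_6 rfl
    (permOK_step hperm10_5 rfl
    (permOK_step hperm10_4 rfl
    (permOK_step hperm10_3 rfl
    (permOK_step hperm10_2 rfl
    (permOK_step hperm10_1 rfl
    (permOK_step hperm10_0 rfl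
    (permOK_start 18360536419842404880 TT 10 tN))))))))))))))))))))

theorem hperm11 : permOneG 18360536419842404880 TT 11 tN = true :=
  permOneG_of_OK (permOK_step hperm11_18 rfl
    (permOK_step hperm11_17 rfl
    (permOK_step hperm11_16 rfl
    (permOK_step hperm11_15 rfl
    (permOK_step hperm11_14 rfl
    (permOK_step hperm11_13 rfl
    (permOK_step hperm11_12 rfl
    (permOK_step hperm11_11 rfl
    (permOK_step hperm11_10 rfl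
    (permOK_step hperm11_9 rfl
    (permOK_step hperm11_8 rfl
    (permOK_step hperm11_7 rfl
    (permOK_step hperm11_6 rfl
    (permOK_step hperm11_5 rfl
    (permOK_step hperm11_4 rfl
    (permOK_step hperm11_3 rfl
    (permOK_step hperm11_2 rfl
    (permOK_step hperm11_1 rfl
    (permOK_step hperm11_0 rfl
    (permOK_start 18360536419842404880 TT 11 tN))))))))))))))))))))

theorem hperm12 : permOneG 18360536419842404880 TT 12 tN = true :=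
  permOneG_of_OK (permOK_step hperm12_18 rfl
    (permOK_step hperm12_17 rfl
    (permOK_step hperm12_16 rfl
    (permOK_step hperm12_15 rfl
    (permOK_step hperm12_14 rfl
    (permOK_step hperm12_13 rfl
    (permOK_step hperm12_12 rfl
    (permOK_step hperm12_11 rfl
    (permOK_step hperm12_10 rfl
    (permOK_step hperm12_9 rfl
    (permOK_step hperm12_8 rfl
    (permOK_step hperm12_7 rfl
    (permOK_step hperm12_6 rfl
    (permOK_step hperm12_5 rfl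
    (permOK_step hperm12_4 rfl
    (permOK_step hperm12_3 rfl
    (permOK_step hperm12_2 rfl
    (permOK_step hperm12_1 rfl
    (permOK_step hperm12_0 rfl
    (permOK_start 18360536419842404880 TT 12 tN))))))))))))))))))))

theorem hperm13 : permOneG 18360536419842404880 TT 13 tN = true :=
  permOneG_of_OK (permOK_step hperm13_18 rfl
    (permOK_step hperm13_17 rfl
    (permOK_step hperm13_16 rfl
    (permOK_step hperm13_15 rfl
    (permOK_step hperm13_14 rfl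
    (permOK_step hperm13_13 rfl
    (permOK_step hperm13_12 rfl
    (permOK_step hperm13_11 rfl
    (permOK_step hperm13_10 rfl
    (permOK_step hperm13_9 rfl
    (permOK_step hperm13_8 rfl
    (permOK_step hperm13_7 rfl
    (permOK_step hperm13_6 rfl
    (permOK_step hperm13_5 rfl
    (permOK_step hperm13_4 rfl
    (permOK_step hperm13_3 rfl
    (permOK_step hperm13_2 rfl
    (permOK_step hperm13_1 rfl
    (permOK_step hperm13_0 rfl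
    (permOK_start 18360536419842404880 TT 13 tN))))))))))))))))))))

theorem hperm : permG cIV TT 14 cN = true := by
  refine permG_of_ones (fun x hx => ?_)
  interval_cases x
  · exact hperm0
  · exact hperm1
  · exact hperm2
  · exact hperm3
  · exact hperm4
  · exact hperm5
  · exact hperm6
  · exact hperm7
  · exact hperm8
  · exact hperm9
  · exact hperm10
  · exact hperm11
  · exact hperm12
  · exact hperm13

/-- words as powers -/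
def specs : List (List ℕ × ℕ) :=
  [([0, 1], 3),
   ([0, 2], 2),
   ([1, 2], 3),
   ([0, 3], 2),
   ([1, 3], 2),
   ([2, 3], 3),
   ([0, 4], 2),
   ([1, 4], 2),
   ([2, 4], 2),
   ([3, 4], 3),
   ([0, 5], 2),
   ([1, 5], 2),
   ([2, 5], 2),
   ([3, 5], 2),
   ([4, 5], 3),
   ([0, 6], 2),
   ([1, 6], 2),
   ([2, 6], 2),
   ([3, 6], 2),
   ([4, 6], 2),
   ([5, 6], 3),
   ([0, 7], 2),
   ([1, 7], 2),
   ([2, 7], 2),
   ([3, 7], 2),
   ([4, 7], 2),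
   ([5, 7], 2),
   ([6, 7], 3),
   ([0, 8], 2),
   ([1, 8], 2),
   ([2, 8], 2),
   ([3, 8], 2),
   ([4, 8], 2),
   ([5, 8], 2),
   ([6, 8], 2),
   ([7, 8], 3),
   ([0, 9], 2),
   ([1, 9], 2),
   ([2, 9], 2),
   ([3, 9], 2),
   ([4, 9], 2),
   ([5, 9], 2),
   ([6, 9], 2),
   ([7, 9], 2),
   ([8, 9], 3),
   ([0, 10], 2),
   ([1, 10], 2),
   ([2, 10], 2),
   ([3, 10], 2),
   ([4, 10], 2),
   ([5, 10], 3),
   ([6, 10], 2),
   ([7, 10], 2),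
   ([8, 10], 2),
   ([9, 10], 2),
   ([0, 11], 2),
   ([1, 11], 2),
   ([2, 11], 2),
   ([3, 11], 2),
   ([4, 11], 2),
   ([5, 11], 2),
   ([6, 11], 2),
   ([7, 11], 2),
   ([8, 11], 2),
   ([9, 11], 2),
   ([10, 11], 3),
   ([0, 10, 7, 6, 5, 4, 3, 2, 10, 7, 6, 5, 4, 3, 2, 10, 7, 6, 5, 4, 3, 2, 10, 7, 6, 5, 4, 3, 2, 10, 7, 6, 5, 4, 3, 2, 10, 7, 6, 5, 4, 3, 2, 10, 7, 6, 5, 4, 3, 2, 10, 7, 6, 5, 4, 3, 2, 10, 7, 6, 5, 4, 3, 2], 1),
   ([13, 5, 4, 3, 2, 1, 0, 5, 6, 7, 8, 9, 5, 10, 11], 1),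
   ([12], 17),
   ([0], 2),
   ([1], 2),
   ([2], 2),
   ([3], 2),
   ([4], 2),
   ([5], 2),
   ([6], 2),
   ([7], 2),
   ([8], 2),
   ([9], 2),
   ([10], 2),
   ([11], 2),
   ([12, 13], 1),
   ([13, 12], 1),
   ([], 1)]

theorem hspecs : baseL = specs.map (fun s => wpow s.1 s.2) := by
  decide +kernel

theorem hfix0 : ∀ i < tN, (Fn.applyW TT (([0, 1] : List ℕ), 3).1)^[(([0, 1] : List ℕ), 3).2] i = i :=
  Fn.fix_of_rangeOK (Fn.rangeOK_step_fix hm0_36 rfl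
    (Fn.rangeOK_step_fix hm0_35 rfl
    (Fn.rangeOK_step_fix hm0_34 rfl
    (Fn.rangeOK_step_fix hm0_33 rfl
    (Fn.rangeOK_step_fix hm0_32 rfl
    (Fn.rangeOK_step_fix hm0_31 rfl
    (Fn.rangeOK_step_fix hm0_30 rfl
    (Fn.rangeOK_step_fix hm0_29 rfl
    (Fn.rangeOK_step_fix hm0_28 rfl
    (Fn.rangeOK_step_fix hm0_27 rfl
    (Fn.rangeOK_step_fix hm0_26 rfl
    (Fn.rangeOK_step_fix hm0_25 rfl
    (Fn.rangeOK_step_fix hm0_24 rfl
    (Fn.rangeOK_step_fix hm0_23 rfl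
    (Fn.rangeOK_step_fix hm0_22 rfl
    (Fn.rangeOK_step_fix hm0_21 rfl
    (Fn.rangeOK_step_fix hm0_20 rfl
    (Fn.rangeOK_step_fix hm0_19 rfl
    (Fn.rangeOK_step_fix hm0_18 rfl
    (Fn.rangeOK_step_fix hm0_17 rfl
    (Fn.rangeOK_step_fix hm0_16 rfl
    (Fn.rangeOK_step_fix hm0_15 rfl
    (Fn.rangeOK_step_fix hm0_14 rfl
    (Fn.rangeOK_step_fix hm0_13 rfl
    (Fn.rangeOK_step_fix hm0_12 rfl
    (Fn.rangeOK_step_fix hm0_11 rfl
    (Fn.rangeOK_step_fix hm0_10 rfl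
    (Fn.rangeOK_step_fix hm0_9 rfl
    (Fn.rangeOK_step_fix hm0_8 rfl
    (Fn.rangeOK_step_fix hm0_7 rfl
    (Fn.rangeOK_step_fix hm0_6 rfl
    (Fn.rangeOK_step_fix hm0_5 rfl
    (Fn.rangeOK_step_fix hm0_4 rfl
    (Fn.rangeOK_step_fix hm0_3 rfl
    (Fn.rangeOK_step_fix hm0_2 rfl
    (Fn.rangeOK_step_fix hm0_1 rfl
    (Fn.rangeOK_step_fix hm0_0 rfl
    (Fn.rangeOK_start TT [0, 1] 3 tN))))))))))))))))))))))))))))))))))))))

theorem hfix1 : ∀ i < tN, (Fn.applyW TT (([0, 2] : List ℕ), 2).1)^[(([0, 2] : List ℕ), 2).2] i = i :=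
  Fn.fix_of_rangeOK (Fn.rangeOK_step_fix hm1_24 rfl
    (Fn.rangeOK_step_fix hm1_23 rfl
    (Fn.rangeOK_step_fix hm1_22 rfl
    (Fn.rangeOK_step_fix hm1_21 rfl
    (Fn.rangeOK_step_fix hm1_20 rfl
    (Fn.rangeOK_step_fix hm1_19 rfl
    (Fn.rangeOK_step_fix hm1_18 rfl
    (Fn.rangeOK_step_fix hm1_17 rfl
    (Fn.rangeOK_step_fix hm1_16 rfl
    (Fn.rangeOK_step_fix hm1_15 rfl
    (Fn.rangeOK_step_fix hm1_14 rfl
    (Fn.rangeOK_step_fix hm1_13 rfl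
    (Fn.rangeOK_step_fix hm1_12 rfl
    (Fn.rangeOK_step_fix hm1_11 rfl
    (Fn.rangeOK_step_fix hm1_10 rfl
    (Fn.rangeOK_step_fix hm1_9 rfl
    (Fn.rangeOK_step_fix hm1_8 rfl
    (Fn.rangeOK_step_fix hm1_7 rfl
    (Fn.rangeOK_step_fix hm1_6 rfl
    (Fn.rangeOK_step_fix hm1_5 rfl
    (Fn.rangeOK_step_fix hm1_4 rfl
    (Fn.rangeOK_step_fix hm1_3 rfl
    (Fn.rangeOK_step_fix hm1_2 rfl
    (Fn.rangeOK_step_fix hm1_1 rfl
    (Fn.rangeOK_step_fix hm1_0 rfl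
    (Fn.rangeOK_start TT [0, 2] 2 tN))))))))))))))))))))))))))

theorem hfix2 : ∀ i < tN, (Fn.applyW TT (([1, 2] : List ℕ), 3).1)^[(([1, 2] : List ℕ), 3).2] i = i :=
  Fn.fix_of_rangeOK (Fn.rangeOK_step_fix hm2_36 rfl
    (Fn.rangeOK_step_fix hm2_35 rfl
    (Fn.rangeOK_step_fix hm2_34 rfl
    (Fn.rangeOK_step_fix hm2_33 rfl
    (Fn.rangeOK_step_fix hm2_32 rfl
    (Fn.rangeOK_step_fix hm2_31 rfl
    (Fn.rangeOK_step_fix hm2_30 rfl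
    (Fn.rangeOK_step_fix hm2_29 rfl
    (Fn.rangeOK_step_fix hm2_28 rfl
    (Fn.rangeOK_step_fix hm2_27 rfl
    (Fn.rangeOK_step_fix hm2_26 rfl
    (Fn.rangeOK_step_fix hm2_25 rfl
    (Fn.rangeOK_step_fix hm2_24 rfl
    (Fn.rangeOK_step_fix hm2_23 rfl
    (Fn.rangeOK_step_fix hm2_22 rfl
    (Fn.rangeOK_step_fix hm2_21 rfl
    (Fn.rangeOK_step_fix hm2_20 rfl
    (Fn.rangeOK_step_fix hm2_19 rfl
    (Fn.rangeOK_step_fix hm2_18 rfl
    (Fn.rangeOK_step_fix hm2_17 rfl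
    (Fn.rangeOK_step_fix hm2_16 rfl
    (Fn.rangeOK_step_fix hm2_15 rfl
    (Fn.rangeOK_step_fix hm2_14 rfl
    (Fn.rangeOK_step_fix hm2_13 rfl
    (Fn.rangeOK_step_fix hm2_12 rfl
    (Fn.rangeOK_step_fix hm2_11 rfl
    (Fn.rangeOK_step_fix hm2_10 rfl
    (Fn.rangeOK_step_fix hm2_9 rfl
    (Fn.rangeOK_step_fix hm2_8 rfl
    (Fn.rangeOK_step_fix hm2_7 rfl
    (Fn.rangeOK_step_fix hm2_6 rfl
    (Fn.rangeOK_step_fix hm2_5 rfl
    (Fn.rangeOK_step_fix hm2_4 rfl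
    (Fn.rangeOK_step_fix hm2_3 rfl
    (Fn.rangeOK_step_fix hm2_2 rfl
    (Fn.rangeOK_step_fix hm2_1 rfl
    (Fn.rangeOK_step_fix hm2_0 rfl
    (Fn.rangeOK_start TT [1, 2] 3 tN))))))))))))))))))))))))))))))))))))))

theorem hfix3 : ∀ i < tN, (Fn.applyW TT (([0, 3] : List ℕ), 2).1)^[(([0, 3] : List ℕ), 2).2] i = i :=
  Fn.fix_of_rangeOK (Fn.rangeOK_step_fix hm3_24 rfl
    (Fn.rangeOK_step_fix hm3_23 rfl
    (Fn.rangeOK_step_fix hm3_22 rfl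
    (Fn.rangeOK_step_fix hm3_21 rfl
    (Fn.rangeOK_step_fix hm3_20 rfl
    (Fn.rangeOK_step_fix hm3_19 rfl
    (Fn.rangeOK_step_fix hm3_18 rfl
    (Fn.rangeOK_step_fix hm3_17 rfl
    (Fn.rangeOK_step_fix hm3_16 rfl
    (Fn.rangeOK_step_fix hm3_15 rfl
    (Fn.rangeOK_step_fix hm3_14 rfl
    (Fn.rangeOK_step_fix hm3_13 rfl
    (Fn.rangeOK_step_fix hm3_12 rfl
    (Fn.rangeOK_step_fix hm3_11 rfl
    (Fn.rangeOK_step_fix hm3_10 rfl
    (Fn.rangeOK_step_fix hm3_9 rfl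
    (Fn.rangeOK_step_fix hm3_8 rfl
    (Fn.rangeOK_step_fix hm3_7 rfl
    (Fn.rangeOK_step_fix hm3_6 rfl
    (Fn.rangeOK_step_fix hm3_5 rfl
    (Fn.rangeOK_step_fix hm3_4 rfl
    (Fn.rangeOK_step_fix hm3_3 rfl
    (Fn.rangeOK_step_fix hm3_2 rfl
    (Fn.rangeOK_step_fix hm3_1 rfl
    (Fn.rangeOK_step_fix hm3_0 rfl
    (Fn.rangeOK_start TT [0, 3] 2 tN))))))))))))))))))))))))))

theorem hfix4 : ∀ i < tN, (Fn.applyW TT (([1, 3] : List ℕ), 2).1)^[(([1, 3] : List ℕ), 2).2] i = i :=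
  Fn.fix_of_rangeOK (Fn.rangeOK_step_fix hm4_24 rfl
    (Fn.rangeOK_step_fix hm4_23 rfl
    (Fn.rangeOK_step_fix hm4_22 rfl
    (Fn.rangeOK_step_fix hm4_21 rfl
    (Fn.rangeOK_step_fix hm4_20 rfl
    (Fn.rangeOK_step_fix hm4_19 rfl
    (Fn.rangeOK_step_fix hm4_18 rfl
    (Fn.rangeOK_step_fix hm4_17 rfl
    (Fn.rangeOK_step_fix hm4_16 rfl
    (Fn.rangeOK_step_fix hm4_15 rfl
    (Fn.rangeOK_step_fix hm4_14 rfl
    (Fn.rangeOK_step_fix hm4_13 rfl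
    (Fn.rangeOK_step_fix hm4_12 rfl
    (Fn.rangeOK_step_fix hm4_11 rfl
    (Fn.rangeOK_step_fix hm4_10 rfl
    (Fn.rangeOK_step_fix hm4_9 rfl
    (Fn.rangeOK_step_fix hm4_8 rfl
    (Fn.rangeOK_step_fix hm4_7 rfl
    (Fn.rangeOK_step_fix hm4_6 rfl
    (Fn.rangeOK_step_fix hm4_5 rfl
    (Fn.rangeOK_step_fix hm4_4 rfl
    (Fn.rangeOK_step_fix hm4_3 rfl
    (Fn.rangeOK_step_fix hm4_2 rfl
    (Fn.rangeOK_step_fix hm4_1 rfl
    (Fn.rangeOK_step_fix hm4_0 rfl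
    (Fn.rangeOK_start TT [1, 3] 2 tN))))))))))))))))))))))))))

theorem hfix5 : ∀ i < tN, (Fn.applyW TT (([2, 3] : List ℕ), 3).1)^[(([2, 3] : List ℕ), 3).2] i = i :=
  Fn.fix_of_rangeOK (Fn.rangeOK_step_fix hm5_36 rfl
    (Fn.rangeOK_step_fix hm5_35 rfl
    (Fn.rangeOK_step_fix hm5_34 rfl
    (Fn.rangeOK_step_fix hm5_33 rfl
    (Fn.rangeOK_step_fix hm5_32 rfl
    (Fn.rangeOK_step_fix hm5_31 rfl
    (Fn.rangeOK_step_fix hm5_30 rfl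
    (Fn.rangeOK_step_fix hm5_29 rfl
    (Fn.rangeOK_step_fix hm5_28 rfl
    (Fn.rangeOK_step_fix hm5_27 rfl
    (Fn.rangeOK_step_fix hm5_26 rfl
    (Fn.rangeOK_step_fix hm5_25 rfl
    (Fn.rangeOK_step_fix hm5_24 rfl
    (Fn.rangeOK_step_fix hm5_23 rfl
    (Fn.rangeOK_step_fix hm5_22 rfl
    (Fn.rangeOK_step_fix hm5_21 rfl
    (Fn.rangeOK_step_fix hm5_20 rfl
    (Fn.rangeOK_step_fix hm5_19 rfl
    (Fn.rangeOK_step_fix hm5_18 rfl
    (Fn.rangeOK_step_fix hm5_17 rfl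
    (Fn.rangeOK_step_fix hm5_16 rfl
    (Fn.rangeOK_step_fix hm5_15 rfl
    (Fn.rangeOK_step_fix hm5_14 rfl
    (Fn.rangeOK_step_fix hm5_13 rfl
    (Fn.rangeOK_step_fix hm5_12 rfl
    (Fn.rangeOK_step_fix hm5_11 rfl
    (Fn.rangeOK_step_fix hm5_10 rfl
    (Fn.rangeOK_step_fix hm5_9 rfl
    (Fn.rangeOK_step_fix hm5_8 rfl
    (Fn.rangeOK_step_fix hm5_7 rfl
    (Fn.rangeOK_step_fix hm5_6 rfl
    (Fn.rangeOK_step_fix hm5_5 rfl
    (Fn.rangeOK_step_fix hm5_4 rfl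
    (Fn.rangeOK_step_fix hm5_3 rfl
    (Fn.rangeOK_step_fix hm5_2 rfl
    (Fn.rangeOK_step_fix hm5_1 rfl
    (Fn.rangeOK_step_fix hm5_0 rfl
    (Fn.rangeOK_start TT [2, 3] 3 tN))))))))))))))))))))))))))))))))))))))

theorem hfix6 : ∀ i < tN, (Fn.applyW TT (([0, 4] : List ℕ), 2).1)^[(([0, 4] : List ℕ), 2).2] i = i :=
  Fn.fix_of_rangeOK (Fn.rangeOK_step_fix hm6_24 rfl
    (Fn.rangeOK_step_fix hm6_23 rfl
    (Fn.rangeOK_step_fix hm6_22 rfl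
    (Fn.rangeOK_step_fix hm6_21 rfl
    (Fn.rangeOK_step_fix hm6_20 rfl
    (Fn.rangeOK_step_fix hm6_19 rfl
    (Fn.rangeOK_step_fix hm6_18 rfl
    (Fn.rangeOK_step_fix hm6_17 rfl
    (Fn.rangeOK_step_fix hm6_16 rfl
    (Fn.rangeOK_step_fix hm6_15 rfl
    (Fn.rangeOK_step_fix hm6_14 rfl
    (Fn.rangeOK_step_fix hm6_13 rfl
    (Fn.rangeOK_step_fix hm6_12 rfl
    (Fn.rangeOK_step_fix hm6_11 rfl
    (Fn.rangeOK_step_fix hm6_10 rfl
    (Fn.rangeOK_step_fix hm6_9 rfl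
    (Fn.rangeOK_step_fix hm6_8 rfl
    (Fn.rangeOK_step_fix hm6_7 rfl
    (Fn.rangeOK_step_fix hm6_6 rfl
    (Fn.rangeOK_step_fix hm6_5 rfl
    (Fn.rangeOK_step_fix hm6_4 rfl
    (Fn.rangeOK_step_fix hm6_3 rfl
    (Fn.rangeOK_step_fix hm6_2 rfl
    (Fn.rangeOK_step_fix hm6_1 rfl
    (Fn.rangeOK_step_fix hm6_0 rfl
    (Fn.rangeOK_start TT [0, 4] 2 tN))))))))))))))))))))))))))

theorem hfix7 : ∀ i < tN, (Fn.applyW TT (([1, 4] : List ℕ), 2).1)^[(([1, 4] : List ℕ), 2).2] i = i :=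
  Fn.fix_of_rangeOK (Fn.rangeOK_step_fix hm7_24 rfl
    (Fn.rangeOK_step_fix hm7_23 rfl
    (Fn.rangeOK_step_fix hm7_22 rfl
    (Fn.rangeOK_step_fix hm7_21 rfl
    (Fn.rangeOK_step_fix hm7_20 rfl
    (Fn.rangeOK_step_fix hm7_19 rfl
    (Fn.rangeOK_step_fix hm7_18 rfl
    (Fn.rangeOK_step_fix hm7_17 rfl
    (Fn.rangeOK_step_fix hm7_16 rfl
    (Fn.rangeOK_step_fix hm7_15 rfl
    (Fn.rangeOK_step_fix hm7_14 rfl
    (Fn.rangeOK_step_fix hm7_13 rfl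
    (Fn.rangeOK_step_fix hm7_12 rfl
    (Fn.rangeOK_step_fix hm7_11 rfl
    (Fn.rangeOK_step_fix hm7_10 rfl
    (Fn.rangeOK_step_fix hm7_9 rfl
    (Fn.rangeOK_step_fix hm7_8 rfl
    (Fn.rangeOK_step_fix hm7_7 rfl
    (Fn.rangeOK_step_fix hm7_6 rfl
    (Fn.rangeOK_step_fix hm7_5 rfl
    (Fn.rangeOK_step_fix hm7_4 rfl
    (Fn.rangeOK_step_fix hm7_3 rfl
    (Fn.rangeOK_step_fix hm7_2 rfl
    (Fn.rangeOK_step_fix hm7_1 rfl
    (Fn.rangeOK_step_fix hm7_0 rfl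
    (Fn.rangeOK_start TT [1, 4] 2 tN))))))))))))))))))))))))))

theorem hfix8 : ∀ i < tN, (Fn.applyW TT (([2, 4] : List ℕ), 2).1)^[(([2, 4] : List ℕ), 2).2] i = i :=
  Fn.fix_of_rangeOK (Fn.rangeOK_step_fix hm8_24 rfl
    (Fn.rangeOK_step_fix hm8_23 rfl
    (Fn.rangeOK_step_fix hm8_22 rfl
    (Fn.rangeOK_step_fix hm8_21 rfl
    (Fn.rangeOK_step_fix hm8_20 rfl
    (Fn.rangeOK_step_fix hm8_19 rfl
    (Fn.rangeOK_step_fix hm8_18 rfl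
    (Fn.rangeOK_step_fix hm8_17 rfl
    (Fn.rangeOK_step_fix hm8_16 rfl
    (Fn.rangeOK_step_fix hm8_15 rfl
    (Fn.rangeOK_step_fix hm8_14 rfl
    (Fn.rangeOK_step_fix hm8_13 rfl
    (Fn.rangeOK_step_fix hm8_12 rfl
    (Fn.rangeOK_step_fix hm8_11 rfl
    (Fn.rangeOK_step_fix hm8_10 rfl
    (Fn.rangeOK_step_fix hm8_9 rfl
    (Fn.rangeOK_step_fix hm8_8 rfl
    (Fn.rangeOK_step_fix hm8_7 rfl
    (Fn.rangeOK_step_fix hm8_6 rfl
    (Fn.rangeOK_step_fix hm8_5 rfl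
    (Fn.rangeOK_step_fix hm8_4 rfl
    (Fn.rangeOK_step_fix hm8_3 rfl
    (Fn.rangeOK_step_fix hm8_2 rfl
    (Fn.rangeOK_step_fix hm8_1 rfl
    (Fn.rangeOK_step_fix hm8_0 rfl
    (Fn.rangeOK_start TT [2, 4] 2 tN))))))))))))))))))))))))))

theorem hfix9 : ∀ i < tN, (Fn.applyW TT (([3, 4] : List ℕ), 3).1)^[(([3, 4] : List ℕ), 3).2] i = i :=
  Fn.fix_of_rangeOK (Fn.rangeOK_step_fix hm9_36 rfl
    (Fn.rangeOK_step_fix hm9_35 rfl
    (Fn.rangeOK_step_fix hm9_34 rfl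
    (Fn.rangeOK_step_fix hm9_33 rfl
    (Fn.rangeOK_step_fix hm9_32 rfl
    (Fn.rangeOK_step_fix hm9_31 rfl
    (Fn.rangeOK_step_fix hm9_30 rfl
    (Fn.rangeOK_step_fix hm9_29 rfl
    (Fn.rangeOK_step_fix hm9_28 rfl
    (Fn.rangeOK_step_fix hm9_27 rfl
    (Fn.rangeOK_step_fix hm9_26 rfl
    (Fn.rangeOK_step_fix hm9_25 rfl
    (Fn.rangeOK_step_fix hm9_24 rfl
    (Fn.rangeOK_step_fix hm9_23 rfl
    (Fn.rangeOK_step_fix hm9_22 rfl
    (Fn.rangeOK_step_fix hm9_21 rfl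
    (Fn.rangeOK_step_fix hm9_20 rfl
    (Fn.rangeOK_step_fix hm9_19 rfl
    (Fn.rangeOK_step_fix hm9_18 rfl
    (Fn.rangeOK_step_fix hm9_17 rfl
    (Fn.rangeOK_step_fix hm9_16 rfl
    (Fn.rangeOK_step_fix hm9_15 rfl
    (Fn.rangeOK_step_fix hm9_14 rfl
    (Fn.rangeOK_step_fix hm9_13 rfl
    (Fn.rangeOK_step_fix hm9_12 rfl
    (Fn.rangeOK_step_fix hm9_11 rfl
    (Fn.rangeOK_step_fix hm9_10 rfl
    (Fn.rangeOK_step_fix hm9_9 rfl
    (Fn.rangeOK_step_fix hm9_8 rfl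
    (Fn.rangeOK_step_fix hm9_7 rfl
    (Fn.rangeOK_step_fix hm9_6 rfl
    (Fn.rangeOK_step_fix hm9_5 rfl
    (Fn.rangeOK_step_fix hm9_4 rfl
    (Fn.rangeOK_step_fix hm9_3 rfl
    (Fn.rangeOK_step_fix hm9_2 rfl
    (Fn.rangeOK_step_fix hm9_1 rfl
    (Fn.rangeOK_step_fix hm9_0 rfl
    (Fn.rangeOK_start TT [3, 4] 3 tN))))))))))))))))))))))))))))))))))))))

theorem hfix10 : ∀ i < tN, (Fn.applyW TT (([0, 5] : List ℕ), 2).1)^[(([0, 5] : List ℕ), 2).2] i = i :=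
  Fn.fix_of_rangeOK (Fn.rangeOK_step_fix hm10_24 rfl
    (Fn.rangeOK_step_fix hm10_23 rfl
    (Fn.rangeOK_step_fix hm10_22 rfl
    (Fn.rangeOK_step_fix hm10_21 rfl
    (Fn.rangeOK_step_fix hm10_20 rfl
    (Fn.rangeOK_step_fix hm10_19 rfl
    (Fn.rangeOK_step_fix hm10_18 rfl
    (Fn.rangeOK_step_fix hm10_17 rfl
    (Fn.rangeOK_step_fix hm10_16 rfl
    (Fn.rangeOK_step_fix hm10_15 rfl
    (Fn.rangeOK_step_fix hm10_14 rfl
    (Fn.rangeOK_step_fix hm10_13 rfl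
    (Fn.rangeOK_step_fix hm10_12 rfl
    (Fn.rangeOK_step_fix hm10_11 rfl
    (Fn.rangeOK_step_fix hm10_10 rfl
    (Fn.rangeOK_step_fix hm10_9 rfl
    (Fn.rangeOK_step_fix hm10_8 rfl
    (Fn.rangeOK_step_fix hm10_7 rfl
    (Fn.rangeOK_step_fix hm10_6 rfl
    (Fn.rangeOK_step_fix hm10_5 rfl
    (Fn.rangeOK_step_fix hm10_4 rfl
    (Fn.rangeOK_step_fix hm10_3 rfl
    (Fn.rangeOK_step_fix hm10_2 rfl
    (Fn.rangeOK_step_fix hm10_1 rfl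
    (Fn.rangeOK_step_fix hm10_0 rfl
    (Fn.rangeOK_start TT [0, 5] 2 tN))))))))))))))))))))))))))

theorem hfix11 : ∀ i < tN, (Fn.applyW TT (([1, 5] : List ℕ), 2).1)^[(([1, 5] : List ℕ), 2).2] i = i :=
  Fn.fix_of_rangeOK (Fn.rangeOK_step_fix hm11_24 rfl
    (Fn.rangeOK_step_fix hm11_23 rfl
    (Fn.rangeOK_step_fix hm11_22 rfl
    (Fn.rangeOK_step_fix hm11_21 rfl
    (Fn.rangeOK_step_fix hm11_20 rfl
    (Fn.rangeOK_step_fix hm11_19 rfl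
    (Fn.rangeOK_step_fix hm11_18 rfl
    (Fn.rangeOK_step_fix hm11_17 rfl
    (Fn.rangeOK_step_fix hm11_16 rfl
    (Fn.rangeOK_step_fix hm11_15 rfl
    (Fn.rangeOK_step_fix hm11_14 rfl
    (Fn.rangeOK_step_fix hm11_13 rfl
    (Fn.rangeOK_step_fix hm11_12 rfl
    (Fn.rangeOK_step_fix hm11_11 rfl
    (Fn.rangeOK_step_fix hm11_10 rfl
    (Fn.rangeOK_step_fix hm11_9 rfl
    (Fn.rangeOK_step_fix hm11_8 rfl
    (Fn.rangeOK_step_fix hm11_7 rfl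
    (Fn.rangeOK_step_fix hm11_6 rfl
    (Fn.rangeOK_step_fix hm11_5 rfl
    (Fn.rangeOK_step_fix hm11_4 rfl
    (Fn.rangeOK_step_fix hm11_3 rfl
    (Fn.rangeOK_step_fix hm11_2 rfl
    (Fn.rangeOK_step_fix hm11_1 rfl
    (Fn.rangeOK_step_fix hm11_0 rfl
    (Fn.rangeOK_start TT [1, 5] 2 tN))))))))))))))))))))))))))

theorem hfix12 : ∀ i < tN, (Fn.applyW TT (([2, 5] : List ℕ), 2).1)^[(([2, 5] : List ℕ), 2).2] i = i :=
  Fn.fix_of_rangeOK (Fn.rangeOK_step_fix hm12_24 rfl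
    (Fn.rangeOK_step_fix hm12_23 rfl
    (Fn.rangeOK_step_fix hm12_22 rfl
    (Fn.rangeOK_step_fix hm12_21 rfl
    (Fn.rangeOK_step_fix hm12_20 rfl
    (Fn.rangeOK_step_fix hm12_19 rfl
    (Fn.rangeOK_step_fix hm12_18 rfl
    (Fn.rangeOK_step_fix hm12_17 rfl
    (Fn.rangeOK_step_fix hm12_16 rfl
    (Fn.rangeOK_step_fix hm12_15 rfl
    (Fn.rangeOK_step_fix hm12_14 rfl
    (Fn.rangeOK_step_fix hm12_13 rfl
    (Fn.rangeOK_step_fix hm12_12 rfl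
    (Fn.rangeOK_step_fix hm12_11 rfl
    (Fn.rangeOK_step_fix hm12_10 rfl
    (Fn.rangeOK_step_fix hm12_9 rfl
    (Fn.rangeOK_step_fix hm12_8 rfl
    (Fn.rangeOK_step_fix hm12_7 rfl
    (Fn.rangeOK_step_fix hm12_6 rfl
    (Fn.rangeOK_step_fix hm12_5 rfl
    (Fn.rangeOK_step_fix hm12_4 rfl
    (Fn.rangeOK_step_fix hm12_3 rfl
    (Fn.rangeOK_step_fix hm12_2 rfl
    (Fn.rangeOK_step_fix hm12_1 rfl
    (Fn.rangeOK_step_fix hm12_0 rfl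
    (Fn.rangeOK_start TT [2, 5] 2 tN))))))))))))))))))))))))))

theorem hfix13 : ∀ i < tN, (Fn.applyW TT (([3, 5] : List ℕ), 2).1)^[(([3, 5] : List ℕ), 2).2] i = i :=
  Fn.fix_of_rangeOK (Fn.rangeOK_step_fix hm13_24 rfl
    (Fn.rangeOK_step_fix hm13_23 rfl
    (Fn.rangeOK_step_fix hm13_22 rfl
    (Fn.rangeOK_step_fix hm13_21 rfl
    (Fn.rangeOK_step_fix hm13_20 rfl
    (Fn.rangeOK_step_fix hm13_19 rfl
    (Fn.rangeOK_step_fix hm13_18 rfl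
    (Fn.rangeOK_step_fix hm13_17 rfl
    (Fn.rangeOK_step_fix hm13_16 rfl
    (Fn.rangeOK_step_fix hm13_15 rfl
    (Fn.rangeOK_step_fix hm13_14 rfl
    (Fn.rangeOK_step_fix hm13_13 rfl
    (Fn.rangeOK_step_fix hm13_12 rfl
    (Fn.rangeOK_step_fix hm13_11 rfl
    (Fn.rangeOK_step_fix hm13_10 rfl
    (Fn.rangeOK_step_fix hm13_9 rfl
    (Fn.rangeOK_step_fix hm13_8 rfl
    (Fn.rangeOK_step_fix hm13_7 rfl
    (Fn.rangeOK_step_fix hm13_6 rfl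
    (Fn.rangeOK_step_fix hm13_5 rfl
    (Fn.rangeOK_step_fix hm13_4 rfl
    (Fn.rangeOK_step_fix hm13_3 rfl
    (Fn.rangeOK_step_fix hm13_2 rfl
    (Fn.rangeOK_step_fix hm13_1 rfl
    (Fn.rangeOK_step_fix hm13_0 rfl
    (Fn.rangeOK_start TT [3, 5] 2 tN))))))))))))))))))))))))))

theorem hfix14 : ∀ i < tN, (Fn.applyW TT (([4, 5] : List ℕ), 3).1)^[(([4, 5] : List ℕ), 3).2] i = i :=
  Fn.fix_of_rangeOK (Fn.rangeOK_step_fix hm14_36 rfl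
    (Fn.rangeOK_step_fix hm14_35 rfl
    (Fn.rangeOK_step_fix hm14_34 rfl
    (Fn.rangeOK_step_fix hm14_33 rfl
    (Fn.rangeOK_step_fix hm14_32 rfl
    (Fn.rangeOK_step_fix hm14_31 rfl
    (Fn.rangeOK_step_fix hm14_30 rfl
    (Fn.rangeOK_step_fix hm14_29 rfl
    (Fn.rangeOK_step_fix hm14_28 rfl
    (Fn.rangeOK_step_fix hm14_27 rfl
    (Fn.rangeOK_step_fix hm14_26 rfl
    (Fn.rangeOK_step_fix hm14_25 rfl
    (Fn.rangeOK_step_fix hm14_24 rfl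
    (Fn.rangeOK_step_fix hm14_23 rfl
    (Fn.rangeOK_step_fix hm14_22 rfl
    (Fn.rangeOK_step_fix hm14_21 rfl
    (Fn.rangeOK_step_fix hm14_20 rfl
    (Fn.rangeOK_step_fix hm14_19 rfl
    (Fn.rangeOK_step_fix hm14_18 rfl
    (Fn.rangeOK_step_fix hm14_17 rfl
    (Fn.rangeOK_step_fix hm14_16 rfl
    (Fn.rangeOK_step_fix hm14_15 rfl
    (Fn.rangeOK_step_fix hm14_14 rfl
    (Fn.rangeOK_step_fix hm14_13 rfl
    (Fn.rangeOK_step_fix hm14_12 rfl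
    (Fn.rangeOK_step_fix hm14_11 rfl
    (Fn.rangeOK_step_fix hm14_10 rfl
    (Fn.rangeOK_step_fix hm14_9 rfl
    (Fn.rangeOK_step_fix hm14_8 rfl
    (Fn.rangeOK_step_fix hm14_7 rfl
    (Fn.rangeOK_step_fix hm14_6 rfl
    (Fn.rangeOK_step_fix hm14_5 rfl
    (Fn.rangeOK_step_fix hm14_4 rfl
    (Fn.rangeOK_step_fix hm14_3 rfl
    (Fn.rangeOK_step_fix hm14_2 rfl
    (Fn.rangeOK_step_fix hm14_1 rfl
    (Fn.rangeOK_step_fix hm14_0 rfl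
    (Fn.rangeOK_start TT [4, 5] 3 tN))))))))))))))))))))))))))))))))))))))

theorem hfix15 : ∀ i < tN, (Fn.applyW TT (([0, 6] : List ℕ), 2).1)^[(([0, 6] : List ℕ), 2).2] i = i :=
  Fn.fix_of_rangeOK (Fn.rangeOK_step_fix hm15_24 rfl
    (Fn.rangeOK_step_fix hm15_23 rfl
    (Fn.rangeOK_step_fix hm15_22 rfl
    (Fn.rangeOK_step_fix hm15_21 rfl
    (Fn.rangeOK_step_fix hm15_20 rfl
    (Fn.rangeOK_step_fix hm15_19 rfl
    (Fn.rangeOK_step_fix hm15_18 rfl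
    (Fn.rangeOK_step_fix hm15_17 rfl
    (Fn.rangeOK_step_fix hm15_16 rfl
    (Fn.rangeOK_step_fix hm15_15 rfl
    (Fn.rangeOK_step_fix hm15_14 rfl
    (Fn.rangeOK_step_fix hm15_13 rfl
    (Fn.rangeOK_step_fix hm15_12 rfl
    (Fn.rangeOK_step_fix hm15_11 rfl
    (Fn.rangeOK_step_fix hm15_10 rfl
    (Fn.rangeOK_step_fix hm15_9 rfl
    (Fn.rangeOK_step_fix hm15_8 rfl
    (Fn.rangeOK_step_fix hm15_7 rfl
    (Fn.rangeOK_step_fix hm15_6 rfl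
    (Fn.rangeOK_step_fix hm15_5 rfl
    (Fn.rangeOK_step_fix hm15_4 rfl
    (Fn.rangeOK_step_fix hm15_3 rfl
    (Fn.rangeOK_step_fix hm15_2 rfl
    (Fn.rangeOK_step_fix hm15_1 rfl
    (Fn.rangeOK_step_fix hm15_0 rfl
    (Fn.rangeOK_start TT [0, 6] 2 tN))))))))))))))))))))))))))

theorem hfix16 : ∀ i < tN, (Fn.applyW TT (([1, 6] : List ℕ), 2).1)^[(([1, 6] : List ℕ), 2).2] i = i :=
  Fn.fix_of_rangeOK (Fn.rangeOK_step_fix hm16_24 rfl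
    (Fn.rangeOK_step_fix hm16_23 rfl
    (Fn.rangeOK_step_fix hm16_22 rfl
    (Fn.rangeOK_step_fix hm16_21 rfl
    (Fn.rangeOK_step_fix hm16_20 rfl
    (Fn.rangeOK_step_fix hm16_19 rfl
    (Fn.rangeOK_step_fix hm16_18 rfl
    (Fn.rangeOK_step_fix hm16_17 rfl
    (Fn.rangeOK_step_fix hm16_16 rfl
    (Fn.rangeOK_step_fix hm16_15 rfl
    (Fn.rangeOK_step_fix hm16_14 rfl
    (Fn.rangeOK_step_fix hm16_13 rfl
    (Fn.rangeOK_step_fix hm16_12 rfl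
    (Fn.rangeOK_step_fix hm16_11 rfl
    (Fn.rangeOK_step_fix hm16_10 rfl
    (Fn.rangeOK_step_fix hm16_9 rfl
    (Fn.rangeOK_step_fix hm16_8 rfl
    (Fn.rangeOK_step_fix hm16_7 rfl
    (Fn.rangeOK_step_fix hm16_6 rfl
    (Fn.rangeOK_step_fix hm16_5 rfl
    (Fn.rangeOK_step_fix hm16_4 rfl
    (Fn.rangeOK_step_fix hm16_3 rfl
    (Fn.rangeOK_step_fix hm16_2 rfl
    (Fn.rangeOK_step_fix hm16_1 rfl
    (Fn.rangeOK_step_fix hm16_0 rfl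
    (Fn.rangeOK_start TT [1, 6] 2 tN))))))))))))))))))))))))))

theorem hfix17 : ∀ i < tN, (Fn.applyW TT (([2, 6] : List ℕ), 2).1)^[(([2, 6] : List ℕ), 2).2] i = i :=
  Fn.fix_of_rangeOK (Fn.rangeOK_step_fix hm17_24 rfl
    (Fn.rangeOK_step_fix hm17_23 rfl
    (Fn.rangeOK_step_fix hm17_22 rfl
    (Fn.rangeOK_step_fix hm17_21 rfl
    (Fn.rangeOK_step_fix hm17_20 rfl
    (Fn.rangeOK_step_fix hm17_19 rfl
    (Fn.rangeOK_step_fix hm17_18 rfl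
    (Fn.rangeOK_step_fix hm17_17 rfl
    (Fn.rangeOK_step_fix hm17_16 rfl
    (Fn.rangeOK_step_fix hm17_15 rfl
    (Fn.rangeOK_step_fix hm17_14 rfl
    (Fn.rangeOK_step_fix hm17_13 rfl
    (Fn.rangeOK_step_fix hm17_12 rfl
    (Fn.rangeOK_step_fix hm17_11 rfl
    (Fn.rangeOK_step_fix hm17_10 rfl
    (Fn.rangeOK_step_fix hm17_9 rfl
    (Fn.rangeOK_step_fix hm17_8 rfl
    (Fn.rangeOK_step_fix hm17_7 rfl
    (Fn.rangeOK_step_fix hm17_6 rfl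
    (Fn.rangeOK_step_fix hm17_5 rfl
    (Fn.rangeOK_step_fix hm17_4 rfl
    (Fn.rangeOK_step_fix hm17_3 rfl
    (Fn.rangeOK_step_fix hm17_2 rfl
    (Fn.rangeOK_step_fix hm17_1 rfl
    (Fn.rangeOK_step_fix hm17_0 rfl
    (Fn.rangeOK_start TT [2, 6] 2 tN))))))))))))))))))))))))))

theorem hfix18 : ∀ i < tN, (Fn.applyW TT (([3, 6] : List ℕ), 2).1)^[(([3, 6] : List ℕ), 2).2] i = i :=
  Fn.fix_of_rangeOK (Fn.rangeOK_step_fix hm18_24 rfl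
    (Fn.rangeOK_step_fix hm18_23 rfl
    (Fn.rangeOK_step_fix hm18_22 rfl
    (Fn.rangeOK_step_fix hm18_21 rfl
    (Fn.rangeOK_step_fix hm18_20 rfl
    (Fn.rangeOK_step_fix hm18_19 rfl
    (Fn.rangeOK_step_fix hm18_18 rfl
    (Fn.rangeOK_step_fix hm18_17 rfl
    (Fn.rangeOK_step_fix hm18_16 rfl
    (Fn.rangeOK_step_fix hm18_15 rfl
    (Fn.rangeOK_step_fix hm18_14 rfl
    (Fn.rangeOK_step_fix hm18_13 rfl
    (Fn.rangeOK_step_fix hm18_12 rfl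
    (Fn.rangeOK_step_fix hm18_11 rfl
    (Fn.rangeOK_step_fix hm18_10 rfl
    (Fn.rangeOK_step_fix hm18_9 rfl
    (Fn.rangeOK_step_fix hm18_8 rfl
    (Fn.rangeOK_step_fix hm18_7 rfl
    (Fn.rangeOK_step_fix hm18_6 rfl
    (Fn.rangeOK_step_fix hm18_5 rfl
    (Fn.rangeOK_step_fix hm18_4 rfl
    (Fn.rangeOK_step_fix hm18_3 rfl
    (Fn.rangeOK_step_fix hm18_2 rfl
    (Fn.rangeOK_step_fix hm18_1 rfl
    (Fn.rangeOK_step_fix hm18_0 rfl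
    (Fn.rangeOK_start TT [3, 6] 2 tN))))))))))))))))))))))))))

theorem hfix19 : ∀ i < tN, (Fn.applyW TT (([4, 6] : List ℕ), 2).1)^[(([4, 6] : List ℕ), 2).2] i = i :=
  Fn.fix_of_rangeOK (Fn.rangeOK_step_fix hm19_24 rfl
    (Fn.rangeOK_step_fix hm19_23 rfl
    (Fn.rangeOK_step_fix hm19_22 rfl
    (Fn.rangeOK_step_fix hm19_21 rfl
    (Fn.rangeOK_step_fix hm19_20 rfl
    (Fn.rangeOK_step_fix hm19_19 rfl
    (Fn.rangeOK_step_fix hm19_18 rfl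
    (Fn.rangeOK_step_fix hm19_17 rfl
    (Fn.rangeOK_step_fix hm19_16 rfl
    (Fn.rangeOK_step_fix hm19_15 rfl
    (Fn.rangeOK_step_fix hm19_14 rfl
    (Fn.rangeOK_step_fix hm19_13 rfl
    (Fn.rangeOK_step_fix hm19_12 rfl
    (Fn.rangeOK_step_fix hm19_11 rfl
    (Fn.rangeOK_step_fix hm19_10 rfl
    (Fn.rangeOK_step_fix hm19_9 rfl
    (Fn.rangeOK_step_fix hm19_8 rfl
    (Fn.rangeOK_step_fix hm19_7 rfl
    (Fn.rangeOK_step_fix hm19_6 rfl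
    (Fn.rangeOK_step_fix hm19_5 rfl
    (Fn.rangeOK_step_fix hm19_4 rfl
    (Fn.rangeOK_step_fix hm19_3 rfl
    (Fn.rangeOK_step_fix hm19_2 rfl
    (Fn.rangeOK_step_fix hm19_1 rfl
    (Fn.rangeOK_step_fix hm19_0 rfl
    (Fn.rangeOK_start TT [4, 6] 2 tN))))))))))))))))))))))))))

theorem hfix20 : ∀ i < tN, (Fn.applyW TT (([5, 6] : List ℕ), 3).1)^[(([5, 6] : List ℕ), 3).2] i = i :=
  Fn.fix_of_rangeOK (Fn.rangeOK_step_fix hm20_36 rfl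
    (Fn.rangeOK_step_fix hm20_35 rfl
    (Fn.rangeOK_step_fix hm20_34 rfl
    (Fn.rangeOK_step_fix hm20_33 rfl
    (Fn.rangeOK_step_fix hm20_32 rfl
    (Fn.rangeOK_step_fix hm20_31 rfl
    (Fn.rangeOK_step_fix hm20_30 rfl
    (Fn.rangeOK_step_fix hm20_29 rfl
    (Fn.rangeOK_step_fix hm20_28 rfl
    (Fn.rangeOK_step_fix hm20_27 rfl
    (Fn.rangeOK_step_fix hm20_26 rfl
    (Fn.rangeOK_step_fix hm20_25 rfl
    (Fn.rangeOK_step_fix hm20_24 rfl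
    (Fn.rangeOK_step_fix hm20_23 rfl
    (Fn.rangeOK_step_fix hm20_22 rfl
    (Fn.rangeOK_step_fix hm20_21 rfl
    (Fn.rangeOK_step_fix hm20_20 rfl
    (Fn.rangeOK_step_fix hm20_19 rfl
    (Fn.rangeOK_step_fix hm20_18 rfl
    (Fn.rangeOK_step_fix hm20_17 rfl
    (Fn.rangeOK_step_fix hm20_16 rfl
    (Fn.rangeOK_step_fix hm20_15 rfl
    (Fn.rangeOK_step_fix hm20_14 rfl
    (Fn.rangeOK_step_fix hm20_13 rfl
    (Fn.rangeOK_step_fix hm20_12 rfl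
    (Fn.rangeOK_step_fix hm20_11 rfl
    (Fn.rangeOK_step_fix hm20_10 rfl
    (Fn.rangeOK_step_fix hm20_9 rfl
    (Fn.rangeOK_step_fix hm20_8 rfl
    (Fn.rangeOK_step_fix hm20_7 rfl
    (Fn.rangeOK_step_fix hm20_6 rfl
    (Fn.rangeOK_step_fix hm20_5 rfl
    (Fn.rangeOK_step_fix hm20_4 rfl
    (Fn.rangeOK_step_fix hm20_3 rfl
    (Fn.rangeOK_step_fix hm20_2 rfl
    (Fn.rangeOK_step_fix hm20_1 rfl
    (Fn.rangeOK_step_fix hm20_0 rfl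
    (Fn.rangeOK_start TT [5, 6] 3 tN))))))))))))))))))))))))))))))))))))))

theorem hfix21 : ∀ i < tN, (Fn.applyW TT (([0, 7] : List ℕ), 2).1)^[(([0, 7] : List ℕ), 2).2] i = i :=
  Fn.fix_of_rangeOK (Fn.rangeOK_step_fix hm21_24 rfl
    (Fn.rangeOK_step_fix hm21_23 rfl
    (Fn.rangeOK_step_fix hm21_22 rfl
    (Fn.rangeOK_step_fix hm21_21 rfl
    (Fn.rangeOK_step_fix hm21_20 rfl
    (Fn.rangeOK_step_fix hm21_19 rfl
    (Fn.rangeOK_step_fix hm21_18 rfl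
    (Fn.rangeOK_step_fix hm21_17 rfl
    (Fn.rangeOK_step_fix hm21_16 rfl
    (Fn.rangeOK_step_fix hm21_15 rfl
    (Fn.rangeOK_step_fix hm21_14 rfl
    (Fn.rangeOK_step_fix hm21_13 rfl
    (Fn.rangeOK_step_fix hm21_12 rfl
    (Fn.rangeOK_step_fix hm21_11 rfl
    (Fn.rangeOK_step_fix hm21_10 rfl
    (Fn.rangeOK_step_fix hm21_9 rfl
    (Fn.rangeOK_step_fix hm21_8 rfl
    (Fn.rangeOK_step_fix hm21_7 rfl
    (Fn.rangeOK_step_fix hm21_6 rfl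
    (Fn.rangeOK_step_fix hm21_5 rfl
    (Fn.rangeOK_step_fix hm21_4 rfl
    (Fn.rangeOK_step_fix hm21_3 rfl
    (Fn.rangeOK_step_fix hm21_2 rfl
    (Fn.rangeOK_step_fix hm21_1 rfl
    (Fn.rangeOK_step_fix hm21_0 rfl
    (Fn.rangeOK_start TT [0, 7] 2 tN))))))))))))))))))))))))))

theorem hfix22 : ∀ i < tN, (Fn.applyW TT (([1, 7] : List ℕ), 2).1)^[(([1, 7] : List ℕ), 2).2] i = i :=
  Fn.fix_of_rangeOK (Fn.rangeOK_step_fix hm22_24 rfl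
    (Fn.rangeOK_step_fix hm22_23 rfl
    (Fn.rangeOK_step_fix hm22_22 rfl
    (Fn.rangeOK_step_fix hm22_21 rfl
    (Fn.rangeOK_step_fix hm22_20 rfl
    (Fn.rangeOK_step_fix hm22_19 rfl
    (Fn.rangeOK_step_fix hm22_18 rfl
    (Fn.rangeOK_step_fix hm22_17 rfl
    (Fn.rangeOK_step_fix hm22_16 rfl
    (Fn.rangeOK_step_fix hm22_15 rfl
    (Fn.rangeOK_step_fix hm22_14 rfl
    (Fn.rangeOK_step_fix hm22_13 rfl
    (Fn.rangeOK_step_fix hm22_12 rfl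
    (Fn.rangeOK_step_fix hm22_11 rfl
    (Fn.rangeOK_step_fix hm22_10 rfl
    (Fn.rangeOK_step_fix hm22_9 rfl
    (Fn.rangeOK_step_fix hm22_8 rfl
    (Fn.rangeOK_step_fix hm22_7 rfl
    (Fn.rangeOK_step_fix hm22_6 rfl
    (Fn.rangeOK_step_fix hm22_5 rfl
    (Fn.rangeOK_step_fix hm22_4 rfl
    (Fn.rangeOK_step_fix hm22_3 rfl
    (Fn.rangeOK_step_fix hm22_2 rfl
    (Fn.rangeOK_step_fix hm22_1 rfl
    (Fn.rangeOK_step_fix hm22_0 rfl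
    (Fn.rangeOK_start TT [1, 7] 2 tN))))))))))))))))))))))))))

theorem hfix23 : ∀ i < tN, (Fn.applyW TT (([2, 7] : List ℕ), 2).1)^[(([2, 7] : List ℕ), 2).2] i = i :=
  Fn.fix_of_rangeOK (Fn.rangeOK_step_fix hm23_24 rfl
    (Fn.rangeOK_step_fix hm23_23 rfl
    (Fn.rangeOK_step_fix hm23_22 rfl
    (Fn.rangeOK_step_fix hm23_21 rfl
    (Fn.rangeOK_step_fix hm23_20 rfl
    (Fn.rangeOK_step_fix hm23_19 rfl
    (Fn.rangeOK_step_fix hm23_18 rfl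
    (Fn.rangeOK_step_fix hm23_17 rfl
    (Fn.rangeOK_step_fix hm23_16 rfl
    (Fn.rangeOK_step_fix hm23_15 rfl
    (Fn.rangeOK_step_fix hm23_14 rfl
    (Fn.rangeOK_step_fix hm23_13 rfl
    (Fn.rangeOK_step_fix hm23_12 rfl
    (Fn.rangeOK_step_fix hm23_11 rfl
    (Fn.rangeOK_step_fix hm23_10 rfl
    (Fn.rangeOK_step_fix hm23_9 rfl
    (Fn.rangeOK_step_fix hm23_8 rfl
    (Fn.rangeOK_step_fix hm23_7 rfl
    (Fn.rangeOK_step_fix hm23_6 rfl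
    (Fn.rangeOK_step_fix hm23_5 rfl
    (Fn.rangeOK_step_fix hm23_4 rfl
    (Fn.rangeOK_step_fix hm23_3 rfl
    (Fn.rangeOK_step_fix hm23_2 rfl
    (Fn.rangeOK_step_fix hm23_1 rfl
    (Fn.rangeOK_step_fix hm23_0 rfl
    (Fn.rangeOK_start TT [2, 7] 2 tN))))))))))))))))))))))))))

theorem hfix24 : ∀ i < tN, (Fn.applyW TT (([3, 7] : List ℕ), 2).1)^[(([3, 7] : List ℕ), 2).2] i = i :=
  Fn.fix_of_rangeOK (Fn.rangeOK_step_fix hm24_24 rfl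
    (Fn.rangeOK_step_fix hm24_23 rfl
    (Fn.rangeOK_step_fix hm24_22 rfl
    (Fn.rangeOK_step_fix hm24_21 rfl
    (Fn.rangeOK_step_fix hm24_20 rfl
    (Fn.rangeOK_step_fix hm24_19 rfl
    (Fn.rangeOK_step_fix hm24_18 rfl
    (Fn.rangeOK_step_fix hm24_17 rfl
    (Fn.rangeOK_step_fix hm24_16 rfl
    (Fn.rangeOK_step_fix hm24_15 rfl
    (Fn.rangeOK_step_fix hm24_14 rfl
    (Fn.rangeOK_step_fix hm24_13 rfl
    (Fn.rangeOK_step_fix hm24_12 rfl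
    (Fn.rangeOK_step_fix hm24_11 rfl
    (Fn.rangeOK_step_fix hm24_10 rfl
    (Fn.rangeOK_step_fix hm24_9 rfl
    (Fn.rangeOK_step_fix hm24_8 rfl
    (Fn.rangeOK_step_fix hm24_7 rfl
    (Fn.rangeOK_step_fix hm24_6 rfl
    (Fn.rangeOK_step_fix hm24_5 rfl
    (Fn.rangeOK_step_fix hm24_4 rfl
    (Fn.rangeOK_step_fix hm24_3 rfl
    (Fn.rangeOK_step_fix hm24_2 rfl
    (Fn.rangeOK_step_fix hm24_1 rfl
    (Fn.rangeOK_step_fix hm24_0 rfl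
    (Fn.rangeOK_start TT [3, 7] 2 tN))))))))))))))))))))))))))

theorem hfix25 : ∀ i < tN, (Fn.applyW TT (([4, 7] : List ℕ), 2).1)^[(([4, 7] : List ℕ), 2).2] i = i :=
  Fn.fix_of_rangeOK (Fn.rangeOK_step_fix hm25_24 rfl
    (Fn.rangeOK_step_fix hm25_23 rfl
    (Fn.rangeOK_step_fix hm25_22 rfl
    (Fn.rangeOK_step_fix hm25_21 rfl
    (Fn.rangeOK_step_fix hm25_20 rfl
    (Fn.rangeOK_step_fix hm25_19 rfl
    (Fn.rangeOK_step_fix hm25_18 rfl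
    (Fn.rangeOK_step_fix hm25_17 rfl
    (Fn.rangeOK_step_fix hm25_16 rfl
    (Fn.rangeOK_step_fix hm25_15 rfl
    (Fn.rangeOK_step_fix hm25_14 rfl
    (Fn.rangeOK_step_fix hm25_13 rfl
    (Fn.rangeOK_step_fix hm25_12 rfl
    (Fn.rangeOK_step_fix hm25_11 rfl
    (Fn.rangeOK_step_fix hm25_10 rfl
    (Fn.rangeOK_step_fix hm25_9 rfl
    (Fn.rangeOK_step_fix hm25_8 rfl
    (Fn.rangeOK_step_fix hm25_7 rfl
    (Fn.rangeOK_step_fix hm25_6 rfl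
    (Fn.rangeOK_step_fix hm25_5 rfl
    (Fn.rangeOK_step_fix hm25_4 rfl
    (Fn.rangeOK_step_fix hm25_3 rfl
    (Fn.rangeOK_step_fix hm25_2 rfl
    (Fn.rangeOK_step_fix hm25_1 rfl
    (Fn.rangeOK_step_fix hm25_0 rfl
    (Fn.rangeOK_start TT [4, 7] 2 tN))))))))))))))))))))))))))

theorem hfix26 : ∀ i < tN, (Fn.applyW TT (([5, 7] : List ℕ), 2).1)^[(([5, 7] : List ℕ), 2).2] i = i :=
  Fn.fix_of_rangeOK (Fn.rangeOK_step_fix hm26_24 rfl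
    (Fn.rangeOK_step_fix hm26_23 rfl
    (Fn.rangeOK_step_fix hm26_22 rfl
    (Fn.rangeOK_step_fix hm26_21 rfl
    (Fn.rangeOK_step_fix hm26_20 rfl
    (Fn.rangeOK_step_fix hm26_19 rfl
    (Fn.rangeOK_step_fix hm26_18 rfl
    (Fn.rangeOK_step_fix hm26_17 rfl
    (Fn.rangeOK_step_fix hm26_16 rfl
    (Fn.rangeOK_step_fix hm26_15 rfl
    (Fn.rangeOK_step_fix hm26_14 rfl
    (Fn.rangeOK_step_fix hm26_13 rfl
    (Fn.rangeOK_step_fix hm26_12 rfl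
    (Fn.rangeOK_step_fix hm26_11 rfl
    (Fn.rangeOK_step_fix hm26_10 rfl
    (Fn.rangeOK_step_fix hm26_9 rfl
    (Fn.rangeOK_step_fix hm26_8 rfl
    (Fn.rangeOK_step_fix hm26_7 rfl
    (Fn.rangeOK_step_fix hm26_6 rfl
    (Fn.rangeOK_step_fix hm26_5 rfl
    (Fn.rangeOK_step_fix hm26_4 rfl
    (Fn.rangeOK_step_fix hm26_3 rfl
    (Fn.rangeOK_step_fix hm26_2 rfl
    (Fn.rangeOK_step_fix hm26_1 rfl
    (Fn.rangeOK_step_fix hm26_0 rfl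
    (Fn.rangeOK_start TT [5, 7] 2 tN))))))))))))))))))))))))))

theorem hfix27 : ∀ i < tN, (Fn.applyW TT (([6, 7] : List ℕ), 3).1)^[(([6, 7] : List ℕ), 3).2] i = i :=
  Fn.fix_of_rangeOK (Fn.rangeOK_step_fix hm27_36 rfl
    (Fn.rangeOK_step_fix hm27_35 rfl
    (Fn.rangeOK_step_fix hm27_34 rfl
    (Fn.rangeOK_step_fix hm27_33 rfl
    (Fn.rangeOK_step_fix hm27_32 rfl
    (Fn.rangeOK_step_fix hm27_31 rfl
    (Fn.rangeOK_step_fix hm27_30 rfl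
    (Fn.rangeOK_step_fix hm27_29 rfl
    (Fn.rangeOK_step_fix hm27_28 rfl
    (Fn.rangeOK_step_fix hm27_27 rfl
    (Fn.rangeOK_step_fix hm27_26 rfl
    (Fn.rangeOK_step_fix hm27_25 rfl
    (Fn.rangeOK_step_fix hm27_24 rfl
    (Fn.rangeOK_step_fix hm27_23 rfl
    (Fn.rangeOK_step_fix hm27_22 rfl
    (Fn.rangeOK_step_fix hm27_21 rfl
    (Fn.rangeOK_step_fix hm27_20 rfl
    (Fn.rangeOK_step_fix hm27_19 rfl
    (Fn.rangeOK_step_fix hm27_18 rfl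
    (Fn.rangeOK_step_fix hm27_17 rfl
    (Fn.rangeOK_step_fix hm27_16 rfl
    (Fn.rangeOK_step_fix hm27_15 rfl
    (Fn.rangeOK_step_fix hm27_14 rfl
    (Fn.rangeOK_step_fix hm27_13 rfl
    (Fn.rangeOK_step_fix hm27_12 rfl
    (Fn.rangeOK_step_fix hm27_11 rfl
    (Fn.rangeOK_step_fix hm27_10 rfl
    (Fn.rangeOK_step_fix hm27_9 rfl
    (Fn.rangeOK_step_fix hm27_8 rfl
    (Fn.rangeOK_step_fix hm27_7 rfl
    (Fn.rangeOK_step_fix hm27_6 rfl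
    (Fn.rangeOK_step_fix hm27_5 rfl
    (Fn.rangeOK_step_fix hm27_4 rfl
    (Fn.rangeOK_step_fix hm27_3 rfl
    (Fn.rangeOK_step_fix hm27_2 rfl
    (Fn.rangeOK_step_fix hm27_1 rfl
    (Fn.rangeOK_step_fix hm27_0 rfl
    (Fn.rangeOK_start TT [6, 7] 3 tN))))))))))))))))))))))))))))))))))))))

theorem hfix28 : ∀ i < tN, (Fn.applyW TT (([0, 8] : List ℕ), 2).1)^[(([0, 8] : List ℕ), 2).2] i = i :=
  Fn.fix_of_rangeOK (Fn.rangeOK_step_fix hm28_24 rfl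
    (Fn.rangeOK_step_fix hm28_23 rfl
    (Fn.rangeOK_step_fix hm28_22 rfl
    (Fn.rangeOK_step_fix hm28_21 rfl
    (Fn.rangeOK_step_fix hm28_20 rfl
    (Fn.rangeOK_step_fix hm28_19 rfl
    (Fn.rangeOK_step_fix hm28_18 rfl
    (Fn.rangeOK_step_fix hm28_17 rfl
    (Fn.rangeOK_step_fix hm28_16 rfl
    (Fn.rangeOK_step_fix hm28_15 rfl
    (Fn.rangeOK_step_fix hm28_14 rfl
    (Fn.rangeOK_step_fix hm28_13 rfl
    (Fn.rangeOK_step_fix hm28_12 rfl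
    (Fn.rangeOK_step_fix hm28_11 rfl
    (Fn.rangeOK_step_fix hm28_10 rfl
    (Fn.rangeOK_step_fix hm28_9 rfl
    (Fn.rangeOK_step_fix hm28_8 rfl
    (Fn.rangeOK_step_fix hm28_7 rfl
    (Fn.rangeOK_step_fix hm28_6 rfl
    (Fn.rangeOK_step_fix hm28_5 rfl
    (Fn.rangeOK_step_fix hm28_4 rfl
    (Fn.rangeOK_step_fix hm28_3 rfl
    (Fn.rangeOK_step_fix hm28_2 rfl
    (Fn.rangeOK_step_fix hm28_1 rfl
    (Fn.rangeOK_step_fix hm28_0 rfl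
    (Fn.rangeOK_start TT [0, 8] 2 tN))))))))))))))))))))))))))

theorem hfix29 : ∀ i < tN, (Fn.applyW TT (([1, 8] : List ℕ), 2).1)^[(([1, 8] : List ℕ), 2).2] i = i :=
  Fn.fix_of_rangeOK (Fn.rangeOK_step_fix hm29_24 rfl
    (Fn.rangeOK_step_fix hm29_23 rfl
    (Fn.rangeOK_step_fix hm29_22 rfl
    (Fn.rangeOK_step_fix hm29_21 rfl
    (Fn.rangeOK_step_fix hm29_20 rfl
    (Fn.rangeOK_step_fix hm29_19 rfl
    (Fn.rangeOK_step_fix hm29_18 rfl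
    (Fn.rangeOK_step_fix hm29_17 rfl
    (Fn.rangeOK_step_fix hm29_16 rfl
    (Fn.rangeOK_step_fix hm29_15 rfl
    (Fn.rangeOK_step_fix hm29_14 rfl
    (Fn.rangeOK_step_fix hm29_13 rfl
    (Fn.rangeOK_step_fix hm29_12 rfl
    (Fn.rangeOK_step_fix hm29_11 rfl
    (Fn.rangeOK_step_fix hm29_10 rfl
    (Fn.rangeOK_step_fix hm29_9 rfl
    (Fn.rangeOK_step_fix hm29_8 rfl
    (Fn.rangeOK_step_fix hm29_7 rfl
    (Fn.rangeOK_step_fix hm29_6 rfl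
    (Fn.rangeOK_step_fix hm29_5 rfl
    (Fn.rangeOK_step_fix hm29_4 rfl
    (Fn.rangeOK_step_fix hm29_3 rfl
    (Fn.rangeOK_step_fix hm29_2 rfl
    (Fn.rangeOK_step_fix hm29_1 rfl
    (Fn.rangeOK_step_fix hm29_0 rfl
    (Fn.rangeOK_start TT [1, 8] 2 tN))))))))))))))))))))))))))

theorem hfix30 : ∀ i < tN, (Fn.applyW TT (([2, 8] : List ℕ), 2).1)^[(([2, 8] : List ℕ), 2).2] i = i :=
  Fn.fix_of_rangeOK (Fn.rangeOK_step_fix hm30_24 rfl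
    (Fn.rangeOK_step_fix hm30_23 rfl
    (Fn.rangeOK_step_fix hm30_22 rfl
    (Fn.rangeOK_step_fix hm30_21 rfl
    (Fn.rangeOK_step_fix hm30_20 rfl
    (Fn.rangeOK_step_fix hm30_19 rfl
    (Fn.rangeOK_step_fix hm30_18 rfl
    (Fn.rangeOK_step_fix hm30_17 rfl
    (Fn.rangeOK_step_fix hm30_16 rfl
    (Fn.rangeOK_step_fix hm30_15 rfl
    (Fn.rangeOK_step_fix hm30_14 rfl
    (Fn.rangeOK_step_fix hm30_13 rfl
    (Fn.rangeOK_step_fix hm30_12 rfl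
    (Fn.rangeOK_step_fix hm30_11 rfl
    (Fn.rangeOK_step_fix hm30_10 rfl
    (Fn.rangeOK_step_fix hm30_9 rfl
    (Fn.rangeOK_step_fix hm30_8 rfl
    (Fn.rangeOK_step_fix hm30_7 rfl
    (Fn.rangeOK_step_fix hm30_6 rfl
    (Fn.rangeOK_step_fix hm30_5 rfl
    (Fn.rangeOK_step_fix hm30_4 rfl
    (Fn.rangeOK_step_fix hm30_3 rfl
    (Fn.rangeOK_step_fix hm30_2 rfl
    (Fn.rangeOK_step_fix hm30_1 rfl
    (Fn.rangeOK_step_fix hm30_0 rfl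
    (Fn.rangeOK_start TT [2, 8] 2 tN))))))))))))))))))))))))))

theorem hfix31 : ∀ i < tN, (Fn.applyW TT (([3, 8] : List ℕ), 2).1)^[(([3, 8] : List ℕ), 2).2] i = i :=
  Fn.fix_of_rangeOK (Fn.rangeOK_step_fix hm31_24 rfl
    (Fn.rangeOK_step_fix hm31_23 rfl
    (Fn.rangeOK_step_fix hm31_22 rfl
    (Fn.rangeOK_step_fix hm31_21 rfl
    (Fn.rangeOK_step_fix hm31_20 rfl
    (Fn.rangeOK_step_fix hm31_19 rfl
    (Fn.rangeOK_step_fix hm31_18 rfl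
    (Fn.rangeOK_step_fix hm31_17 rfl
    (Fn.rangeOK_step_fix hm31_16 rfl
    (Fn.rangeOK_step_fix hm31_15 rfl
    (Fn.rangeOK_step_fix hm31_14 rfl
    (Fn.rangeOK_step_fix hm31_13 rfl
    (Fn.rangeOK_step_fix hm31_12 rfl
    (Fn.rangeOK_step_fix hm31_11 rfl
    (Fn.rangeOK_step_fix hm31_10 rfl
    (Fn.rangeOK_step_fix hm31_9 rfl
    (Fn.rangeOK_step_fix hm31_8 rfl
    (Fn.rangeOK_step_fix hm31_7 rfl
    (Fn.rangeOK_step_fix hm31_6 rfl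
    (Fn.rangeOK_step_fix hm31_5 rfl
    (Fn.rangeOK_step_fix hm31_4 rfl
    (Fn.rangeOK_step_fix hm31_3 rfl
    (Fn.rangeOK_step_fix hm31_2 rfl
    (Fn.rangeOK_step_fix hm31_1 rfl
    (Fn.rangeOK_step_fix hm31_0 rfl
    (Fn.rangeOK_start TT [3, 8] 2 tN))))))))))))))))))))))))))

theorem hfix32 : ∀ i < tN, (Fn.applyW TT (([4, 8] : List ℕ), 2).1)^[(([4, 8] : List ℕ), 2).2] i = i :=
  Fn.fix_of_rangeOK (Fn.rangeOK_step_fix hm32_24 rfl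
    (Fn.rangeOK_step_fix hm32_23 rfl
    (Fn.rangeOK_step_fix hm32_22 rfl
    (Fn.rangeOK_step_fix hm32_21 rfl
    (Fn.rangeOK_step_fix hm32_20 rfl
    (Fn.rangeOK_step_fix hm32_19 rfl
    (Fn.rangeOK_step_fix hm32_18 rfl
    (Fn.rangeOK_step_fix hm32_17 rfl
    (Fn.rangeOK_step_fix hm32_16 rfl
    (Fn.rangeOK_step_fix hm32_15 rfl
    (Fn.rangeOK_step_fix hm32_14 rfl
    (Fn.rangeOK_step_fix hm32_13 rfl
    (Fn.rangeOK_step_fix hm32_12 rfl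
    (Fn.rangeOK_step_fix hm32_11 rfl
    (Fn.rangeOK_step_fix hm32_10 rfl
    (Fn.rangeOK_step_fix hm32_9 rfl
    (Fn.rangeOK_step_fix hm32_8 rfl
    (Fn.rangeOK_step_fix hm32_7 rfl
    (Fn.rangeOK_step_fix hm32_6 rfl
    (Fn.rangeOK_step_fix hm32_5 rfl
    (Fn.rangeOK_step_fix hm32_4 rfl
    (Fn.rangeOK_step_fix hm32_3 rfl
    (Fn.rangeOK_step_fix hm32_2 rfl
    (Fn.rangeOK_step_fix hm32_1 rfl
    (Fn.rangeOK_step_fix hm32_0 rfl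
    (Fn.rangeOK_start TT [4, 8] 2 tN))))))))))))))))))))))))))

theorem hfix33 : ∀ i < tN, (Fn.applyW TT (([5, 8] : List ℕ), 2).1)^[(([5, 8] : List ℕ), 2).2] i = i :=
  Fn.fix_of_rangeOK (Fn.rangeOK_step_fix hm33_24 rfl
    (Fn.rangeOK_step_fix hm33_23 rfl
    (Fn.rangeOK_step_fix hm33_22 rfl
    (Fn.rangeOK_step_fix hm33_21 rfl
    (Fn.rangeOK_step_fix hm33_20 rfl
    (Fn.rangeOK_step_fix hm33_19 rfl
    (Fn.rangeOK_step_fix hm33_18 rfl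
    (Fn.rangeOK_step_fix hm33_17 rfl
    (Fn.rangeOK_step_fix hm33_16 rfl
    (Fn.rangeOK_step_fix hm33_15 rfl
    (Fn.rangeOK_step_fix hm33_14 rfl
    (Fn.rangeOK_step_fix hm33_13 rfl
    (Fn.rangeOK_step_fix hm33_12 rfl
    (Fn.rangeOK_step_fix hm33_11 rfl
    (Fn.rangeOK_step_fix hm33_10 rfl
    (Fn.rangeOK_step_fix hm33_9 rfl
    (Fn.rangeOK_step_fix hm33_8 rfl
    (Fn.rangeOK_step_fix hm33_7 rfl
    (Fn.rangeOK_step_fix hm33_6 rfl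
    (Fn.rangeOK_step_fix hm33_5 rfl
    (Fn.rangeOK_step_fix hm33_4 rfl
    (Fn.rangeOK_step_fix hm33_3 rfl
    (Fn.rangeOK_step_fix hm33_2 rfl
    (Fn.rangeOK_step_fix hm33_1 rfl
    (Fn.rangeOK_step_fix hm33_0 rfl
    (Fn.rangeOK_start TT [5, 8] 2 tN))))))))))))))))))))))))))

theorem hfix34 : ∀ i < tN, (Fn.applyW TT (([6, 8] : List ℕ), 2).1)^[(([6, 8] : List ℕ), 2).2] i = i :=
  Fn.fix_of_rangeOK (Fn.rangeOK_step_fix hm34_24 rfl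
    (Fn.rangeOK_step_fix hm34_23 rfl
    (Fn.rangeOK_step_fix hm34_22 rfl
    (Fn.rangeOK_step_fix hm34_21 rfl
    (Fn.rangeOK_step_fix hm34_20 rfl
    (Fn.rangeOK_step_fix hm34_19 rfl
    (Fn.rangeOK_step_fix hm34_18 rfl
    (Fn.rangeOK_step_fix hm34_17 rfl
    (Fn.rangeOK_step_fix hm34_16 rfl
    (Fn.rangeOK_step_fix hm34_15 rfl
    (Fn.rangeOK_step_fix hm34_14 rfl
    (Fn.rangeOK_step_fix hm34_13 rfl
    (Fn.rangeOK_step_fix hm34_12 rfl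
    (Fn.rangeOK_step_fix hm34_11 rfl
    (Fn.rangeOK_step_fix hm34_10 rfl
    (Fn.rangeOK_step_fix hm34_9 rfl
    (Fn.rangeOK_step_fix hm34_8 rfl
    (Fn.rangeOK_step_fix hm34_7 rfl
    (Fn.rangeOK_step_fix hm34_6 rfl
    (Fn.rangeOK_step_fix hm34_5 rfl
    (Fn.rangeOK_step_fix hm34_4 rfl
    (Fn.rangeOK_step_fix hm34_3 rfl
    (Fn.rangeOK_step_fix hm34_2 rfl
    (Fn.rangeOK_step_fix hm34_1 rfl
    (Fn.rangeOK_step_fix hm34_0 rfl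
    (Fn.rangeOK_start TT [6, 8] 2 tN))))))))))))))))))))))))))

theorem hfix35 : ∀ i < tN, (Fn.applyW TT (([7, 8] : List ℕ), 3).1)^[(([7, 8] : List ℕ), 3).2] i = i :=
  Fn.fix_of_rangeOK (Fn.rangeOK_step_fix hm35_36 rfl
    (Fn.rangeOK_step_fix hm35_35 rfl
    (Fn.rangeOK_step_fix hm35_34 rfl
    (Fn.rangeOK_step_fix hm35_33 rfl
    (Fn.rangeOK_step_fix hm35_32 rfl
    (Fn.rangeOK_step_fix hm35_31 rfl
    (Fn.rangeOK_step_fix hm35_30 rfl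
    (Fn.rangeOK_step_fix hm35_29 rfl
    (Fn.rangeOK_step_fix hm35_28 rfl
    (Fn.rangeOK_step_fix hm35_27 rfl
    (Fn.rangeOK_step_fix hm35_26 rfl
    (Fn.rangeOK_step_fix hm35_25 rfl
    (Fn.rangeOK_step_fix hm35_24 rfl
    (Fn.rangeOK_step_fix hm35_23 rfl
    (Fn.rangeOK_step_fix hm35_22 rfl
    (Fn.rangeOK_step_fix hm35_21 rfl
    (Fn.rangeOK_step_fix hm35_20 rfl
    (Fn.rangeOK_step_fix hm35_19 rfl
    (Fn.rangeOK_step_fix hm35_18 rfl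
    (Fn.rangeOK_step_fix hm35_17 rfl
    (Fn.rangeOK_step_fix hm35_16 rfl
    (Fn.rangeOK_step_fix hm35_15 rfl
    (Fn.rangeOK_step_fix hm35_14 rfl
    (Fn.rangeOK_step_fix hm35_13 rfl
    (Fn.rangeOK_step_fix hm35_12 rfl
    (Fn.rangeOK_step_fix hm35_11 rfl
    (Fn.rangeOK_step_fix hm35_10 rfl
    (Fn.rangeOK_step_fix hm35_9 rfl
    (Fn.rangeOK_step_fix hm35_8 rfl
    (Fn.rangeOK_step_fix hm35_7 rfl
    (Fn.rangeOK_step_fix hm35_6 rfl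
    (Fn.rangeOK_step_fix hm35_5 rfl
    (Fn.rangeOK_step_fix hm35_4 rfl
    (Fn.rangeOK_step_fix hm35_3 rfl
    (Fn.rangeOK_step_fix hm35_2 rfl
    (Fn.rangeOK_step_fix hm35_1 rfl
    (Fn.rangeOK_step_fix hm35_0 rfl
    (Fn.rangeOK_start TT [7, 8] 3 tN))))))))))))))))))))))))))))))))))))))

theorem hfix36 : ∀ i < tN, (Fn.applyW TT (([0, 9] : List ℕ), 2).1)^[(([0, 9] : List ℕ), 2).2] i = i :=
  Fn.fix_of_rangeOK (Fn.rangeOK_step_fix hm36_24 rfl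
    (Fn.rangeOK_step_fix hm36_23 rfl
    (Fn.rangeOK_step_fix hm36_22 rfl
    (Fn.rangeOK_step_fix hm36_21 rfl
    (Fn.rangeOK_step_fix hm36_20 rfl
    (Fn.rangeOK_step_fix hm36_19 rfl
    (Fn.rangeOK_step_fix hm36_18 rfl
    (Fn.rangeOK_step_fix hm36_17 rfl
    (Fn.rangeOK_step_fix hm36_16 rfl
    (Fn.rangeOK_step_fix hm36_15 rfl
    (Fn.rangeOK_step_fix hm36_14 rfl
    (Fn.rangeOK_step_fix hm36_13 rfl
    (Fn.rangeOK_step_fix hm36_12 rfl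
    (Fn.rangeOK_step_fix hm36_11 rfl
    (Fn.rangeOK_step_fix hm36_10 rfl
    (Fn.rangeOK_step_fix hm36_9 rfl
    (Fn.rangeOK_step_fix hm36_8 rfl
    (Fn.rangeOK_step_fix hm36_7 rfl
    (Fn.rangeOK_step_fix hm36_6 rfl
    (Fn.rangeOK_step_fix hm36_5 rfl
    (Fn.rangeOK_step_fix hm36_4 rfl
    (Fn.rangeOK_step_fix hm36_3 rfl
    (Fn.rangeOK_step_fix hm36_2 rfl
    (Fn.rangeOK_step_fix hm36_1 rfl
    (Fn.rangeOK_step_fix hm36_0 rfl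
    (Fn.rangeOK_start TT [0, 9] 2 tN))))))))))))))))))))))))))

theorem hfix37 : ∀ i < tN, (Fn.applyW TT (([1, 9] : List ℕ), 2).1)^[(([1, 9] : List ℕ), 2).2] i = i :=
  Fn.fix_of_rangeOK (Fn.rangeOK_step_fix hm37_24 rfl
    (Fn.rangeOK_step_fix hm37_23 rfl
    (Fn.rangeOK_step_fix hm37_22 rfl
    (Fn.rangeOK_step_fix hm37_21 rfl
    (Fn.rangeOK_step_fix hm37_20 rfl
    (Fn.rangeOK_step_fix hm37_19 rfl
    (Fn.rangeOK_step_fix hm37_18 rfl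
    (Fn.rangeOK_step_fix hm37_17 rfl
    (Fn.rangeOK_step_fix hm37_16 rfl
    (Fn.rangeOK_step_fix hm37_15 rfl
    (Fn.rangeOK_step_fix hm37_14 rfl
    (Fn.rangeOK_step_fix hm37_13 rfl
    (Fn.rangeOK_step_fix hm37_12 rfl
    (Fn.rangeOK_step_fix hm37_11 rfl
    (Fn.rangeOK_step_fix hm37_10 rfl
    (Fn.rangeOK_step_fix hm37_9 rfl
    (Fn.rangeOK_step_fix hm37_8 rfl
    (Fn.rangeOK_step_fix hm37_7 rfl
    (Fn.rangeOK_step_fix hm37_6 rfl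
    (Fn.rangeOK_step_fix hm37_5 rfl
    (Fn.rangeOK_step_fix hm37_4 rfl
    (Fn.rangeOK_step_fix hm37_3 rfl
    (Fn.rangeOK_step_fix hm37_2 rfl
    (Fn.rangeOK_step_fix hm37_1 rfl
    (Fn.rangeOK_step_fix hm37_0 rfl
    (Fn.rangeOK_start TT [1, 9] 2 tN))))))))))))))))))))))))))

theorem hfix38 : ∀ i < tN, (Fn.applyW TT (([2, 9] : List ℕ), 2).1)^[(([2, 9] : List ℕ), 2).2] i = i :=
  Fn.fix_of_rangeOK (Fn.rangeOK_step_fix hm38_24 rfl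
    (Fn.rangeOK_step_fix hm38_23 rfl
    (Fn.rangeOK_step_fix hm38_22 rfl
    (Fn.rangeOK_step_fix hm38_21 rfl
    (Fn.rangeOK_step_fix hm38_20 rfl
    (Fn.rangeOK_step_fix hm38_19 rfl
    (Fn.rangeOK_step_fix hm38_18 rfl
    (Fn.rangeOK_step_fix hm38_17 rfl
    (Fn.rangeOK_step_fix hm38_16 rfl
    (Fn.rangeOK_step_fix hm38_15 rfl
    (Fn.rangeOK_step_fix hm38_14 rfl
    (Fn.rangeOK_step_fix hm38_13 rfl
    (Fn.rangeOK_step_fix hm38_12 rfl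
    (Fn.rangeOK_step_fix hm38_11 rfl
    (Fn.rangeOK_step_fix hm38_10 rfl
    (Fn.rangeOK_step_fix hm38_9 rfl
    (Fn.rangeOK_step_fix hm38_8 rfl
    (Fn.rangeOK_step_fix hm38_7 rfl
    (Fn.rangeOK_step_fix hm38_6 rfl
    (Fn.rangeOK_step_fix hm38_5 rfl
    (Fn.rangeOK_step_fix hm38_4 rfl
    (Fn.rangeOK_step_fix hm38_3 rfl
    (Fn.rangeOK_step_fix hm38_2 rfl
    (Fn.rangeOK_step_fix hm38_1 rfl
    (Fn.rangeOK_step_fix hm38_0 rfl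
    (Fn.rangeOK_start TT [2, 9] 2 tN))))))))))))))))))))))))))

theorem hfix39 : ∀ i < tN, (Fn.applyW TT (([3, 9] : List ℕ), 2).1)^[(([3, 9] : List ℕ), 2).2] i = i :=
  Fn.fix_of_rangeOK (Fn.rangeOK_step_fix hm39_24 rfl
    (Fn.rangeOK_step_fix hm39_23 rfl
    (Fn.rangeOK_step_fix hm39_22 rfl
    (Fn.rangeOK_step_fix hm39_21 rfl
    (Fn.rangeOK_step_fix hm39_20 rfl
    (Fn.rangeOK_step_fix hm39_19 rfl
    (Fn.rangeOK_step_fix hm39_18 rfl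
    (Fn.rangeOK_step_fix hm39_17 rfl
    (Fn.rangeOK_step_fix hm39_16 rfl
    (Fn.rangeOK_step_fix hm39_15 rfl
    (Fn.rangeOK_step_fix hm39_14 rfl
    (Fn.rangeOK_step_fix hm39_13 rfl
    (Fn.rangeOK_step_fix hm39_12 rfl
    (Fn.rangeOK_step_fix hm39_11 rfl
    (Fn.rangeOK_step_fix hm39_10 rfl
    (Fn.rangeOK_step_fix hm39_9 rfl
    (Fn.rangeOK_step_fix hm39_8 rfl
    (Fn.rangeOK_step_fix hm39_7 rfl
    (Fn.rangeOK_step_fix hm39_6 rfl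
    (Fn.rangeOK_step_fix hm39_5 rfl
    (Fn.rangeOK_step_fix hm39_4 rfl
    (Fn.rangeOK_step_fix hm39_3 rfl
    (Fn.rangeOK_step_fix hm39_2 rfl
    (Fn.rangeOK_step_fix hm39_1 rfl
    (Fn.rangeOK_step_fix hm39_0 rfl
    (Fn.rangeOK_start TT [3, 9] 2 tN))))))))))))))))))))))))))

theorem hfix40 : ∀ i < tN, (Fn.applyW TT (([4, 9] : List ℕ), 2).1)^[(([4, 9] : List ℕ), 2).2] i = i :=
  Fn.fix_of_rangeOK (Fn.rangeOK_step_fix hm40_24 rfl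
    (Fn.rangeOK_step_fix hm40_23 rfl
    (Fn.rangeOK_step_fix hm40_22 rfl
    (Fn.rangeOK_step_fix hm40_21 rfl
    (Fn.rangeOK_step_fix hm40_20 rfl
    (Fn.rangeOK_step_fix hm40_19 rfl
    (Fn.rangeOK_step_fix hm40_18 rfl
    (Fn.rangeOK_step_fix hm40_17 rfl
    (Fn.rangeOK_step_fix hm40_16 rfl
    (Fn.rangeOK_step_fix hm40_15 rfl
    (Fn.rangeOK_step_fix hm40_14 rfl
    (Fn.rangeOK_step_fix hm40_13 rfl
    (Fn.rangeOK_step_fix hm40_12 rfl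
    (Fn.rangeOK_step_fix hm40_11 rfl
    (Fn.rangeOK_step_fix hm40_10 rfl
    (Fn.rangeOK_step_fix hm40_9 rfl
    (Fn.rangeOK_step_fix hm40_8 rfl
    (Fn.rangeOK_step_fix hm40_7 rfl
    (Fn.rangeOK_step_fix hm40_6 rfl
    (Fn.rangeOK_step_fix hm40_5 rfl
    (Fn.rangeOK_step_fix hm40_4 rfl
    (Fn.rangeOK_step_fix hm40_3 rfl
    (Fn.rangeOK_step_fix hm40_2 rfl
    (Fn.rangeOK_step_fix hm40_1 rfl
    (Fn.rangeOK_step_fix hm40_0 rfl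
    (Fn.rangeOK_start TT [4, 9] 2 tN))))))))))))))))))))))))))

theorem hfix41 : ∀ i < tN, (Fn.applyW TT (([5, 9] : List ℕ), 2).1)^[(([5, 9] : List ℕ), 2).2] i = i :=
  Fn.fix_of_rangeOK (Fn.rangeOK_step_fix hm41_24 rfl
    (Fn.rangeOK_step_fix hm41_23 rfl
    (Fn.rangeOK_step_fix hm41_22 rfl
    (Fn.rangeOK_step_fix hm41_21 rfl
    (Fn.rangeOK_step_fix hm41_20 rfl
    (Fn.rangeOK_step_fix hm41_19 rfl
    (Fn.rangeOK_step_fix hm41_18 rfl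
    (Fn.rangeOK_step_fix hm41_17 rfl
    (Fn.rangeOK_step_fix hm41_16 rfl
    (Fn.rangeOK_step_fix hm41_15 rfl
    (Fn.rangeOK_step_fix hm41_14 rfl
    (Fn.rangeOK_step_fix hm41_13 rfl
    (Fn.rangeOK_step_fix hm41_12 rfl
    (Fn.rangeOK_step_fix hm41_11 rfl
    (Fn.rangeOK_step_fix hm41_10 rfl
    (Fn.rangeOK_step_fix hm41_9 rfl
    (Fn.rangeOK_step_fix hm41_8 rfl
    (Fn.rangeOK_step_fix hm41_7 rfl
    (Fn.rangeOK_step_fix hm41_6 rfl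
    (Fn.rangeOK_step_fix hm41_5 rfl
    (Fn.rangeOK_step_fix hm41_4 rfl
    (Fn.rangeOK_step_fix hm41_3 rfl
    (Fn.rangeOK_step_fix hm41_2 rfl
    (Fn.rangeOK_step_fix hm41_1 rfl
    (Fn.rangeOK_step_fix hm41_0 rfl
    (Fn.rangeOK_start TT [5, 9] 2 tN))))))))))))))))))))))))))

theorem hfix42 : ∀ i < tN, (Fn.applyW TT (([6, 9] : List ℕ), 2).1)^[(([6, 9] : List ℕ), 2).2] i = i :=
  Fn.fix_of_rangeOK (Fn.rangeOK_step_fix hm42_24 rfl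
    (Fn.rangeOK_step_fix hm42_23 rfl
    (Fn.rangeOK_step_fix hm42_22 rfl
    (Fn.rangeOK_step_fix hm42_21 rfl
    (Fn.rangeOK_step_fix hm42_20 rfl
    (Fn.rangeOK_step_fix hm42_19 rfl
    (Fn.rangeOK_step_fix hm42_18 rfl
    (Fn.rangeOK_step_fix hm42_17 rfl
    (Fn.rangeOK_step_fix hm42_16 rfl
    (Fn.rangeOK_step_fix hm42_15 rfl
    (Fn.rangeOK_step_fix hm42_14 rfl
    (Fn.rangeOK_step_fix hm42_13 rfl
    (Fn.rangeOK_step_fix hm42_12 rfl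
    (Fn.rangeOK_step_fix hm42_11 rfl
    (Fn.rangeOK_step_fix hm42_10 rfl
    (Fn.rangeOK_step_fix hm42_9 rfl
    (Fn.rangeOK_step_fix hm42_8 rfl
    (Fn.rangeOK_step_fix hm42_7 rfl
    (Fn.rangeOK_step_fix hm42_6 rfl
    (Fn.rangeOK_step_fix hm42_5 rfl
    (Fn.rangeOK_step_fix hm42_4 rfl
    (Fn.rangeOK_step_fix hm42_3 rfl
    (Fn.rangeOK_step_fix hm42_2 rfl
    (Fn.rangeOK_step_fix hm42_1 rfl
    (Fn.rangeOK_step_fix hm42_0 rfl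
    (Fn.rangeOK_start TT [6, 9] 2 tN))))))))))))))))))))))))))

theorem hfix43 : ∀ i < tN, (Fn.applyW TT (([7, 9] : List ℕ), 2).1)^[(([7, 9] : List ℕ), 2).2] i = i :=
  Fn.fix_of_rangeOK (Fn.rangeOK_step_fix hm43_24 rfl
    (Fn.rangeOK_step_fix hm43_23 rfl
    (Fn.rangeOK_step_fix hm43_22 rfl
    (Fn.rangeOK_step_fix hm43_21 rfl
    (Fn.rangeOK_step_fix hm43_20 rfl
    (Fn.rangeOK_step_fix hm43_19 rfl
    (Fn.rangeOK_step_fix hm43_18 rfl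
    (Fn.rangeOK_step_fix hm43_17 rfl
    (Fn.rangeOK_step_fix hm43_16 rfl
    (Fn.rangeOK_step_fix hm43_15 rfl
    (Fn.rangeOK_step_fix hm43_14 rfl
    (Fn.rangeOK_step_fix hm43_13 rfl
    (Fn.rangeOK_step_fix hm43_12 rfl
    (Fn.rangeOK_step_fix hm43_11 rfl
    (Fn.rangeOK_step_fix hm43_10 rfl
    (Fn.rangeOK_step_fix hm43_9 rfl
    (Fn.rangeOK_step_fix hm43_8 rfl
    (Fn.rangeOK_step_fix hm43_7 rfl
    (Fn.rangeOK_step_fix hm43_6 rfl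
    (Fn.rangeOK_step_fix hm43_5 rfl
    (Fn.rangeOK_step_fix hm43_4 rfl
    (Fn.rangeOK_step_fix hm43_3 rfl
    (Fn.rangeOK_step_fix hm43_2 rfl
    (Fn.rangeOK_step_fix hm43_1 rfl
    (Fn.rangeOK_step_fix hm43_0 rfl
    (Fn.rangeOK_start TT [7, 9] 2 tN))))))))))))))))))))))))))

theorem hfix44 : ∀ i < tN, (Fn.applyW TT (([8, 9] : List ℕ), 3).1)^[(([8, 9] : List ℕ), 3).2] i = i :=
  Fn.fix_of_rangeOK (Fn.rangeOK_step_fix hm44_36 rfl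
    (Fn.rangeOK_step_fix hm44_35 rfl
    (Fn.rangeOK_step_fix hm44_34 rfl
    (Fn.rangeOK_step_fix hm44_33 rfl
    (Fn.rangeOK_step_fix hm44_32 rfl
    (Fn.rangeOK_step_fix hm44_31 rfl
    (Fn.rangeOK_step_fix hm44_30 rfl
    (Fn.rangeOK_step_fix hm44_29 rfl
    (Fn.rangeOK_step_fix hm44_28 rfl
    (Fn.rangeOK_step_fix hm44_27 rfl
    (Fn.rangeOK_step_fix hm44_26 rfl
    (Fn.rangeOK_step_fix hm44_25 rfl
    (Fn.rangeOK_step_fix hm44_24 rfl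
    (Fn.rangeOK_step_fix hm44_23 rfl
    (Fn.rangeOK_step_fix hm44_22 rfl
    (Fn.rangeOK_step_fix hm44_21 rfl
    (Fn.rangeOK_step_fix hm44_20 rfl
    (Fn.rangeOK_step_fix hm44_19 rfl
    (Fn.rangeOK_step_fix hm44_18 rfl
    (Fn.rangeOK_step_fix hm44_17 rfl
    (Fn.rangeOK_step_fix hm44_16 rfl
    (Fn.rangeOK_step_fix hm44_15 rfl
    (Fn.rangeOK_step_fix hm44_14 rfl
    (Fn.rangeOK_step_fix hm44_13 rfl
    (Fn.rangeOK_step_fix hm44_12 rfl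
    (Fn.rangeOK_step_fix hm44_11 rfl
    (Fn.rangeOK_step_fix hm44_10 rfl
    (Fn.rangeOK_step_fix hm44_9 rfl
    (Fn.rangeOK_step_fix hm44_8 rfl
    (Fn.rangeOK_step_fix hm44_7 rfl
    (Fn.rangeOK_step_fix hm44_6 rfl
    (Fn.rangeOK_step_fix hm44_5 rfl
    (Fn.rangeOK_step_fix hm44_4 rfl
    (Fn.rangeOK_step_fix hm44_3 rfl
    (Fn.rangeOK_step_fix hm44_2 rfl
    (Fn.rangeOK_step_fix hm44_1 rfl
    (Fn.rangeOK_step_fix hm44_0 rfl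
    (Fn.rangeOK_start TT [8, 9] 3 tN))))))))))))))))))))))))))))))))))))))

theorem hfix45 : ∀ i < tN, (Fn.applyW TT (([0, 10] : List ℕ), 2).1)^[(([0, 10] : List ℕ), 2).2] i = i :=
  Fn.fix_of_rangeOK (Fn.rangeOK_step_fix hm45_24 rfl
    (Fn.rangeOK_step_fix hm45_23 rfl
    (Fn.rangeOK_step_fix hm45_22 rfl
    (Fn.rangeOK_step_fix hm45_21 rfl
    (Fn.rangeOK_step_fix hm45_20 rfl
    (Fn.rangeOK_step_fix hm45_19 rfl
    (Fn.rangeOK_step_fix hm45_18 rfl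
    (Fn.rangeOK_step_fix hm45_17 rfl
    (Fn.rangeOK_step_fix hm45_16 rfl
    (Fn.rangeOK_step_fix hm45_15 rfl
    (Fn.rangeOK_step_fix hm45_14 rfl
    (Fn.rangeOK_step_fix hm45_13 rfl
    (Fn.rangeOK_step_fix hm45_12 rfl
    (Fn.rangeOK_step_fix hm45_11 rfl
    (Fn.rangeOK_step_fix hm45_10 rfl
    (Fn.rangeOK_step_fix hm45_9 rfl
    (Fn.rangeOK_step_fix hm45_8 rfl
    (Fn.rangeOK_step_fix hm45_7 rfl
    (Fn.rangeOK_step_fix hm45_6 rfl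
    (Fn.rangeOK_step_fix hm45_5 rfl
    (Fn.rangeOK_step_fix hm45_4 rfl
    (Fn.rangeOK_step_fix hm45_3 rfl
    (Fn.rangeOK_step_fix hm45_2 rfl
    (Fn.rangeOK_step_fix hm45_1 rfl
    (Fn.rangeOK_step_fix hm45_0 rfl
    (Fn.rangeOK_start TT [0, 10] 2 tN))))))))))))))))))))))))))

theorem hfix46 : ∀ i < tN, (Fn.applyW TT (([1, 10] : List ℕ), 2).1)^[(([1, 10] : List ℕ), 2).2] i = i :=
  Fn.fix_of_rangeOK (Fn.rangeOK_step_fix hm46_24 rfl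
    (Fn.rangeOK_step_fix hm46_23 rfl
    (Fn.rangeOK_step_fix hm46_22 rfl
    (Fn.rangeOK_step_fix hm46_21 rfl
    (Fn.rangeOK_step_fix hm46_20 rfl
    (Fn.rangeOK_step_fix hm46_19 rfl
    (Fn.rangeOK_step_fix hm46_18 rfl
    (Fn.rangeOK_step_fix hm46_17 rfl
    (Fn.rangeOK_step_fix hm46_16 rfl
    (Fn.rangeOK_step_fix hm46_15 rfl
    (Fn.rangeOK_step_fix hm46_14 rfl
    (Fn.rangeOK_step_fix hm46_13 rfl
    (Fn.rangeOK_step_fix hm46_12 rfl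
    (Fn.rangeOK_step_fix hm46_11 rfl
    (Fn.rangeOK_step_fix hm46_10 rfl
    (Fn.rangeOK_step_fix hm46_9 rfl
    (Fn.rangeOK_step_fix hm46_8 rfl
    (Fn.rangeOK_step_fix hm46_7 rfl
    (Fn.rangeOK_step_fix hm46_6 rfl
    (Fn.rangeOK_step_fix hm46_5 rfl
    (Fn.rangeOK_step_fix hm46_4 rfl
    (Fn.rangeOK_step_fix hm46_3 rfl
    (Fn.rangeOK_step_fix hm46_2 rfl
    (Fn.rangeOK_step_fix hm46_1 rfl
    (Fn.rangeOK_step_fix hm46_0 rfl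
    (Fn.rangeOK_start TT [1, 10] 2 tN))))))))))))))))))))))))))

theorem hfix47 : ∀ i < tN, (Fn.applyW TT (([2, 10] : List ℕ), 2).1)^[(([2, 10] : List ℕ), 2).2] i = i :=
  Fn.fix_of_rangeOK (Fn.rangeOK_step_fix hm47_24 rfl
    (Fn.rangeOK_step_fix hm47_23 rfl
    (Fn.rangeOK_step_fix hm47_22 rfl
    (Fn.rangeOK_step_fix hm47_21 rfl
    (Fn.rangeOK_step_fix hm47_20 rfl
    (Fn.rangeOK_step_fix hm47_19 rfl
    (Fn.rangeOK_step_fix hm47_18 rfl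
    (Fn.rangeOK_step_fix hm47_17 rfl
    (Fn.rangeOK_step_fix hm47_16 rfl
    (Fn.rangeOK_step_fix hm47_15 rfl
    (Fn.rangeOK_step_fix hm47_14 rfl
    (Fn.rangeOK_step_fix hm47_13 rfl
    (Fn.rangeOK_step_fix hm47_12 rfl
    (Fn.rangeOK_step_fix hm47_11 rfl
    (Fn.rangeOK_step_fix hm47_10 rfl
    (Fn.rangeOK_step_fix hm47_9 rfl
    (Fn.rangeOK_step_fix hm47_8 rfl
    (Fn.rangeOK_step_fix hm47_7 rfl
    (Fn.rangeOK_step_fix hm47_6 rfl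
    (Fn.rangeOK_step_fix hm47_5 rfl
    (Fn.rangeOK_step_fix hm47_4 rfl
    (Fn.rangeOK_step_fix hm47_3 rfl
    (Fn.rangeOK_step_fix hm47_2 rfl
    (Fn.rangeOK_step_fix hm47_1 rfl
    (Fn.rangeOK_step_fix hm47_0 rfl
    (Fn.rangeOK_start TT [2, 10] 2 tN))))))))))))))))))))))))))

theorem hfix48 : ∀ i < tN, (Fn.applyW TT (([3, 10] : List ℕ), 2).1)^[(([3, 10] : List ℕ), 2).2] i = i :=
  Fn.fix_of_rangeOK (Fn.rangeOK_step_fix hm48_24 rfl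
    (Fn.rangeOK_step_fix hm48_23 rfl
    (Fn.rangeOK_step_fix hm48_22 rfl
    (Fn.rangeOK_step_fix hm48_21 rfl
    (Fn.rangeOK_step_fix hm48_20 rfl
    (Fn.rangeOK_step_fix hm48_19 rfl
    (Fn.rangeOK_step_fix hm48_18 rfl
    (Fn.rangeOK_step_fix hm48_17 rfl
    (Fn.rangeOK_step_fix hm48_16 rfl
    (Fn.rangeOK_step_fix hm48_15 rfl
    (Fn.rangeOK_step_fix hm48_14 rfl
    (Fn.rangeOK_step_fix hm48_13 rfl
    (Fn.rangeOK_step_fix hm48_12 rfl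
    (Fn.rangeOK_step_fix hm48_11 rfl
    (Fn.rangeOK_step_fix hm48_10 rfl
    (Fn.rangeOK_step_fix hm48_9 rfl
    (Fn.rangeOK_step_fix hm48_8 rfl
    (Fn.rangeOK_step_fix hm48_7 rfl
    (Fn.rangeOK_step_fix hm48_6 rfl
    (Fn.rangeOK_step_fix hm48_5 rfl
    (Fn.rangeOK_step_fix hm48_4 rfl
    (Fn.rangeOK_step_fix hm48_3 rfl
    (Fn.rangeOK_step_fix hm48_2 rfl
    (Fn.rangeOK_step_fix hm48_1 rfl
    (Fn.rangeOK_step_fix hm48_0 rfl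
    (Fn.rangeOK_start TT [3, 10] 2 tN))))))))))))))))))))))))))

theorem hfix49 : ∀ i < tN, (Fn.applyW TT (([4, 10] : List ℕ), 2).1)^[(([4, 10] : List ℕ), 2).2] i = i :=
  Fn.fix_of_rangeOK (Fn.rangeOK_step_fix hm49_24 rfl
    (Fn.rangeOK_step_fix hm49_23 rfl
    (Fn.rangeOK_step_fix hm49_22 rfl
    (Fn.rangeOK_step_fix hm49_21 rfl
    (Fn.rangeOK_step_fix hm49_20 rfl
    (Fn.rangeOK_step_fix hm49_19 rfl
    (Fn.rangeOK_step_fix hm49_18 rfl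
    (Fn.rangeOK_step_fix hm49_17 rfl
    (Fn.rangeOK_step_fix hm49_16 rfl
    (Fn.rangeOK_step_fix hm49_15 rfl
    (Fn.rangeOK_step_fix hm49_14 rfl
    (Fn.rangeOK_step_fix hm49_13 rfl
    (Fn.rangeOK_step_fix hm49_12 rfl
    (Fn.rangeOK_step_fix hm49_11 rfl
    (Fn.rangeOK_step_fix hm49_10 rfl
    (Fn.rangeOK_step_fix hm49_9 rfl
    (Fn.rangeOK_step_fix hm49_8 rfl
    (Fn.rangeOK_step_fix hm49_7 rfl
    (Fn.rangeOK_step_fix hm49_6 rfl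
    (Fn.rangeOK_step_fix hm49_5 rfl
    (Fn.rangeOK_step_fix hm49_4 rfl
    (Fn.rangeOK_step_fix hm49_3 rfl
    (Fn.rangeOK_step_fix hm49_2 rfl
    (Fn.rangeOK_step_fix hm49_1 rfl
    (Fn.rangeOK_step_fix hm49_0 rfl
    (Fn.rangeOK_start TT [4, 10] 2 tN))))))))))))))))))))))))))

theorem hfix50 : ∀ i < tN, (Fn.applyW TT (([5, 10] : List ℕ), 3).1)^[(([5, 10] : List ℕ), 3).2] i = i :=
  Fn.fix_of_rangeOK (Fn.rangeOK_step_fix hm50_36 rfl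
    (Fn.rangeOK_step_fix hm50_35 rfl
    (Fn.rangeOK_step_fix hm50_34 rfl
    (Fn.rangeOK_step_fix hm50_33 rfl
    (Fn.rangeOK_step_fix hm50_32 rfl
    (Fn.rangeOK_step_fix hm50_31 rfl
    (Fn.rangeOK_step_fix hm50_30 rfl
    (Fn.rangeOK_step_fix hm50_29 rfl
    (Fn.rangeOK_step_fix hm50_28 rfl
    (Fn.rangeOK_step_fix hm50_27 rfl
    (Fn.rangeOK_step_fix hm50_26 rfl
    (Fn.rangeOK_step_fix hm50_25 rfl
    (Fn.rangeOK_step_fix hm50_24 rfl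
    (Fn.rangeOK_step_fix hm50_23 rfl
    (Fn.rangeOK_step_fix hm50_22 rfl
    (Fn.rangeOK_step_fix hm50_21 rfl
    (Fn.rangeOK_step_fix hm50_20 rfl
    (Fn.rangeOK_step_fix hm50_19 rfl
    (Fn.rangeOK_step_fix hm50_18 rfl
    (Fn.rangeOK_step_fix hm50_17 rfl
    (Fn.rangeOK_step_fix hm50_16 rfl
    (Fn.rangeOK_step_fix hm50_15 rfl
    (Fn.rangeOK_step_fix hm50_14 rfl
    (Fn.rangeOK_step_fix hm50_13 rfl
    (Fn.rangeOK_step_fix hm50_12 rfl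
    (Fn.rangeOK_step_fix hm50_11 rfl
    (Fn.rangeOK_step_fix hm50_10 rfl
    (Fn.rangeOK_step_fix hm50_9 rfl
    (Fn.rangeOK_step_fix hm50_8 rfl
    (Fn.rangeOK_step_fix hm50_7 rfl
    (Fn.rangeOK_step_fix hm50_6 rfl
    (Fn.rangeOK_step_fix hm50_5 rfl
    (Fn.rangeOK_step_fix hm50_4 rfl
    (Fn.rangeOK_step_fix hm50_3 rfl
    (Fn.rangeOK_step_fix hm50_2 rfl
    (Fn.rangeOK_step_fix hm50_1 rfl
    (Fn.rangeOK_step_fix hm50_0 rfl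
    (Fn.rangeOK_start TT [5, 10] 3 tN))))))))))))))))))))))))))))))))))))))

theorem hfix51 : ∀ i < tN, (Fn.applyW TT (([6, 10] : List ℕ), 2).1)^[(([6, 10] : List ℕ), 2).2] i = i :=
  Fn.fix_of_rangeOK (Fn.rangeOK_step_fix hm51_24 rfl
    (Fn.rangeOK_step_fix hm51_23 rfl
    (Fn.rangeOK_step_fix hm51_22 rfl
    (Fn.rangeOK_step_fix hm51_21 rfl
    (Fn.rangeOK_step_fix hm51_20 rfl
    (Fn.rangeOK_step_fix hm51_19 rfl
    (Fn.rangeOK_step_fix hm51_18 rfl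
    (Fn.rangeOK_step_fix hm51_17 rfl
    (Fn.rangeOK_step_fix hm51_16 rfl
    (Fn.rangeOK_step_fix hm51_15 rfl
    (Fn.rangeOK_step_fix hm51_14 rfl
    (Fn.rangeOK_step_fix hm51_13 rfl
    (Fn.rangeOK_step_fix hm51_12 rfl
    (Fn.rangeOK_step_fix hm51_11 rfl
    (Fn.rangeOK_step_fix hm51_10 rfl
    (Fn.rangeOK_step_fix hm51_9 rfl
    (Fn.rangeOK_step_fix hm51_8 rfl
    (Fn.rangeOK_step_fix hm51_7 rfl
    (Fn.rangeOK_step_fix hm51_6 rfl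
    (Fn.rangeOK_step_fix hm51_5 rfl
    (Fn.rangeOK_step_fix hm51_4 rfl
    (Fn.rangeOK_step_fix hm51_3 rfl
    (Fn.rangeOK_step_fix hm51_2 rfl
    (Fn.rangeOK_step_fix hm51_1 rfl
    (Fn.rangeOK_step_fix hm51_0 rfl
    (Fn.rangeOK_start TT [6, 10] 2 tN))))))))))))))))))))))))))

theorem hfix52 : ∀ i < tN, (Fn.applyW TT (([7, 10] : List ℕ), 2).1)^[(([7, 10] : List ℕ), 2).2] i = i :=
  Fn.fix_of_rangeOK (Fn.rangeOK_step_fix hm52_24 rfl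
    (Fn.rangeOK_step_fix hm52_23 rfl
    (Fn.rangeOK_step_fix hm52_22 rfl
    (Fn.rangeOK_step_fix hm52_21 rfl
    (Fn.rangeOK_step_fix hm52_20 rfl
    (Fn.rangeOK_step_fix hm52_19 rfl
    (Fn.rangeOK_step_fix hm52_18 rfl
    (Fn.rangeOK_step_fix hm52_17 rfl
    (Fn.rangeOK_step_fix hm52_16 rfl
    (Fn.rangeOK_step_fix hm52_15 rfl
    (Fn.rangeOK_step_fix hm52_14 rfl
    (Fn.rangeOK_step_fix hm52_13 rfl
    (Fn.rangeOK_step_fix hm52_12 rfl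
    (Fn.rangeOK_step_fix hm52_11 rfl
    (Fn.rangeOK_step_fix hm52_10 rfl
    (Fn.rangeOK_step_fix hm52_9 rfl
    (Fn.rangeOK_step_fix hm52_8 rfl
    (Fn.rangeOK_step_fix hm52_7 rfl
    (Fn.rangeOK_step_fix hm52_6 rfl
    (Fn.rangeOK_step_fix hm52_5 rfl
    (Fn.rangeOK_step_fix hm52_4 rfl
    (Fn.rangeOK_step_fix hm52_3 rfl
    (Fn.rangeOK_step_fix hm52_2 rfl
    (Fn.rangeOK_step_fix hm52_1 rfl
    (Fn.rangeOK_step_fix hm52_0 rfl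
    (Fn.rangeOK_start TT [7, 10] 2 tN))))))))))))))))))))))))))

theorem hfix53 : ∀ i < tN, (Fn.applyW TT (([8, 10] : List ℕ), 2).1)^[(([8, 10] : List ℕ), 2).2] i = i :=
  Fn.fix_of_rangeOK (Fn.rangeOK_step_fix hm53_24 rfl
    (Fn.rangeOK_step_fix hm53_23 rfl
    (Fn.rangeOK_step_fix hm53_22 rfl
    (Fn.rangeOK_step_fix hm53_21 rfl
    (Fn.rangeOK_step_fix hm53_20 rfl
    (Fn.rangeOK_step_fix hm53_19 rfl
    (Fn.rangeOK_step_fix hm53_18 rfl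
    (Fn.rangeOK_step_fix hm53_17 rfl
    (Fn.rangeOK_step_fix hm53_16 rfl
    (Fn.rangeOK_step_fix hm53_15 rfl
    (Fn.rangeOK_step_fix hm53_14 rfl
    (Fn.rangeOK_step_fix hm53_13 rfl
    (Fn.rangeOK_step_fix hm53_12 rfl
    (Fn.rangeOK_step_fix hm53_11 rfl
    (Fn.rangeOK_step_fix hm53_10 rfl
    (Fn.rangeOK_step_fix hm53_9 rfl
    (Fn.rangeOK_step_fix hm53_8 rfl
    (Fn.rangeOK_step_fix hm53_7 rfl
    (Fn.rangeOK_step_fix hm53_6 rfl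
    (Fn.rangeOK_step_fix hm53_5 rfl
    (Fn.rangeOK_step_fix hm53_4 rfl
    (Fn.rangeOK_step_fix hm53_3 rfl
    (Fn.rangeOK_step_fix hm53_2 rfl
    (Fn.rangeOK_step_fix hm53_1 rfl
    (Fn.rangeOK_step_fix hm53_0 rfl
    (Fn.rangeOK_start TT [8, 10] 2 tN))))))))))))))))))))))))))

theorem hfix54 : ∀ i < tN, (Fn.applyW TT (([9, 10] : List ℕ), 2).1)^[(([9, 10] : List ℕ), 2).2] i = i :=
  Fn.fix_of_rangeOK (Fn.rangeOK_step_fix hm54_24 rfl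
    (Fn.rangeOK_step_fix hm54_23 rfl
    (Fn.rangeOK_step_fix hm54_22 rfl
    (Fn.rangeOK_step_fix hm54_21 rfl
    (Fn.rangeOK_step_fix hm54_20 rfl
    (Fn.rangeOK_step_fix hm54_19 rfl
    (Fn.rangeOK_step_fix hm54_18 rfl
    (Fn.rangeOK_step_fix hm54_17 rfl
    (Fn.rangeOK_step_fix hm54_16 rfl
    (Fn.rangeOK_step_fix hm54_15 rfl
    (Fn.rangeOK_step_fix hm54_14 rfl
    (Fn.rangeOK_step_fix hm54_13 rfl
    (Fn.rangeOK_step_fix hm54_12 rfl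
    (Fn.rangeOK_step_fix hm54_11 rfl
    (Fn.rangeOK_step_fix hm54_10 rfl
    (Fn.rangeOK_step_fix hm54_9 rfl
    (Fn.rangeOK_step_fix hm54_8 rfl
    (Fn.rangeOK_step_fix hm54_7 rfl
    (Fn.rangeOK_step_fix hm54_6 rfl
    (Fn.rangeOK_step_fix hm54_5 rfl
    (Fn.rangeOK_step_fix hm54_4 rfl
    (Fn.rangeOK_step_fix hm54_3 rfl
    (Fn.rangeOK_step_fix hm54_2 rfl
    (Fn.rangeOK_step_fix hm54_1 rfl
    (Fn.rangeOK_step_fix hm54_0 rfl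
    (Fn.rangeOK_start TT [9, 10] 2 tN))))))))))))))))))))))))))

theorem hfix55 : ∀ i < tN, (Fn.applyW TT (([0, 11] : List ℕ), 2).1)^[(([0, 11] : List ℕ), 2).2] i = i :=
  Fn.fix_of_rangeOK (Fn.rangeOK_step_fix hm55_24 rfl
    (Fn.rangeOK_step_fix hm55_23 rfl
    (Fn.rangeOK_step_fix hm55_22 rfl
    (Fn.rangeOK_step_fix hm55_21 rfl
    (Fn.rangeOK_step_fix hm55_20 rfl
    (Fn.rangeOK_step_fix hm55_19 rfl
    (Fn.rangeOK_step_fix hm55_18 rfl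
    (Fn.rangeOK_step_fix hm55_17 rfl
    (Fn.rangeOK_step_fix hm55_16 rfl
    (Fn.rangeOK_step_fix hm55_15 rfl
    (Fn.rangeOK_step_fix hm55_14 rfl
    (Fn.rangeOK_step_fix hm55_13 rfl
    (Fn.rangeOK_step_fix hm55_12 rfl
    (Fn.rangeOK_step_fix hm55_11 rfl
    (Fn.rangeOK_step_fix hm55_10 rfl
    (Fn.rangeOK_step_fix hm55_9 rfl
    (Fn.rangeOK_step_fix hm55_8 rfl
    (Fn.rangeOK_step_fix hm55_7 rfl
    (Fn.rangeOK_step_fix hm55_6 rfl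
    (Fn.rangeOK_step_fix hm55_5 rfl
    (Fn.rangeOK_step_fix hm55_4 rfl
    (Fn.rangeOK_step_fix hm55_3 rfl
    (Fn.rangeOK_step_fix hm55_2 rfl
    (Fn.rangeOK_step_fix hm55_1 rfl
    (Fn.rangeOK_step_fix hm55_0 rfl
    (Fn.rangeOK_start TT [0, 11] 2 tN))))))))))))))))))))))))))

theorem hfix56 : ∀ i < tN, (Fn.applyW TT (([1, 11] : List ℕ), 2).1)^[(([1, 11] : List ℕ), 2).2] i = i :=
  Fn.fix_of_rangeOK (Fn.rangeOK_step_fix hm56_24 rfl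
    (Fn.rangeOK_step_fix hm56_23 rfl
    (Fn.rangeOK_step_fix hm56_22 rfl
    (Fn.rangeOK_step_fix hm56_21 rfl
    (Fn.rangeOK_step_fix hm56_20 rfl
    (Fn.rangeOK_step_fix hm56_19 rfl
    (Fn.rangeOK_step_fix hm56_18 rfl
    (Fn.rangeOK_step_fix hm56_17 rfl
    (Fn.rangeOK_step_fix hm56_16 rfl
    (Fn.rangeOK_step_fix hm56_15 rfl
    (Fn.rangeOK_step_fix hm56_14 rfl
    (Fn.rangeOK_step_fix hm56_13 rfl
    (Fn.rangeOK_step_fix hm56_12 rfl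
    (Fn.rangeOK_step_fix hm56_11 rfl
    (Fn.rangeOK_step_fix hm56_10 rfl
    (Fn.rangeOK_step_fix hm56_9 rfl
    (Fn.rangeOK_step_fix hm56_8 rfl
    (Fn.rangeOK_step_fix hm56_7 rfl
    (Fn.rangeOK_step_fix hm56_6 rfl
    (Fn.rangeOK_step_fix hm56_5 rfl
    (Fn.rangeOK_step_fix hm56_4 rfl
    (Fn.rangeOK_step_fix hm56_3 rfl
    (Fn.rangeOK_step_fix hm56_2 rfl
    (Fn.rangeOK_step_fix hm56_1 rfl
    (Fn.rangeOK_step_fix hm56_0 rfl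
    (Fn.rangeOK_start TT [1, 11] 2 tN))))))))))))))))))))))))))

theorem hfix57 : ∀ i < tN, (Fn.applyW TT (([2, 11] : List ℕ), 2).1)^[(([2, 11] : List ℕ), 2).2] i = i :=
  Fn.fix_of_rangeOK (Fn.rangeOK_step_fix hm57_24 rfl
    (Fn.rangeOK_step_fix hm57_23 rfl
    (Fn.rangeOK_step_fix hm57_22 rfl
    (Fn.rangeOK_step_fix hm57_21 rfl
    (Fn.rangeOK_step_fix hm57_20 rfl
    (Fn.rangeOK_step_fix hm57_19 rfl
    (Fn.rangeOK_step_fix hm57_18 rfl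
    (Fn.rangeOK_step_fix hm57_17 rfl
    (Fn.rangeOK_step_fix hm57_16 rfl
    (Fn.rangeOK_step_fix hm57_15 rfl
    (Fn.rangeOK_step_fix hm57_14 rfl
    (Fn.rangeOK_step_fix hm57_13 rfl
    (Fn.rangeOK_step_fix hm57_12 rfl
    (Fn.rangeOK_step_fix hm57_11 rfl
    (Fn.rangeOK_step_fix hm57_10 rfl
    (Fn.rangeOK_step_fix hm57_9 rfl
    (Fn.rangeOK_step_fix hm57_8 rfl
    (Fn.rangeOK_step_fix hm57_7 rfl
    (Fn.rangeOK_step_fix hm57_6 rfl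
    (Fn.rangeOK_step_fix hm57_5 rfl
    (Fn.rangeOK_step_fix hm57_4 rfl
    (Fn.rangeOK_step_fix hm57_3 rfl
    (Fn.rangeOK_step_fix hm57_2 rfl
    (Fn.rangeOK_step_fix hm57_1 rfl
    (Fn.rangeOK_step_fix hm57_0 rfl
    (Fn.rangeOK_start TT [2, 11] 2 tN))))))))))))))))))))))))))

theorem hfix58 : ∀ i < tN, (Fn.applyW TT (([3, 11] : List ℕ), 2).1)^[(([3, 11] : List ℕ), 2).2] i = i :=
  Fn.fix_of_rangeOK (Fn.rangeOK_step_fix hm58_24 rfl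
    (Fn.rangeOK_step_fix hm58_23 rfl
    (Fn.rangeOK_step_fix hm58_22 rfl
    (Fn.rangeOK_step_fix hm58_21 rfl
    (Fn.rangeOK_step_fix hm58_20 rfl
    (Fn.rangeOK_step_fix hm58_19 rfl
    (Fn.rangeOK_step_fix hm58_18 rfl
    (Fn.rangeOK_step_fix hm58_17 rfl
    (Fn.rangeOK_step_fix hm58_16 rfl
    (Fn.rangeOK_step_fix hm58_15 rfl
    (Fn.rangeOK_step_fix hm58_14 rfl
    (Fn.rangeOK_step_fix hm58_13 rfl
    (Fn.rangeOK_step_fix hm58_12 rfl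
    (Fn.rangeOK_step_fix hm58_11 rfl
    (Fn.rangeOK_step_fix hm58_10 rfl
    (Fn.rangeOK_step_fix hm58_9 rfl
    (Fn.rangeOK_step_fix hm58_8 rfl
    (Fn.rangeOK_step_fix hm58_7 rfl
    (Fn.rangeOK_step_fix hm58_6 rfl
    (Fn.rangeOK_step_fix hm58_5 rfl
    (Fn.rangeOK_step_fix hm58_4 rfl
    (Fn.rangeOK_step_fix hm58_3 rfl
    (Fn.rangeOK_step_fix hm58_2 rfl
    (Fn.rangeOK_step_fix hm58_1 rfl
    (Fn.rangeOK_step_fix hm58_0 rfl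
    (Fn.rangeOK_start TT [3, 11] 2 tN))))))))))))))))))))))))))

theorem hfix59 : ∀ i < tN, (Fn.applyW TT (([4, 11] : List ℕ), 2).1)^[(([4, 11] : List ℕ), 2).2] i = i :=
  Fn.fix_of_rangeOK (Fn.rangeOK_step_fix hm59_24 rfl
    (Fn.rangeOK_step_fix hm59_23 rfl
    (Fn.rangeOK_step_fix hm59_22 rfl
    (Fn.rangeOK_step_fix hm59_21 rfl
    (Fn.rangeOK_step_fix hm59_20 rfl
    (Fn.rangeOK_step_fix hm59_19 rfl
    (Fn.rangeOK_step_fix hm59_18 rfl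
    (Fn.rangeOK_step_fix hm59_17 rfl
    (Fn.rangeOK_step_fix hm59_16 rfl
    (Fn.rangeOK_step_fix hm59_15 rfl
    (Fn.rangeOK_step_fix hm59_14 rfl
    (Fn.rangeOK_step_fix hm59_13 rfl
    (Fn.rangeOK_step_fix hm59_12 rfl
    (Fn.rangeOK_step_fix hm59_11 rfl
    (Fn.rangeOK_step_fix hm59_10 rfl
    (Fn.rangeOK_step_fix hm59_9 rfl
    (Fn.rangeOK_step_fix hm59_8 rfl
    (Fn.rangeOK_step_fix hm59_7 rfl
    (Fn.rangeOK_step_fix hm59_6 rfl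
    (Fn.rangeOK_step_fix hm59_5 rfl
    (Fn.rangeOK_step_fix hm59_4 rfl
    (Fn.rangeOK_step_fix hm59_3 rfl
    (Fn.rangeOK_step_fix hm59_2 rfl
    (Fn.rangeOK_step_fix hm59_1 rfl
    (Fn.rangeOK_step_fix hm59_0 rfl
    (Fn.rangeOK_start TT [4, 11] 2 tN))))))))))))))))))))))))))

theorem hfix60 : ∀ i < tN, (Fn.applyW TT (([5, 11] : List ℕ), 2).1)^[(([5, 11] : List ℕ), 2).2] i = i :=
  Fn.fix_of_rangeOK (Fn.rangeOK_step_fix hm60_24 rfl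
    (Fn.rangeOK_step_fix hm60_23 rfl
    (Fn.rangeOK_step_fix hm60_22 rfl
    (Fn.rangeOK_step_fix hm60_21 rfl
    (Fn.rangeOK_step_fix hm60_20 rfl
    (Fn.rangeOK_step_fix hm60_19 rfl
    (Fn.rangeOK_step_fix hm60_18 rfl
    (Fn.rangeOK_step_fix hm60_17 rfl
    (Fn.rangeOK_step_fix hm60_16 rfl
    (Fn.rangeOK_step_fix hm60_15 rfl
    (Fn.rangeOK_step_fix hm60_14 rfl
    (Fn.rangeOK_step_fix hm60_13 rfl
    (Fn.rangeOK_step_fix hm60_12 rfl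
    (Fn.rangeOK_step_fix hm60_11 rfl
    (Fn.rangeOK_step_fix hm60_10 rfl
    (Fn.rangeOK_step_fix hm60_9 rfl
    (Fn.rangeOK_step_fix hm60_8 rfl
    (Fn.rangeOK_step_fix hm60_7 rfl
    (Fn.rangeOK_step_fix hm60_6 rfl
    (Fn.rangeOK_step_fix hm60_5 rfl
    (Fn.rangeOK_step_fix hm60_4 rfl
    (Fn.rangeOK_step_fix hm60_3 rfl
    (Fn.rangeOK_step_fix hm60_2 rfl
    (Fn.rangeOK_step_fix hm60_1 rfl
    (Fn.rangeOK_step_fix hm60_0 rfl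
    (Fn.rangeOK_start TT [5, 11] 2 tN))))))))))))))))))))))))))

theorem hfix61 : ∀ i < tN, (Fn.applyW TT (([6, 11] : List ℕ), 2).1)^[(([6, 11] : List ℕ), 2).2] i = i :=
  Fn.fix_of_rangeOK (Fn.rangeOK_step_fix hm61_24 rfl
    (Fn.rangeOK_step_fix hm61_23 rfl
    (Fn.rangeOK_step_fix hm61_22 rfl
    (Fn.rangeOK_step_fix hm61_21 rfl
    (Fn.rangeOK_step_fix hm61_20 rfl
    (Fn.rangeOK_step_fix hm61_19 rfl
    (Fn.rangeOK_step_fix hm61_18 rfl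
    (Fn.rangeOK_step_fix hm61_17 rfl
    (Fn.rangeOK_step_fix hm61_16 rfl
    (Fn.rangeOK_step_fix hm61_15 rfl
    (Fn.rangeOK_step_fix hm61_14 rfl
    (Fn.rangeOK_step_fix hm61_13 rfl
    (Fn.rangeOK_step_fix hm61_12 rfl
    (Fn.rangeOK_step_fix hm61_11 rfl
    (Fn.rangeOK_step_fix hm61_10 rfl
    (Fn.rangeOK_step_fix hm61_9 rfl
    (Fn.rangeOK_step_fix hm61_8 rfl
    (Fn.rangeOK_step_fix hm61_7 rfl
    (Fn.rangeOK_step_fix hm61_6 rfl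
    (Fn.rangeOK_step_fix hm61_5 rfl
    (Fn.rangeOK_step_fix hm61_4 rfl
    (Fn.rangeOK_step_fix hm61_3 rfl
    (Fn.rangeOK_step_fix hm61_2 rfl
    (Fn.rangeOK_step_fix hm61_1 rfl
    (Fn.rangeOK_step_fix hm61_0 rfl
    (Fn.rangeOK_start TT [6, 11] 2 tN))))))))))))))))))))))))))

theorem hfix62 : ∀ i < tN, (Fn.applyW TT (([7, 11] : List ℕ), 2).1)^[(([7, 11] : List ℕ), 2).2] i = i :=
  Fn.fix_of_rangeOK (Fn.rangeOK_step_fix hm62_24 rfl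
    (Fn.rangeOK_step_fix hm62_23 rfl
    (Fn.rangeOK_step_fix hm62_22 rfl
    (Fn.rangeOK_step_fix hm62_21 rfl
    (Fn.rangeOK_step_fix hm62_20 rfl
    (Fn.rangeOK_step_fix hm62_19 rfl
    (Fn.rangeOK_step_fix hm62_18 rfl
    (Fn.rangeOK_step_fix hm62_17 rfl
    (Fn.rangeOK_step_fix hm62_16 rfl
    (Fn.rangeOK_step_fix hm62_15 rfl
    (Fn.rangeOK_step_fix hm62_14 rfl
    (Fn.rangeOK_step_fix hm62_13 rfl
    (Fn.rangeOK_step_fix hm62_12 rfl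
    (Fn.rangeOK_step_fix hm62_11 rfl
    (Fn.rangeOK_step_fix hm62_10 rfl
    (Fn.rangeOK_step_fix hm62_9 rfl
    (Fn.rangeOK_step_fix hm62_8 rfl
    (Fn.rangeOK_step_fix hm62_7 rfl
    (Fn.rangeOK_step_fix hm62_6 rfl
    (Fn.rangeOK_step_fix hm62_5 rfl
    (Fn.rangeOK_step_fix hm62_4 rfl
    (Fn.rangeOK_step_fix hm62_3 rfl
    (Fn.rangeOK_step_fix hm62_2 rfl
    (Fn.rangeOK_step_fix hm62_1 rfl
    (Fn.rangeOK_step_fix hm62_0 rfl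
    (Fn.rangeOK_start TT [7, 11] 2 tN))))))))))))))))))))))))))

theorem hfix63 : ∀ i < tN, (Fn.applyW TT (([8, 11] : List ℕ), 2).1)^[(([8, 11] : List ℕ), 2).2] i = i :=
  Fn.fix_of_rangeOK (Fn.rangeOK_step_fix hm63_24 rfl
    (Fn.rangeOK_step_fix hm63_23 rfl
    (Fn.rangeOK_step_fix hm63_22 rfl
    (Fn.rangeOK_step_fix hm63_21 rfl
    (Fn.rangeOK_step_fix hm63_20 rfl
    (Fn.rangeOK_step_fix hm63_19 rfl
    (Fn.rangeOK_step_fix hm63_18 rfl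
    (Fn.rangeOK_step_fix hm63_17 rfl
    (Fn.rangeOK_step_fix hm63_16 rfl
    (Fn.rangeOK_step_fix hm63_15 rfl
    (Fn.rangeOK_step_fix hm63_14 rfl
    (Fn.rangeOK_step_fix hm63_13 rfl
    (Fn.rangeOK_step_fix hm63_12 rfl
    (Fn.rangeOK_step_fix hm63_11 rfl
    (Fn.rangeOK_step_fix hm63_10 rfl
    (Fn.rangeOK_step_fix hm63_9 rfl
    (Fn.rangeOK_step_fix hm63_8 rfl
    (Fn.rangeOK_step_fix hm63_7 rfl
    (Fn.rangeOK_step_fix hm63_6 rfl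
    (Fn.rangeOK_step_fix hm63_5 rfl
    (Fn.rangeOK_step_fix hm63_4 rfl
    (Fn.rangeOK_step_fix hm63_3 rfl
    (Fn.rangeOK_step_fix hm63_2 rfl
    (Fn.rangeOK_step_fix hm63_1 rfl
    (Fn.rangeOK_step_fix hm63_0 rfl
    (Fn.rangeOK_start TT [8, 11] 2 tN))))))))))))))))))))))))))

theorem hfix64 : ∀ i < tN, (Fn.applyW TT (([9, 11] : List ℕ), 2).1)^[(([9, 11] : List ℕ), 2).2] i = i :=
  Fn.fix_of_rangeOK (Fn.rangeOK_step_fix hm64_24 rfl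
    (Fn.rangeOK_step_fix hm64_23 rfl
    (Fn.rangeOK_step_fix hm64_22 rfl
    (Fn.rangeOK_step_fix hm64_21 rfl
    (Fn.rangeOK_step_fix hm64_20 rfl
    (Fn.rangeOK_step_fix hm64_19 rfl
    (Fn.rangeOK_step_fix hm64_18 rfl
    (Fn.rangeOK_step_fix hm64_17 rfl
    (Fn.rangeOK_step_fix hm64_16 rfl
    (Fn.rangeOK_step_fix hm64_15 rfl
    (Fn.rangeOK_step_fix hm64_14 rfl
    (Fn.rangeOK_step_fix hm64_13 rfl
    (Fn.rangeOK_step_fix hm64_12 rfl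
    (Fn.rangeOK_step_fix hm64_11 rfl
    (Fn.rangeOK_step_fix hm64_10 rfl
    (Fn.rangeOK_step_fix hm64_9 rfl
    (Fn.rangeOK_step_fix hm64_8 rfl
    (Fn.rangeOK_step_fix hm64_7 rfl
    (Fn.rangeOK_step_fix hm64_6 rfl
    (Fn.rangeOK_step_fix hm64_5 rfl
    (Fn.rangeOK_step_fix hm64_4 rfl
    (Fn.rangeOK_step_fix hm64_3 rfl
    (Fn.rangeOK_step_fix hm64_2 rfl
    (Fn.rangeOK_step_fix hm64_1 rfl
    (Fn.rangeOK_step_fix hm64_0 rfl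
    (Fn.rangeOK_start TT [9, 11] 2 tN))))))))))))))))))))))))))

theorem hfix65 : ∀ i < tN, (Fn.applyW TT (([10, 11] : List ℕ), 3).1)^[(([10, 11] : List ℕ), 3).2] i = i :=
  Fn.fix_of_rangeOK (Fn.rangeOK_step_fix hm65_36 rfl
    (Fn.rangeOK_step_fix hm65_35 rfl
    (Fn.rangeOK_step_fix hm65_34 rfl
    (Fn.rangeOK_step_fix hm65_33 rfl
    (Fn.rangeOK_step_fix hm65_32 rfl
    (Fn.rangeOK_step_fix hm65_31 rfl
    (Fn.rangeOK_step_fix hm65_30 rfl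
    (Fn.rangeOK_step_fix hm65_29 rfl
    (Fn.rangeOK_step_fix hm65_28 rfl
    (Fn.rangeOK_step_fix hm65_27 rfl
    (Fn.rangeOK_step_fix hm65_26 rfl
    (Fn.rangeOK_step_fix hm65_25 rfl
    (Fn.rangeOK_step_fix hm65_24 rfl
    (Fn.rangeOK_step_fix hm65_23 rfl
    (Fn.rangeOK_step_fix hm65_22 rfl
    (Fn.rangeOK_step_fix hm65_21 rfl
    (Fn.rangeOK_step_fix hm65_20 rfl
    (Fn.rangeOK_step_fix hm65_19 rfl
    (Fn.rangeOK_step_fix hm65_18 rfl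
    (Fn.rangeOK_step_fix hm65_17 rfl
    (Fn.rangeOK_step_fix hm65_16 rfl
    (Fn.rangeOK_step_fix hm65_15 rfl
    (Fn.rangeOK_step_fix hm65_14 rfl
    (Fn.rangeOK_step_fix hm65_13 rfl
    (Fn.rangeOK_step_fix hm65_12 rfl
    (Fn.rangeOK_step_fix hm65_11 rfl
    (Fn.rangeOK_step_fix hm65_10 rfl
    (Fn.rangeOK_step_fix hm65_9 rfl
    (Fn.rangeOK_step_fix hm65_8 rfl
    (Fn.rangeOK_step_fix hm65_7 rfl
    (Fn.rangeOK_step_fix hm65_6 rfl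
    (Fn.rangeOK_step_fix hm65_5 rfl
    (Fn.rangeOK_step_fix hm65_4 rfl
    (Fn.rangeOK_step_fix hm65_3 rfl
    (Fn.rangeOK_step_fix hm65_2 rfl
    (Fn.rangeOK_step_fix hm65_1 rfl
    (Fn.rangeOK_step_fix hm65_0 rfl
    (Fn.rangeOK_start TT [10, 11] 3 tN))))))))))))))))))))))))))))))))))))))

theorem hfix66 : ∀ i < tN, (Fn.applyW TT (([0, 10, 7, 6, 5, 4, 3, 2, 10, 7, 6, 5, 4, 3, 2, 10, 7, 6, 5, 4, 3, 2, 10, 7, 6, 5, 4, 3, 2, 10, 7, 6, 5, 4, 3, 2, 10, 7, 6, 5, 4, 3, 2, 10, 7, 6, 5, 4, 3, 2, 10, 7, 6, 5, 4, 3, 2, 10, 7, 6, 5, 4, 3, 2] : List ℕ), 1).1)^[(([0, 10, 7, 6, 5, 4, 3, 2, 10, 7, 6, 5, 4, 3, 2, 10, 7, 6, 5, 4, 3, 2, 10, 7, 6, 5, 4, 3, 2, 10, 7, 6, 5, 4, 3, 2, 10, 7, 6, 5, 4, 3, 2, 10, 7, 6, 5, 4, 3, 2, 10, 7, 6, 5, 4, 3, 2, 10, 7, 6, 5, 4, 3, 2] : List ℕ), 1).2] i = i :=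
  Fn.fix_of_rangeOK (Fn.rangeOK_step_fix hm66_393 rfl
    (Fn.rangeOK_step_fix hm66_392 rfl
    (Fn.rangeOK_step_fix hm66_391 rfl
    (Fn.rangeOK_step_fix hm66_390 rfl
    (Fn.rangeOK_step_fix hm66_389 rfl
    (Fn.rangeOK_step_fix hm66_388 rfl
    (Fn.rangeOK_step_fix hm66_387 rfl
    (Fn.rangeOK_step_fix hm66_386 rfl
    (Fn.rangeOK_step_fix hm66_385 rfl
    (Fn.rangeOK_step_fix hm66_384 rfl
    (Fn.rangeOK_step_fix hm66_383 rfl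
    (Fn.rangeOK_step_fix hm66_382 rfl
    (Fn.rangeOK_step_fix hm66_381 rfl
    (Fn.rangeOK_step_fix hm66_380 rfl
    (Fn.rangeOK_step_fix hm66_379 rfl
    (Fn.rangeOK_step_fix hm66_378 rfl
    (Fn.rangeOK_step_fix hm66_377 rfl
    (Fn.rangeOK_step_fix hm66_376 rfl
    (Fn.rangeOK_step_fix hm66_375 rfl
    (Fn.rangeOK_step_fix hm66_374 rfl
    (Fn.rangeOK_step_fix hm66_373 rfl
    (Fn.rangeOK_step_fix hm66_372 rfl
    (Fn.rangeOK_step_fix hm66_371 rfl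
    (Fn.rangeOK_step_fix hm66_370 rfl
    (Fn.rangeOK_step_fix hm66_369 rfl
    (Fn.rangeOK_step_fix hm66_368 rfl
    (Fn.rangeOK_step_fix hm66_367 rfl
    (Fn.rangeOK_step_fix hm66_366 rfl
    (Fn.rangeOK_step_fix hm66_365 rfl
    (Fn.rangeOK_step_fix hm66_364 rfl
    (Fn.rangeOK_step_fix hm66_363 rfl
    (Fn.rangeOK_step_fix hm66_362 rfl
    (Fn.rangeOK_step_fix hm66_361 rfl
    (Fn.rangeOK_step_fix hm66_360 rfl
    (Fn.rangeOK_step_fix hm66_359 rfl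
    (Fn.rangeOK_step_fix hm66_358 rfl
    (Fn.rangeOK_step_fix hm66_357 rfl
    (Fn.rangeOK_step_fix hm66_356 rfl
    (Fn.rangeOK_step_fix hm66_355 rfl
    (Fn.rangeOK_step_fix hm66_354 rfl
    (Fn.rangeOK_step_fix hm66_353 rfl
    (Fn.rangeOK_step_fix hm66_352 rfl
    (Fn.rangeOK_step_fix hm66_351 rfl
    (Fn.rangeOK_step_fix hm66_350 rfl
    (Fn.rangeOK_step_fix hm66_349 rfl
    (Fn.rangeOK_step_fix hm66_348 rfl
    (Fn.rangeOK_step_fix hm66_347 rfl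
    (Fn.rangeOK_step_fix hm66_346 rfl
    (Fn.rangeOK_step_fix hm66_345 rfl
    (Fn.rangeOK_step_fix hm66_344 rfl
    (Fn.rangeOK_step_fix hm66_343 rfl
    (Fn.rangeOK_step_fix hm66_342 rfl
    (Fn.rangeOK_step_fix hm66_341 rfl
    (Fn.rangeOK_step_fix hm66_340 rfl
    (Fn.rangeOK_step_fix hm66_339 rfl
    (Fn.rangeOK_step_fix hm66_338 rfl
    (Fn.rangeOK_step_fix hm66_337 rfl
    (Fn.rangeOK_step_fix hm66_336 rfl
    (Fn.rangeOK_step_fix hm66_335 rfl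
    (Fn.rangeOK_step_fix hm66_334 rfl
    (Fn.rangeOK_step_fix hm66_333 rfl
    (Fn.rangeOK_step_fix hm66_332 rfl
    (Fn.rangeOK_step_fix hm66_331 rfl
    (Fn.rangeOK_step_fix hm66_330 rfl
    (Fn.rangeOK_step_fix hm66_329 rfl
    (Fn.rangeOK_step_fix hm66_328 rfl
    (Fn.rangeOK_step_fix hm66_327 rfl
    (Fn.rangeOK_step_fix hm66_326 rfl
    (Fn.rangeOK_step_fix hm66_325 rfl
    (Fn.rangeOK_step_fix hm66_324 rfl
    (Fn.rangeOK_step_fix hm66_323 rfl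
    (Fn.rangeOK_step_fix hm66_322 rfl
    (Fn.rangeOK_step_fix hm66_321 rfl
    (Fn.rangeOK_step_fix hm66_320 rfl
    (Fn.rangeOK_step_fix hm66_319 rfl
    (Fn.rangeOK_step_fix hm66_318 rfl
    (Fn.rangeOK_step_fix hm66_317 rfl
    (Fn.rangeOK_step_fix hm66_316 rfl
    (Fn.rangeOK_step_fix hm66_315 rfl
    (Fn.rangeOK_step_fix hm66_314 rfl
    (Fn.rangeOK_step_fix hm66_313 rfl
    (Fn.rangeOK_step_fix hm66_312 rfl
    (Fn.rangeOK_step_fix hm66_311 rfl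
    (Fn.rangeOK_step_fix hm66_310 rfl
    (Fn.rangeOK_step_fix hm66_309 rfl
    (Fn.rangeOK_step_fix hm66_308 rfl
    (Fn.rangeOK_step_fix hm66_307 rfl
    (Fn.rangeOK_step_fix hm66_306 rfl
    (Fn.rangeOK_step_fix hm66_305 rfl
    (Fn.rangeOK_step_fix hm66_304 rfl
    (Fn.rangeOK_step_fix hm66_303 rfl
    (Fn.rangeOK_step_fix hm66_302 rfl
    (Fn.rangeOK_step_fix hm66_301 rfl
    (Fn.rangeOK_step_fix hm66_300 rfl
    (Fn.rangeOK_step_fix hm66_299 rfl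
    (Fn.rangeOK_step_fix hm66_298 rfl
    (Fn.rangeOK_step_fix hm66_297 rfl
    (Fn.rangeOK_step_fix hm66_296 rfl
    (Fn.rangeOK_step_fix hm66_295 rfl
    (Fn.rangeOK_step_fix hm66_294 rfl
    (Fn.rangeOK_step_fix hm66_293 rfl
    (Fn.rangeOK_step_fix hm66_292 rfl
    (Fn.rangeOK_step_fix hm66_291 rfl
    (Fn.rangeOK_step_fix hm66_290 rfl
    (Fn.rangeOK_step_fix hm66_289 rfl
    (Fn.rangeOK_step_fix hm66_288 rfl
    (Fn.rangeOK_step_fix hm66_287 rfl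
    (Fn.rangeOK_step_fix hm66_286 rfl
    (Fn.rangeOK_step_fix hm66_285 rfl
    (Fn.rangeOK_step_fix hm66_284 rfl
    (Fn.rangeOK_step_fix hm66_283 rfl
    (Fn.rangeOK_step_fix hm66_282 rfl
    (Fn.rangeOK_step_fix hm66_281 rfl
    (Fn.rangeOK_step_fix hm66_280 rfl
    (Fn.rangeOK_step_fix hm66_279 rfl
    (Fn.rangeOK_step_fix hm66_278 rfl
    (Fn.rangeOK_step_fix hm66_277 rfl
    (Fn.rangeOK_step_fix hm66_276 rfl
    (Fn.rangeOK_step_fix hm66_275 rfl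
    (Fn.rangeOK_step_fix hm66_274 rfl
    (Fn.rangeOK_step_fix hm66_273 rfl
    (Fn.rangeOK_step_fix hm66_272 rfl
    (Fn.rangeOK_step_fix hm66_271 rfl
    (Fn.rangeOK_step_fix hm66_270 rfl
    (Fn.rangeOK_step_fix hm66_269 rfl
    (Fn.rangeOK_step_fix hm66_268 rfl
    (Fn.rangeOK_step_fix hm66_267 rfl
    (Fn.rangeOK_step_fix hm66_266 rfl
    (Fn.rangeOK_step_fix hm66_265 rfl
    (Fn.rangeOK_step_fix hm66_264 rfl
    (Fn.rangeOK_step_fix hm66_263 rfl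
    (Fn.rangeOK_step_fix hm66_262 rfl
    (Fn.rangeOK_step_fix hm66_261 rfl
    (Fn.rangeOK_step_fix hm66_260 rfl
    (Fn.rangeOK_step_fix hm66_259 rfl
    (Fn.rangeOK_step_fix hm66_258 rfl
    (Fn.rangeOK_step_fix hm66_257 rfl
    (Fn.rangeOK_step_fix hm66_256 rfl
    (Fn.rangeOK_step_fix hm66_255 rfl
    (Fn.rangeOK_step_fix hm66_254 rfl
    (Fn.rangeOK_step_fix hm66_253 rfl
    (Fn.rangeOK_step_fix hm66_252 rfl
    (Fn.rangeOK_step_fix hm66_251 rfl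
    (Fn.rangeOK_step_fix hm66_250 rfl
    (Fn.rangeOK_step_fix hm66_249 rfl
    (Fn.rangeOK_step_fix hm66_248 rfl
    (Fn.rangeOK_step_fix hm66_247 rfl
    (Fn.rangeOK_step_fix hm66_246 rfl
    (Fn.rangeOK_step_fix hm66_245 rfl
    (Fn.rangeOK_step_fix hm66_244 rfl
    (Fn.rangeOK_step_fix hm66_243 rfl
    (Fn.rangeOK_step_fix hm66_242 rfl
    (Fn.rangeOK_step_fix hm66_241 rfl
    (Fn.rangeOK_step_fix hm66_240 rfl
    (Fn.rangeOK_step_fix hm66_239 rfl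
    (Fn.rangeOK_step_fix hm66_238 rfl
    (Fn.rangeOK_step_fix hm66_237 rfl
    (Fn.rangeOK_step_fix hm66_236 rfl
    (Fn.rangeOK_step_fix hm66_235 rfl
    (Fn.rangeOK_step_fix hm66_234 rfl
    (Fn.rangeOK_step_fix hm66_233 rfl
    (Fn.rangeOK_step_fix hm66_232 rfl
    (Fn.rangeOK_step_fix hm66_231 rfl
    (Fn.rangeOK_step_fix hm66_230 rfl
    (Fn.rangeOK_step_fix hm66_229 rfl
    (Fn.rangeOK_step_fix hm66_228 rfl
    (Fn.rangeOK_step_fix hm66_227 rfl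
    (Fn.rangeOK_step_fix hm66_226 rfl
    (Fn.rangeOK_step_fix hm66_225 rfl
    (Fn.rangeOK_step_fix hm66_224 rfl
    (Fn.rangeOK_step_fix hm66_223 rfl
    (Fn.rangeOK_step_fix hm66_222 rfl
    (Fn.rangeOK_step_fix hm66_221 rfl
    (Fn.rangeOK_step_fix hm66_220 rfl
    (Fn.rangeOK_step_fix hm66_219 rfl
    (Fn.rangeOK_step_fix hm66_218 rfl
    (Fn.rangeOK_step_fix hm66_217 rfl
    (Fn.rangeOK_step_fix hm66_216 rfl
    (Fn.rangeOK_step_fix hm66_215 rfl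
    (Fn.rangeOK_step_fix hm66_214 rfl
    (Fn.rangeOK_step_fix hm66_213 rfl
    (Fn.rangeOK_step_fix hm66_212 rfl
    (Fn.rangeOK_step_fix hm66_211 rfl
    (Fn.rangeOK_step_fix hm66_210 rfl
    (Fn.rangeOK_step_fix hm66_209 rfl
    (Fn.rangeOK_step_fix hm66_208 rfl
    (Fn.rangeOK_step_fix hm66_207 rfl
    (Fn.rangeOK_step_fix hm66_206 rfl
    (Fn.rangeOK_step_fix hm66_205 rfl
    (Fn.rangeOK_step_fix hm66_204 rfl
    (Fn.rangeOK_step_fix hm66_203 rfl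
    (Fn.rangeOK_step_fix hm66_202 rfl
    (Fn.rangeOK_step_fix hm66_201 rfl
    (Fn.rangeOK_step_fix hm66_200 rfl
    (Fn.rangeOK_step_fix hm66_199 rfl
    (Fn.rangeOK_step_fix hm66_198 rfl
    (Fn.rangeOK_step_fix hm66_197 rfl
    (Fn.rangeOK_step_fix hm66_196 rfl
    (Fn.rangeOK_step_fix hm66_195 rfl
    (Fn.rangeOK_step_fix hm66_194 rfl
    (Fn.rangeOK_step_fix hm66_193 rfl
    (Fn.rangeOK_step_fix hm66_192 rfl
    (Fn.rangeOK_step_fix hm66_191 rfl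
    (Fn.rangeOK_step_fix hm66_190 rfl
    (Fn.rangeOK_step_fix hm66_189 rfl
    (Fn.rangeOK_step_fix hm66_188 rfl
    (Fn.rangeOK_step_fix hm66_187 rfl
    (Fn.rangeOK_step_fix hm66_186 rfl
    (Fn.rangeOK_step_fix hm66_185 rfl
    (Fn.rangeOK_step_fix hm66_184 rfl
    (Fn.rangeOK_step_fix hm66_183 rfl
    (Fn.rangeOK_step_fix hm66_182 rfl
    (Fn.rangeOK_step_fix hm66_181 rfl
    (Fn.rangeOK_step_fix hm66_180 rfl
    (Fn.rangeOK_step_fix hm66_179 rfl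
    (Fn.rangeOK_step_fix hm66_178 rfl
    (Fn.rangeOK_step_fix hm66_177 rfl
    (Fn.rangeOK_step_fix hm66_176 rfl
    (Fn.rangeOK_step_fix hm66_175 rfl
    (Fn.rangeOK_step_fix hm66_174 rfl
    (Fn.rangeOK_step_fix hm66_173 rfl
    (Fn.rangeOK_step_fix hm66_172 rfl
    (Fn.rangeOK_step_fix hm66_171 rfl
    (Fn.rangeOK_step_fix hm66_170 rfl
    (Fn.rangeOK_step_fix hm66_169 rfl
    (Fn.rangeOK_step_fix hm66_168 rfl
    (Fn.rangeOK_step_fix hm66_167 rfl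
    (Fn.rangeOK_step_fix hm66_166 rfl
    (Fn.rangeOK_step_fix hm66_165 rfl
    (Fn.rangeOK_step_fix hm66_164 rfl
    (Fn.rangeOK_step_fix hm66_163 rfl
    (Fn.rangeOK_step_fix hm66_162 rfl
    (Fn.rangeOK_step_fix hm66_161 rfl
    (Fn.rangeOK_step_fix hm66_160 rfl
    (Fn.rangeOK_step_fix hm66_159 rfl
    (Fn.rangeOK_step_fix hm66_158 rfl
    (Fn.rangeOK_step_fix hm66_157 rfl
    (Fn.rangeOK_step_fix hm66_156 rfl
    (Fn.rangeOK_step_fix hm66_155 rfl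
    (Fn.rangeOK_step_fix hm66_154 rfl
    (Fn.rangeOK_step_fix hm66_153 rfl
    (Fn.rangeOK_step_fix hm66_152 rfl
    (Fn.rangeOK_step_fix hm66_151 rfl
    (Fn.rangeOK_step_fix hm66_150 rfl
    (Fn.rangeOK_step_fix hm66_149 rfl
    (Fn.rangeOK_step_fix hm66_148 rfl
    (Fn.rangeOK_step_fix hm66_147 rfl
    (Fn.rangeOK_step_fix hm66_146 rfl
    (Fn.rangeOK_step_fix hm66_145 rfl
    (Fn.rangeOK_step_fix hm66_144 rfl
    (Fn.rangeOK_step_fix hm66_143 rfl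
    (Fn.rangeOK_step_fix hm66_142 rfl
    (Fn.rangeOK_step_fix hm66_141 rfl
    (Fn.rangeOK_step_fix hm66_140 rfl
    (Fn.rangeOK_step_fix hm66_139 rfl
    (Fn.rangeOK_step_fix hm66_138 rfl
    (Fn.rangeOK_step_fix hm66_137 rfl
    (Fn.rangeOK_step_fix hm66_136 rfl
    (Fn.rangeOK_step_fix hm66_135 rfl
    (Fn.rangeOK_step_fix hm66_134 rfl
    (Fn.rangeOK_step_fix hm66_133 rfl
    (Fn.rangeOK_step_fix hm66_132 rfl
    (Fn.rangeOK_step_fix hm66_131 rfl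
    (Fn.rangeOK_step_fix hm66_130 rfl
    (Fn.rangeOK_step_fix hm66_129 rfl
    (Fn.rangeOK_step_fix hm66_128 rfl
    (Fn.rangeOK_step_fix hm66_127 rfl
    (Fn.rangeOK_step_fix hm66_126 rfl
    (Fn.rangeOK_step_fix hm66_125 rfl
    (Fn.rangeOK_step_fix hm66_124 rfl
    (Fn.rangeOK_step_fix hm66_123 rfl
    (Fn.rangeOK_step_fix hm66_122 rfl
    (Fn.rangeOK_step_fix hm66_121 rfl
    (Fn.rangeOK_step_fix hm66_120 rfl
    (Fn.rangeOK_step_fix hm66_119 rfl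
    (Fn.rangeOK_step_fix hm66_118 rfl
    (Fn.rangeOK_step_fix hm66_117 rfl
    (Fn.rangeOK_step_fix hm66_116 rfl
    (Fn.rangeOK_step_fix hm66_115 rfl
    (Fn.rangeOK_step_fix hm66_114 rfl
    (Fn.rangeOK_step_fix hm66_113 rfl
    (Fn.rangeOK_step_fix hm66_112 rfl
    (Fn.rangeOK_step_fix hm66_111 rfl
    (Fn.rangeOK_step_fix hm66_110 rfl
    (Fn.rangeOK_step_fix hm66_109 rfl
    (Fn.rangeOK_step_fix hm66_108 rfl
    (Fn.rangeOK_step_fix hm66_107 rfl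
    (Fn.rangeOK_step_fix hm66_106 rfl
    (Fn.rangeOK_step_fix hm66_105 rfl
    (Fn.rangeOK_step_fix hm66_104 rfl
    (Fn.rangeOK_step_fix hm66_103 rfl
    (Fn.rangeOK_step_fix hm66_102 rfl
    (Fn.rangeOK_step_fix hm66_101 rfl
    (Fn.rangeOK_step_fix hm66_100 rfl
    (Fn.rangeOK_step_fix hm66_99 rfl
    (Fn.rangeOK_step_fix hm66_98 rfl
    (Fn.rangeOK_step_fix hm66_97 rfl
    (Fn.rangeOK_step_fix hm66_96 rfl
    (Fn.rangeOK_step_fix hm66_95 rfl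
    (Fn.rangeOK_step_fix hm66_94 rfl
    (Fn.rangeOK_step_fix hm66_93 rfl
    (Fn.rangeOK_step_fix hm66_92 rfl
    (Fn.rangeOK_step_fix hm66_91 rfl
    (Fn.rangeOK_step_fix hm66_90 rfl
    (Fn.rangeOK_step_fix hm66_89 rfl
    (Fn.rangeOK_step_fix hm66_88 rfl
    (Fn.rangeOK_step_fix hm66_87 rfl
    (Fn.rangeOK_step_fix hm66_86 rfl
    (Fn.rangeOK_step_fix hm66_85 rfl
    (Fn.rangeOK_step_fix hm66_84 rfl
    (Fn.rangeOK_step_fix hm66_83 rfl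
    (Fn.rangeOK_step_fix hm66_82 rfl
    (Fn.rangeOK_step_fix hm66_81 rfl
    (Fn.rangeOK_step_fix hm66_80 rfl
    (Fn.rangeOK_step_fix hm66_79 rfl
    (Fn.rangeOK_step_fix hm66_78 rfl
    (Fn.rangeOK_step_fix hm66_77 rfl
    (Fn.rangeOK_step_fix hm66_76 rfl
    (Fn.rangeOK_step_fix hm66_75 rfl
    (Fn.rangeOK_step_fix hm66_74 rfl
    (Fn.rangeOK_step_fix hm66_73 rfl
    (Fn.rangeOK_step_fix hm66_72 rfl
    (Fn.rangeOK_step_fix hm66_71 rfl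
    (Fn.rangeOK_step_fix hm66_70 rfl
    (Fn.rangeOK_step_fix hm66_69 rfl
    (Fn.rangeOK_step_fix hm66_68 rfl
    (Fn.rangeOK_step_fix hm66_67 rfl
    (Fn.rangeOK_step_fix hm66_66 rfl
    (Fn.rangeOK_step_fix hm66_65 rfl
    (Fn.rangeOK_step_fix hm66_64 rfl
    (Fn.rangeOK_step_fix hm66_63 rfl
    (Fn.rangeOK_step_fix hm66_62 rfl
    (Fn.rangeOK_step_fix hm66_61 rfl
    (Fn.rangeOK_step_fix hm66_60 rfl
    (Fn.rangeOK_step_fix hm66_59 rfl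
    (Fn.rangeOK_step_fix hm66_58 rfl
    (Fn.rangeOK_step_fix hm66_57 rfl
    (Fn.rangeOK_step_fix hm66_56 rfl
    (Fn.rangeOK_step_fix hm66_55 rfl
    (Fn.rangeOK_step_fix hm66_54 rfl
    (Fn.rangeOK_step_fix hm66_53 rfl
    (Fn.rangeOK_step_fix hm66_52 rfl
    (Fn.rangeOK_step_fix hm66_51 rfl
    (Fn.rangeOK_step_fix hm66_50 rfl
    (Fn.rangeOK_step_fix hm66_49 rfl
    (Fn.rangeOK_step_fix hm66_48 rfl
    (Fn.rangeOK_step_fix hm66_47 rfl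
    (Fn.rangeOK_step_fix hm66_46 rfl
    (Fn.rangeOK_step_fix hm66_45 rfl
    (Fn.rangeOK_step_fix hm66_44 rfl
    (Fn.rangeOK_step_fix hm66_43 rfl
    (Fn.rangeOK_step_fix hm66_42 rfl
    (Fn.rangeOK_step_fix hm66_41 rfl
    (Fn.rangeOK_step_fix hm66_40 rfl
    (Fn.rangeOK_step_fix hm66_39 rfl
    (Fn.rangeOK_step_fix hm66_38 rfl
    (Fn.rangeOK_step_fix hm66_37 rfl
    (Fn.rangeOK_step_fix hm66_36 rfl
    (Fn.rangeOK_step_fix hm66_35 rfl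
    (Fn.rangeOK_step_fix hm66_34 rfl
    (Fn.rangeOK_step_fix hm66_33 rfl
    (Fn.rangeOK_step_fix hm66_32 rfl
    (Fn.rangeOK_step_fix hm66_31 rfl
    (Fn.rangeOK_step_fix hm66_30 rfl
    (Fn.rangeOK_step_fix hm66_29 rfl
    (Fn.rangeOK_step_fix hm66_28 rfl
    (Fn.rangeOK_step_fix hm66_27 rfl
    (Fn.rangeOK_step_fix hm66_26 rfl
    (Fn.rangeOK_step_fix hm66_25 rfl
    (Fn.rangeOK_step_fix hm66_24 rfl
    (Fn.rangeOK_step_fix hm66_23 rfl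
    (Fn.rangeOK_step_fix hm66_22 rfl
    (Fn.rangeOK_step_fix hm66_21 rfl
    (Fn.rangeOK_step_fix hm66_20 rfl
    (Fn.rangeOK_step_fix hm66_19 rfl
    (Fn.rangeOK_step_fix hm66_18 rfl
    (Fn.rangeOK_step_fix hm66_17 rfl
    (Fn.rangeOK_step_fix hm66_16 rfl
    (Fn.rangeOK_step_fix hm66_15 rfl
    (Fn.rangeOK_step_fix hm66_14 rfl
    (Fn.rangeOK_step_fix hm66_13 rfl
    (Fn.rangeOK_step_fix hm66_12 rfl
    (Fn.rangeOK_step_fix hm66_11 rfl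
    (Fn.rangeOK_step_fix hm66_10 rfl
    (Fn.rangeOK_step_fix hm66_9 rfl
    (Fn.rangeOK_step_fix hm66_8 rfl
    (Fn.rangeOK_step_fix hm66_7 rfl
    (Fn.rangeOK_step_fix hm66_6 rfl
    (Fn.rangeOK_step_fix hm66_5 rfl
    (Fn.rangeOK_step_fix hm66_4 rfl
    (Fn.rangeOK_step_fix hm66_3 rfl
    (Fn.rangeOK_step_fix hm66_2 rfl
    (Fn.rangeOK_step_fix hm66_1 rfl
    (Fn.rangeOK_step_fix hm66_0 rfl
    (Fn.rangeOK_start TT [0, 10, 7, 6, 5, 4, 3, 2, 10, 7, 6, 5, 4, 3, 2, 10, 7, 6, 5, 4, 3, 2, 10, 7, 6, 5, 4, 3, 2, 10, 7, 6, 5, 4, 3, 2, 10, 7, 6, 5, 4, 3, 2, 10, 7, 6, 5, 4, 3, 2, 10, 7, 6, 5, 4, 3, 2, 10, 7, 6, 5, 4, 3, 2] 1 tN)))))))))))))))))))))))))))))))))))))))))))))))))))))))))))))))))))))))))))))))))))))))))))))))))))))))))))))))))))))))))))))))))))))))))))))))))))))))))))))))))))))))))))))))))))))))))))))))))))))))))))))))))))))))))))))))))))))))))))))))))))))))))))))))))))))))))))))))))))))))))))))))))))))))))))))))))))))))))))))))))))))))))))))))))))))))))))))))))))))))))))))))))))))))))))))))))))))))))))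

theorem hfix67 : ∀ i < tN, (Fn.applyW TT (([13, 5, 4, 3, 2, 1, 0, 5, 6, 7, 8, 9, 5, 10, 11] : List ℕ), 1).1)^[(([13, 5, 4, 3, 2, 1, 0, 5, 6, 7, 8, 9, 5, 10, 11] : List ℕ), 1).2] i = i :=
  Fn.fix_of_rangeOK (Fn.rangeOK_step_fix hm67_92 rfl
    (Fn.rangeOK_step_fix hm67_91 rfl
    (Fn.rangeOK_step_fix hm67_90 rfl
    (Fn.rangeOK_step_fix hm67_89 rfl
    (Fn.rangeOK_step_fix hm67_88 rfl
    (Fn.rangeOK_step_fix hm67_87 rfl
    (Fn.rangeOK_step_fix hm67_86 rfl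
    (Fn.rangeOK_step_fix hm67_85 rfl
    (Fn.rangeOK_step_fix hm67_84 rfl
    (Fn.rangeOK_step_fix hm67_83 rfl
    (Fn.rangeOK_step_fix hm67_82 rfl
    (Fn.rangeOK_step_fix hm67_81 rfl
    (Fn.rangeOK_step_fix hm67_80 rfl
    (Fn.rangeOK_step_fix hm67_79 rfl
    (Fn.rangeOK_step_fix hm67_78 rfl
    (Fn.rangeOK_step_fix hm67_77 rfl
    (Fn.rangeOK_step_fix hm67_76 rfl
    (Fn.rangeOK_step_fix hm67_75 rfl
    (Fn.rangeOK_step_fix hm67_74 rfl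
    (Fn.rangeOK_step_fix hm67_73 rfl
    (Fn.rangeOK_step_fix hm67_72 rfl
    (Fn.rangeOK_step_fix hm67_71 rfl
    (Fn.rangeOK_step_fix hm67_70 rfl
    (Fn.rangeOK_step_fix hm67_69 rfl
    (Fn.rangeOK_step_fix hm67_68 rfl
    (Fn.rangeOK_step_fix hm67_67 rfl
    (Fn.rangeOK_step_fix hm67_66 rfl
    (Fn.rangeOK_step_fix hm67_65 rfl
    (Fn.rangeOK_step_fix hm67_64 rfl
    (Fn.rangeOK_step_fix hm67_63 rfl
    (Fn.rangeOK_step_fix hm67_62 rfl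
    (Fn.rangeOK_step_fix hm67_61 rfl
    (Fn.rangeOK_step_fix hm67_60 rfl
    (Fn.rangeOK_step_fix hm67_59 rfl
    (Fn.rangeOK_step_fix hm67_58 rfl
    (Fn.rangeOK_step_fix hm67_57 rfl
    (Fn.rangeOK_step_fix hm67_56 rfl
    (Fn.rangeOK_step_fix hm67_55 rfl
    (Fn.rangeOK_step_fix hm67_54 rfl
    (Fn.rangeOK_step_fix hm67_53 rfl
    (Fn.rangeOK_step_fix hm67_52 rfl
    (Fn.rangeOK_step_fix hm67_51 rfl
    (Fn.rangeOK_step_fix hm67_50 rfl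
    (Fn.rangeOK_step_fix hm67_49 rfl
    (Fn.rangeOK_step_fix hm67_48 rfl
    (Fn.rangeOK_step_fix hm67_47 rfl
    (Fn.rangeOK_step_fix hm67_46 rfl
    (Fn.rangeOK_step_fix hm67_45 rfl
    (Fn.rangeOK_step_fix hm67_44 rfl
    (Fn.rangeOK_step_fix hm67_43 rfl
    (Fn.rangeOK_step_fix hm67_42 rfl
    (Fn.rangeOK_step_fix hm67_41 rfl
    (Fn.rangeOK_step_fix hm67_40 rfl
    (Fn.rangeOK_step_fix hm67_39 rfl
    (Fn.rangeOK_step_fix hm67_38 rfl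
    (Fn.rangeOK_step_fix hm67_37 rfl
    (Fn.rangeOK_step_fix hm67_36 rfl
    (Fn.rangeOK_step_fix hm67_35 rfl
    (Fn.rangeOK_step_fix hm67_34 rfl
    (Fn.rangeOK_step_fix hm67_33 rfl
    (Fn.rangeOK_step_fix hm67_32 rfl
    (Fn.rangeOK_step_fix hm67_31 rfl
    (Fn.rangeOK_step_fix hm67_30 rfl
    (Fn.rangeOK_step_fix hm67_29 rfl
    (Fn.rangeOK_step_fix hm67_28 rfl
    (Fn.rangeOK_step_fix hm67_27 rfl
    (Fn.rangeOK_step_fix hm67_26 rfl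
    (Fn.rangeOK_step_fix hm67_25 rfl
    (Fn.rangeOK_step_fix hm67_24 rfl
    (Fn.rangeOK_step_fix hm67_23 rfl
    (Fn.rangeOK_step_fix hm67_22 rfl
    (Fn.rangeOK_step_fix hm67_21 rfl
    (Fn.rangeOK_step_fix hm67_20 rfl
    (Fn.rangeOK_step_fix hm67_19 rfl
    (Fn.rangeOK_step_fix hm67_18 rfl
    (Fn.rangeOK_step_fix hm67_17 rfl
    (Fn.rangeOK_step_fix hm67_16 rfl
    (Fn.rangeOK_step_fix hm67_15 rfl
    (Fn.rangeOK_step_fix hm67_14 rfl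
    (Fn.rangeOK_step_fix hm67_13 rfl
    (Fn.rangeOK_step_fix hm67_12 rfl
    (Fn.rangeOK_step_fix hm67_11 rfl
    (Fn.rangeOK_step_fix hm67_10 rfl
    (Fn.rangeOK_step_fix hm67_9 rfl
    (Fn.rangeOK_step_fix hm67_8 rfl
    (Fn.rangeOK_step_fix hm67_7 rfl
    (Fn.rangeOK_step_fix hm67_6 rfl
    (Fn.rangeOK_step_fix hm67_5 rfl
    (Fn.rangeOK_step_fix hm67_4 rfl
    (Fn.rangeOK_step_fix hm67_3 rfl
    (Fn.rangeOK_step_fix hm67_2 rfl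
    (Fn.rangeOK_step_fix hm67_1 rfl
    (Fn.rangeOK_step_fix hm67_0 rfl
    (Fn.rangeOK_start TT [13, 5, 4, 3, 2, 1, 0, 5, 6, 7, 8, 9, 5, 10, 11] 1 tN))))))))))))))))))))))))))))))))))))))))))))))))))))))))))))))))))))))))))))))))))))))))))))))

theorem hfix68 : ∀ i < tN, (Fn.applyW TT (([12] : List ℕ), 17).1)^[(([12] : List ℕ), 17).2] i = i :=
  Fn.fix_of_rangeOK (Fn.rangeOK_step_fix hm68_104 rfl
    (Fn.rangeOK_step_fix hm68_103 rfl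
    (Fn.rangeOK_step_fix hm68_102 rfl
    (Fn.rangeOK_step_fix hm68_101 rfl
    (Fn.rangeOK_step_fix hm68_100 rfl
    (Fn.rangeOK_step_fix hm68_99 rfl
    (Fn.rangeOK_step_fix hm68_98 rfl
    (Fn.rangeOK_step_fix hm68_97 rfl
    (Fn.rangeOK_step_fix hm68_96 rfl
    (Fn.rangeOK_step_fix hm68_95 rfl
    (Fn.rangeOK_step_fix hm68_94 rfl
    (Fn.rangeOK_step_fix hm68_93 rfl
    (Fn.rangeOK_step_fix hm68_92 rfl
    (Fn.rangeOK_step_fix hm68_91 rfl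
    (Fn.rangeOK_step_fix hm68_90 rfl
    (Fn.rangeOK_step_fix hm68_89 rfl
    (Fn.rangeOK_step_fix hm68_88 rfl
    (Fn.rangeOK_step_fix hm68_87 rfl
    (Fn.rangeOK_step_fix hm68_86 rfl
    (Fn.rangeOK_step_fix hm68_85 rfl
    (Fn.rangeOK_step_fix hm68_84 rfl
    (Fn.rangeOK_step_fix hm68_83 rfl
    (Fn.rangeOK_step_fix hm68_82 rfl
    (Fn.rangeOK_step_fix hm68_81 rfl
    (Fn.rangeOK_step_fix hm68_80 rfl
    (Fn.rangeOK_step_fix hm68_79 rfl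
    (Fn.rangeOK_step_fix hm68_78 rfl
    (Fn.rangeOK_step_fix hm68_77 rfl
    (Fn.rangeOK_step_fix hm68_76 rfl
    (Fn.rangeOK_step_fix hm68_75 rfl
    (Fn.rangeOK_step_fix hm68_74 rfl
    (Fn.rangeOK_step_fix hm68_73 rfl
    (Fn.rangeOK_step_fix hm68_72 rfl
    (Fn.rangeOK_step_fix hm68_71 rfl
    (Fn.rangeOK_step_fix hm68_70 rfl
    (Fn.rangeOK_step_fix hm68_69 rfl
    (Fn.rangeOK_step_fix hm68_68 rfl
    (Fn.rangeOK_step_fix hm68_67 rfl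
    (Fn.rangeOK_step_fix hm68_66 rfl
    (Fn.rangeOK_step_fix hm68_65 rfl
    (Fn.rangeOK_step_fix hm68_64 rfl
    (Fn.rangeOK_step_fix hm68_63 rfl
    (Fn.rangeOK_step_fix hm68_62 rfl
    (Fn.rangeOK_step_fix hm68_61 rfl
    (Fn.rangeOK_step_fix hm68_60 rfl
    (Fn.rangeOK_step_fix hm68_59 rfl
    (Fn.rangeOK_step_fix hm68_58 rfl
    (Fn.rangeOK_step_fix hm68_57 rfl
    (Fn.rangeOK_step_fix hm68_56 rfl
    (Fn.rangeOK_step_fix hm68_55 rfl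
    (Fn.rangeOK_step_fix hm68_54 rfl
    (Fn.rangeOK_step_fix hm68_53 rfl
    (Fn.rangeOK_step_fix hm68_52 rfl
    (Fn.rangeOK_step_fix hm68_51 rfl
    (Fn.rangeOK_step_fix hm68_50 rfl
    (Fn.rangeOK_step_fix hm68_49 rfl
    (Fn.rangeOK_step_fix hm68_48 rfl
    (Fn.rangeOK_step_fix hm68_47 rfl
    (Fn.rangeOK_step_fix hm68_46 rfl
    (Fn.rangeOK_step_fix hm68_45 rfl
    (Fn.rangeOK_step_fix hm68_44 rfl
    (Fn.rangeOK_step_fix hm68_43 rfl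
    (Fn.rangeOK_step_fix hm68_42 rfl
    (Fn.rangeOK_step_fix hm68_41 rfl
    (Fn.rangeOK_step_fix hm68_40 rfl
    (Fn.rangeOK_step_fix hm68_39 rfl
    (Fn.rangeOK_step_fix hm68_38 rfl
    (Fn.rangeOK_step_fix hm68_37 rfl
    (Fn.rangeOK_step_fix hm68_36 rfl
    (Fn.rangeOK_step_fix hm68_35 rfl
    (Fn.rangeOK_step_fix hm68_34 rfl
    (Fn.rangeOK_step_fix hm68_33 rfl
    (Fn.rangeOK_step_fix hm68_32 rfl
    (Fn.rangeOK_step_fix hm68_31 rfl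
    (Fn.rangeOK_step_fix hm68_30 rfl
    (Fn.rangeOK_step_fix hm68_29 rfl
    (Fn.rangeOK_step_fix hm68_28 rfl
    (Fn.rangeOK_step_fix hm68_27 rfl
    (Fn.rangeOK_step_fix hm68_26 rfl
    (Fn.rangeOK_step_fix hm68_25 rfl
    (Fn.rangeOK_step_fix hm68_24 rfl
    (Fn.rangeOK_step_fix hm68_23 rfl
    (Fn.rangeOK_step_fix hm68_22 rfl
    (Fn.rangeOK_step_fix hm68_21 rfl
    (Fn.rangeOK_step_fix hm68_20 rfl
    (Fn.rangeOK_step_fix hm68_19 rfl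
    (Fn.rangeOK_step_fix hm68_18 rfl
    (Fn.rangeOK_step_fix hm68_17 rfl
    (Fn.rangeOK_step_fix hm68_16 rfl
    (Fn.rangeOK_step_fix hm68_15 rfl
    (Fn.rangeOK_step_fix hm68_14 rfl
    (Fn.rangeOK_step_fix hm68_13 rfl
    (Fn.rangeOK_step_fix hm68_12 rfl
    (Fn.rangeOK_step_fix hm68_11 rfl
    (Fn.rangeOK_step_fix hm68_10 rfl
    (Fn.rangeOK_step_fix hm68_9 rfl
    (Fn.rangeOK_step_fix hm68_8 rfl
    (Fn.rangeOK_step_fix hm68_7 rfl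
    (Fn.rangeOK_step_fix hm68_6 rfl
    (Fn.rangeOK_step_fix hm68_5 rfl
    (Fn.rangeOK_step_fix hm68_4 rfl
    (Fn.rangeOK_step_fix hm68_3 rfl
    (Fn.rangeOK_step_fix hm68_2 rfl
    (Fn.rangeOK_step_fix hm68_1 rfl
    (Fn.rangeOK_step_fix hm68_0 rfl
    (Fn.rangeOK_start TT [12] 17 tN))))))))))))))))))))))))))))))))))))))))))))))))))))))))))))))))))))))))))))))))))))))))))))))))))))))))))

theorem hfix69 : ∀ i < tN, (Fn.applyW TT (([0] : List ℕ), 2).1)^[(([0] : List ℕ), 2).2] i = i :=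
  Fn.fix_of_rangeOK (Fn.rangeOK_step_fix hm69_12 rfl
    (Fn.rangeOK_step_fix hm69_11 rfl
    (Fn.rangeOK_step_fix hm69_10 rfl
    (Fn.rangeOK_step_fix hm69_9 rfl
    (Fn.rangeOK_step_fix hm69_8 rfl
    (Fn.rangeOK_step_fix hm69_7 rfl
    (Fn.rangeOK_step_fix hm69_6 rfl
    (Fn.rangeOK_step_fix hm69_5 rfl
    (Fn.rangeOK_step_fix hm69_4 rfl
    (Fn.rangeOK_step_fix hm69_3 rfl
    (Fn.rangeOK_step_fix hm69_2 rfl
    (Fn.rangeOK_step_fix hm69_1 rfl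
    (Fn.rangeOK_step_fix hm69_0 rfl
    (Fn.rangeOK_start TT [0] 2 tN))))))))))))))

theorem hfix70 : ∀ i < tN, (Fn.applyW TT (([1] : List ℕ), 2).1)^[(([1] : List ℕ), 2).2] i = i :=
  Fn.fix_of_rangeOK (Fn.rangeOK_step_fix hm70_12 rfl
    (Fn.rangeOK_step_fix hm70_11 rfl
    (Fn.rangeOK_step_fix hm70_10 rfl
    (Fn.rangeOK_step_fix hm70_9 rfl
    (Fn.rangeOK_step_fix hm70_8 rfl
    (Fn.rangeOK_step_fix hm70_7 rfl
    (Fn.rangeOK_step_fix hm70_6 rfl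
    (Fn.rangeOK_step_fix hm70_5 rfl
    (Fn.rangeOK_step_fix hm70_4 rfl
    (Fn.rangeOK_step_fix hm70_3 rfl
    (Fn.rangeOK_step_fix hm70_2 rfl
    (Fn.rangeOK_step_fix hm70_1 rfl
    (Fn.rangeOK_step_fix hm70_0 rfl
    (Fn.rangeOK_start TT [1] 2 tN))))))))))))))

theorem hfix71 : ∀ i < tN, (Fn.applyW TT (([2] : List ℕ), 2).1)^[(([2] : List ℕ), 2).2] i = i :=
  Fn.fix_of_rangeOK (Fn.rangeOK_step_fix hm71_12 rfl
    (Fn.rangeOK_step_fix hm71_11 rfl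
    (Fn.rangeOK_step_fix hm71_10 rfl
    (Fn.rangeOK_step_fix hm71_9 rfl
    (Fn.rangeOK_step_fix hm71_8 rfl
    (Fn.rangeOK_step_fix hm71_7 rfl
    (Fn.rangeOK_step_fix hm71_6 rfl
    (Fn.rangeOK_step_fix hm71_5 rfl
    (Fn.rangeOK_step_fix hm71_4 rfl
    (Fn.rangeOK_step_fix hm71_3 rfl
    (Fn.rangeOK_step_fix hm71_2 rfl
    (Fn.rangeOK_step_fix hm71_1 rfl
    (Fn.rangeOK_step_fix hm71_0 rfl
    (Fn.rangeOK_start TT [2] 2 tN))))))))))))))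

theorem hfix72 : ∀ i < tN, (Fn.applyW TT (([3] : List ℕ), 2).1)^[(([3] : List ℕ), 2).2] i = i :=
  Fn.fix_of_rangeOK (Fn.rangeOK_step_fix hm72_12 rfl
    (Fn.rangeOK_step_fix hm72_11 rfl
    (Fn.rangeOK_step_fix hm72_10 rfl
    (Fn.rangeOK_step_fix hm72_9 rfl
    (Fn.rangeOK_step_fix hm72_8 rfl
    (Fn.rangeOK_step_fix hm72_7 rfl
    (Fn.rangeOK_step_fix hm72_6 rfl
    (Fn.rangeOK_step_fix hm72_5 rfl
    (Fn.rangeOK_step_fix hm72_4 rfl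
    (Fn.rangeOK_step_fix hm72_3 rfl
    (Fn.rangeOK_step_fix hm72_2 rfl
    (Fn.rangeOK_step_fix hm72_1 rfl
    (Fn.rangeOK_step_fix hm72_0 rfl
    (Fn.rangeOK_start TT [3] 2 tN))))))))))))))

theorem hfix73 : ∀ i < tN, (Fn.applyW TT (([4] : List ℕ), 2).1)^[(([4] : List ℕ), 2).2] i = i :=
  Fn.fix_of_rangeOK (Fn.rangeOK_step_fix hm73_12 rfl
    (Fn.rangeOK_step_fix hm73_11 rfl
    (Fn.rangeOK_step_fix hm73_10 rfl
    (Fn.rangeOK_step_fix hm73_9 rfl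
    (Fn.rangeOK_step_fix hm73_8 rfl
    (Fn.rangeOK_step_fix hm73_7 rfl
    (Fn.rangeOK_step_fix hm73_6 rfl
    (Fn.rangeOK_step_fix hm73_5 rfl
    (Fn.rangeOK_step_fix hm73_4 rfl
    (Fn.rangeOK_step_fix hm73_3 rfl
    (Fn.rangeOK_step_fix hm73_2 rfl
    (Fn.rangeOK_step_fix hm73_1 rfl
    (Fn.rangeOK_step_fix hm73_0 rfl
    (Fn.rangeOK_start TT [4] 2 tN))))))))))))))

theorem hfix74 : ∀ i < tN, (Fn.applyW TT (([5] : List ℕ), 2).1)^[(([5] : List ℕ), 2).2] i = i :=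
  Fn.fix_of_rangeOK (Fn.rangeOK_step_fix hm74_12 rfl
    (Fn.rangeOK_step_fix hm74_11 rfl
    (Fn.rangeOK_step_fix hm74_10 rfl
    (Fn.rangeOK_step_fix hm74_9 rfl
    (Fn.rangeOK_step_fix hm74_8 rfl
    (Fn.rangeOK_step_fix hm74_7 rfl
    (Fn.rangeOK_step_fix hm74_6 rfl
    (Fn.rangeOK_step_fix hm74_5 rfl
    (Fn.rangeOK_step_fix hm74_4 rfl
    (Fn.rangeOK_step_fix hm74_3 rfl
    (Fn.rangeOK_step_fix hm74_2 rfl
    (Fn.rangeOK_step_fix hm74_1 rfl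
    (Fn.rangeOK_step_fix hm74_0 rfl
    (Fn.rangeOK_start TT [5] 2 tN))))))))))))))

theorem hfix75 : ∀ i < tN, (Fn.applyW TT (([6] : List ℕ), 2).1)^[(([6] : List ℕ), 2).2] i = i :=
  Fn.fix_of_rangeOK (Fn.rangeOK_step_fix hm75_12 rfl
    (Fn.rangeOK_step_fix hm75_11 rfl
    (Fn.rangeOK_step_fix hm75_10 rfl
    (Fn.rangeOK_step_fix hm75_9 rfl
    (Fn.rangeOK_step_fix hm75_8 rfl
    (Fn.rangeOK_step_fix hm75_7 rfl
    (Fn.rangeOK_step_fix hm75_6 rfl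
    (Fn.rangeOK_step_fix hm75_5 rfl
    (Fn.rangeOK_step_fix hm75_4 rfl
    (Fn.rangeOK_step_fix hm75_3 rfl
    (Fn.rangeOK_step_fix hm75_2 rfl
    (Fn.rangeOK_step_fix hm75_1 rfl
    (Fn.rangeOK_step_fix hm75_0 rfl
    (Fn.rangeOK_start TT [6] 2 tN))))))))))))))

theorem hfix76 : ∀ i < tN, (Fn.applyW TT (([7] : List ℕ), 2).1)^[(([7] : List ℕ), 2).2] i = i :=
  Fn.fix_of_rangeOK (Fn.rangeOK_step_fix hm76_12 rfl
    (Fn.rangeOK_step_fix hm76_11 rfl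
    (Fn.rangeOK_step_fix hm76_10 rfl
    (Fn.rangeOK_step_fix hm76_9 rfl
    (Fn.rangeOK_step_fix hm76_8 rfl
    (Fn.rangeOK_step_fix hm76_7 rfl
    (Fn.rangeOK_step_fix hm76_6 rfl
    (Fn.rangeOK_step_fix hm76_5 rfl
    (Fn.rangeOK_step_fix hm76_4 rfl
    (Fn.rangeOK_step_fix hm76_3 rfl
    (Fn.rangeOK_step_fix hm76_2 rfl
    (Fn.rangeOK_step_fix hm76_1 rfl
    (Fn.rangeOK_step_fix hm76_0 rfl
    (Fn.rangeOK_start TT [7] 2 tN))))))))))))))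

theorem hfix77 : ∀ i < tN, (Fn.applyW TT (([8] : List ℕ), 2).1)^[(([8] : List ℕ), 2).2] i = i :=
  Fn.fix_of_rangeOK (Fn.rangeOK_step_fix hm77_12 rfl
    (Fn.rangeOK_step_fix hm77_11 rfl
    (Fn.rangeOK_step_fix hm77_10 rfl
    (Fn.rangeOK_step_fix hm77_9 rfl
    (Fn.rangeOK_step_fix hm77_8 rfl
    (Fn.rangeOK_step_fix hm77_7 rfl
    (Fn.rangeOK_step_fix hm77_6 rfl
    (Fn.rangeOK_step_fix hm77_5 rfl
    (Fn.rangeOK_step_fix hm77_4 rfl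
    (Fn.rangeOK_step_fix hm77_3 rfl
    (Fn.rangeOK_step_fix hm77_2 rfl
    (Fn.rangeOK_step_fix hm77_1 rfl
    (Fn.rangeOK_step_fix hm77_0 rfl
    (Fn.rangeOK_start TT [8] 2 tN))))))))))))))

theorem hfix78 : ∀ i < tN, (Fn.applyW TT (([9] : List ℕ), 2).1)^[(([9] : List ℕ), 2).2] i = i :=
  Fn.fix_of_rangeOK (Fn.rangeOK_step_fix hm78_12 rfl
    (Fn.rangeOK_step_fix hm78_11 rfl
    (Fn.rangeOK_step_fix hm78_10 rfl
    (Fn.rangeOK_step_fix hm78_9 rfl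
    (Fn.rangeOK_step_fix hm78_8 rfl
    (Fn.rangeOK_step_fix hm78_7 rfl
    (Fn.rangeOK_step_fix hm78_6 rfl
    (Fn.rangeOK_step_fix hm78_5 rfl
    (Fn.rangeOK_step_fix hm78_4 rfl
    (Fn.rangeOK_step_fix hm78_3 rfl
    (Fn.rangeOK_step_fix hm78_2 rfl
    (Fn.rangeOK_step_fix hm78_1 rfl
    (Fn.rangeOK_step_fix hm78_0 rfl
    (Fn.rangeOK_start TT [9] 2 tN))))))))))))))

theorem hfix79 : ∀ i < tN, (Fn.applyW TT (([10] : List ℕ), 2).1)^[(([10] : List ℕ), 2).2] i = i :=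
  Fn.fix_of_rangeOK (Fn.rangeOK_step_fix hm79_12 rfl
    (Fn.rangeOK_step_fix hm79_11 rfl
    (Fn.rangeOK_step_fix hm79_10 rfl
    (Fn.rangeOK_step_fix hm79_9 rfl
    (Fn.rangeOK_step_fix hm79_8 rfl
    (Fn.rangeOK_step_fix hm79_7 rfl
    (Fn.rangeOK_step_fix hm79_6 rfl
    (Fn.rangeOK_step_fix hm79_5 rfl
    (Fn.rangeOK_step_fix hm79_4 rfl
    (Fn.rangeOK_step_fix hm79_3 rfl
    (Fn.rangeOK_step_fix hm79_2 rfl
    (Fn.rangeOK_step_fix hm79_1 rfl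
    (Fn.rangeOK_step_fix hm79_0 rfl
    (Fn.rangeOK_start TT [10] 2 tN))))))))))))))

theorem hfix80 : ∀ i < tN, (Fn.applyW TT (([11] : List ℕ), 2).1)^[(([11] : List ℕ), 2).2] i = i :=
  Fn.fix_of_rangeOK (Fn.rangeOK_step_fix hm80_12 rfl
    (Fn.rangeOK_step_fix hm80_11 rfl
    (Fn.rangeOK_step_fix hm80_10 rfl
    (Fn.rangeOK_step_fix hm80_9 rfl
    (Fn.rangeOK_step_fix hm80_8 rfl
    (Fn.rangeOK_step_fix hm80_7 rfl
    (Fn.rangeOK_step_fix hm80_6 rfl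
    (Fn.rangeOK_step_fix hm80_5 rfl
    (Fn.rangeOK_step_fix hm80_4 rfl
    (Fn.rangeOK_step_fix hm80_3 rfl
    (Fn.rangeOK_step_fix hm80_2 rfl
    (Fn.rangeOK_step_fix hm80_1 rfl
    (Fn.rangeOK_step_fix hm80_0 rfl
    (Fn.rangeOK_start TT [11] 2 tN))))))))))))))

theorem hfix81 : ∀ i < tN, (Fn.applyW TT (([12, 13] : List ℕ), 1).1)^[(([12, 13] : List ℕ), 1).2] i = i :=
  Fn.fix_of_rangeOK (Fn.rangeOK_step_fix hm81_12 rfl
    (Fn.rangeOK_step_fix hm81_11 rfl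
    (Fn.rangeOK_step_fix hm81_10 rfl
    (Fn.rangeOK_step_fix hm81_9 rfl
    (Fn.rangeOK_step_fix hm81_8 rfl
    (Fn.rangeOK_step_fix hm81_7 rfl
    (Fn.rangeOK_step_fix hm81_6 rfl
    (Fn.rangeOK_step_fix hm81_5 rfl
    (Fn.rangeOK_step_fix hm81_4 rfl
    (Fn.rangeOK_step_fix hm81_3 rfl
    (Fn.rangeOK_step_fix hm81_2 rfl
    (Fn.rangeOK_step_fix hm81_1 rfl
    (Fn.rangeOK_step_fix hm81_0 rfl
    (Fn.rangeOK_start TT [12, 13] 1 tN))))))))))))))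

theorem hfix82 : ∀ i < tN, (Fn.applyW TT (([13, 12] : List ℕ), 1).1)^[(([13, 12] : List ℕ), 1).2] i = i :=
  Fn.fix_of_rangeOK (Fn.rangeOK_step_fix hm82_12 rfl
    (Fn.rangeOK_step_fix hm82_11 rfl
    (Fn.rangeOK_step_fix hm82_10 rfl
    (Fn.rangeOK_step_fix hm82_9 rfl
    (Fn.rangeOK_step_fix hm82_8 rfl
    (Fn.rangeOK_step_fix hm82_7 rfl
    (Fn.rangeOK_step_fix hm82_6 rfl
    (Fn.rangeOK_step_fix hm82_5 rfl
    (Fn.rangeOK_step_fix hm82_4 rfl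
    (Fn.rangeOK_step_fix hm82_3 rfl
    (Fn.rangeOK_step_fix hm82_2 rfl
    (Fn.rangeOK_step_fix hm82_1 rfl
    (Fn.rangeOK_step_fix hm82_0 rfl
    (Fn.rangeOK_start TT [13, 12] 1 tN))))))))))))))

theorem hfix83 : ∀ i < tN, (Fn.applyW TT (([] : List ℕ), 1).1)^[(([] : List ℕ), 1).2] i = i :=
  Fn.fix_of_rangeOK (Fn.rangeOK_step_fix hm83_6 rfl
    (Fn.rangeOK_step_fix hm83_5 rfl
    (Fn.rangeOK_step_fix hm83_4 rfl
    (Fn.rangeOK_step_fix hm83_3 rfl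
    (Fn.rangeOK_step_fix hm83_2 rfl
    (Fn.rangeOK_step_fix hm83_1 rfl
    (Fn.rangeOK_step_fix hm83_0 rfl
    (Fn.rangeOK_start TT [] 1 tN))))))))

theorem hfixall : Fn.FixAll TT tN specs :=
  Fn.fixAll_cons hfix0
    (Fn.fixAll_cons hfix1
    (Fn.fixAll_cons hfix2
    (Fn.fixAll_cons hfix3
    (Fn.fixAll_cons hfix4
    (Fn.fixAll_cons hfix5
    (Fn.fixAll_cons hfix6
    (Fn.fixAll_cons hfix7
    (Fn.fixAll_cons hfix8
    (Fn.fixAll_cons hfix9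
    (Fn.fixAll_cons hfix10
    (Fn.fixAll_cons hfix11
    (Fn.fixAll_cons hfix12
    (Fn.fixAll_cons hfix13
    (Fn.fixAll_cons hfix14
    (Fn.fixAll_cons hfix15
    (Fn.fixAll_cons hfix16
    (Fn.fixAll_cons hfix17
    (Fn.fixAll_cons hfix18
    (Fn.fixAll_cons hfix19
    (Fn.fixAll_cons hfix20
    (Fn.fixAll_cons hfix21
    (Fn.fixAll_cons hfix22
    (Fn.fixAll_cons hfix23
    (Fn.fixAll_cons hfix24
    (Fn.fixAll_cons hfix25
    (Fn.fixAll_cons hfix26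
    (Fn.fixAll_cons hfix27
    (Fn.fixAll_cons hfix28
    (Fn.fixAll_cons hfix29
    (Fn.fixAll_cons hfix30
    (Fn.fixAll_cons hfix31
    (Fn.fixAll_cons hfix32
    (Fn.fixAll_cons hfix33
    (Fn.fixAll_cons hfix34
    (Fn.fixAll_cons hfix35
    (Fn.fixAll_cons hfix36
    (Fn.fixAll_cons hfix37
    (Fn.fixAll_cons hfix38
    (Fn.fixAll_cons hfix39
    (Fn.fixAll_cons hfix40
    (Fn.fixAll_cons hfix41
    (Fn.fixAll_cons hfix42
    (Fn.fixAll_cons hfix43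
    (Fn.fixAll_cons hfix44
    (Fn.fixAll_cons hfix45
    (Fn.fixAll_cons hfix46
    (Fn.fixAll_cons hfix47
    (Fn.fixAll_cons hfix48
    (Fn.fixAll_cons hfix49
    (Fn.fixAll_cons hfix50
    (Fn.fixAll_cons hfix51
    (Fn.fixAll_cons hfix52
    (Fn.fixAll_cons hfix53
    (Fn.fixAll_cons hfix54
    (Fn.fixAll_cons hfix55
    (Fn.fixAll_cons hfix56
    (Fn.fixAll_cons hfix57
    (Fn.fixAll_cons hfix58
    (Fn.fixAll_cons hfix59
    (Fn.fixAll_cons hfix60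
    (Fn.fixAll_cons hfix61
    (Fn.fixAll_cons hfix62
    (Fn.fixAll_cons hfix63
    (Fn.fixAll_cons hfix64
    (Fn.fixAll_cons hfix65
    (Fn.fixAll_cons hfix66
    (Fn.fixAll_cons hfix67
    (Fn.fixAll_cons hfix68
    (Fn.fixAll_cons hfix69
    (Fn.fixAll_cons hfix70
    (Fn.fixAll_cons hfix71
    (Fn.fixAll_cons hfix72
    (Fn.fixAll_cons hfix73
    (Fn.fixAll_cons hfix74
    (Fn.fixAll_cons hfix75
    (Fn.fixAll_cons hfix76
    (Fn.fixAll_cons hfix77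
    (Fn.fixAll_cons hfix78
    (Fn.fixAll_cons hfix79
    (Fn.fixAll_cons hfix80
    (Fn.fixAll_cons hfix81
    (Fn.fixAll_cons hfix82
    (Fn.fixAll_cons hfix83
    (Fn.fixAll_nil TT tN))))))))))))))))))))))))))))))))))))))))))))))))))))))))))))))))))))))))))))))))))))

theorem hrels : Fn.relsK TT cN baseL = true := by
  rw [hspecs]
  exact Fn.relsK_of_fixAll hfixall

theorem hsub : Fn.subK TT 14 sw = true := by decide +kernel

theorem htrans : Fn.transK TT 14 cN sw = true :=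
  Fn.transK_of_allBelow (Fn.allBelow_step htrans_13 rfl
    (Fn.allBelow_step htrans_12 rfl
    (Fn.allBelow_step htrans_11 rfl
    (Fn.allBelow_step htrans_10 rfl
    (Fn.allBelow_step htrans_9 rfl
    (Fn.allBelow_step htrans_8 rfl
    (Fn.allBelow_step htrans_7 rfl
    (Fn.allBelow_step htrans_6 rfl
    (Fn.allBelow_step htrans_5 rfl
    (Fn.allBelow_step htrans_4 rfl
    (Fn.allBelow_step htrans_3 rfl
    (Fn.allBelow_step htrans_2 rfl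
    (Fn.allBelow_step htrans_1 rfl
    (Fn.allBelow_step htrans_0 rfl
    (Fn.allBelow_start _)))))))))))))))

theorem horbi0_0 : Fn.orbInvOneK TT [2] 0 1 = true :=
  Fn.orbInvOneK_of_allBelow (Fn.allBelow_step horbi0_0_0 rfl
    (Fn.invP_below TT [2] 0 1))

theorem horbi0_1 : Fn.orbInvOneK TT [3] 0 1 = true :=
  Fn.orbInvOneK_of_allBelow (Fn.allBelow_step horbi0_1_0 rfl
    (Fn.invP_below TT [3] 0 1))

theorem horbi0_2 : Fn.orbInvOneK TT [4] 0 1 = true :=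
  Fn.orbInvOneK_of_allBelow (Fn.allBelow_step horbi0_2_0 rfl
    (Fn.invP_below TT [4] 0 1))

theorem horbi0_3 : Fn.orbInvOneK TT [5] 0 1 = true :=
  Fn.orbInvOneK_of_allBelow (Fn.allBelow_step horbi0_3_0 rfl
    (Fn.invP_below TT [5] 0 1))

theorem horbi0_4 : Fn.orbInvOneK TT [6] 0 1 = true :=
  Fn.orbInvOneK_of_allBelow (Fn.allBelow_step horbi0_4_0 rfl
    (Fn.invP_below TT [6] 0 1))

theorem horbi0_5 : Fn.orbInvOneK TT [7] 0 1 = true :=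
  Fn.orbInvOneK_of_allBelow (Fn.allBelow_step horbi0_5_0 rfl
    (Fn.invP_below TT [7] 0 1))

theorem horbi0_6 : Fn.orbInvOneK TT [8] 0 1 = true :=
  Fn.orbInvOneK_of_allBelow (Fn.allBelow_step horbi0_6_0 rfl
    (Fn.invP_below TT [8] 0 1))

theorem horbi0_7 : Fn.orbInvOneK TT [10] 0 1 = true :=
  Fn.orbInvOneK_of_allBelow (Fn.allBelow_step horbi0_7_0 rfl
    (Fn.invP_below TT [10] 0 1))

theorem horbi0_8 : Fn.orbInvOneK TT [11] 0 1 = true :=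
  Fn.orbInvOneK_of_allBelow (Fn.allBelow_step horbi0_8_0 rfl
    (Fn.invP_below TT [11] 0 1))

theorem horbi0_9 : Fn.orbInvOneK TT [9] 0 1 = true :=
  Fn.orbInvOneK_of_allBelow (Fn.allBelow_step horbi0_9_0 rfl
    (Fn.invP_below TT [9] 0 1))

theorem horbi0_10 : Fn.orbInvOneK TT [0] 0 1 = true :=
  Fn.orbInvOneK_of_allBelow (Fn.allBelow_step horbi0_10_0 rfl
    (Fn.invP_below TT [0] 0 1))

theorem horbi0 : Fn.orbInvK TT sw 0 1 = true := by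
  refine Fn.orbInvK_of_ones ?_
  unfold sw
  simp only [List.forall_mem_cons, List.not_mem_nil, false_imp_iff, implies_true, and_true]
  exact ⟨horbi0_0, horbi0_1, horbi0_2, horbi0_3, horbi0_4, horbi0_5, horbi0_6, horbi0_7, horbi0_8, horbi0_9, horbi0_10⟩

theorem horbc0 : Fn.orbConnK TT sw 0 1 = true :=
  Fn.orbConnK_of_allBelow (Fn.connP_below TT sw 0)

theorem horbi1_0 : Fn.orbInvOneK TT [2] 1 275265 = true :=
  Fn.orbInvOneK_of_allBelow (Fn.allBelow_step horbi1_0_5 rfl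
    (Fn.allBelow_step horbi1_0_4 rfl
    (Fn.allBelow_step horbi1_0_3 rfl
    (Fn.allBelow_step horbi1_0_2 rfl
    (Fn.allBelow_step horbi1_0_1 rfl
    (Fn.allBelow_step horbi1_0_0 rfl
    (Fn.invP_below TT [2] 1 275265)))))))

theorem horbi1_1 : Fn.orbInvOneK TT [3] 1 275265 = true :=
  Fn.orbInvOneK_of_allBelow (Fn.allBelow_step horbi1_1_5 rfl
    (Fn.allBelow_step horbi1_1_4 rfl
    (Fn.allBelow_step horbi1_1_3 rfl
    (Fn.allBelow_step horbi1_1_2 rfl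
    (Fn.allBelow_step horbi1_1_1 rfl
    (Fn.allBelow_step horbi1_1_0 rfl
    (Fn.invP_below TT [3] 1 275265)))))))

theorem horbi1_2 : Fn.orbInvOneK TT [4] 1 275265 = true :=
  Fn.orbInvOneK_of_allBelow (Fn.allBelow_step horbi1_2_5 rfl
    (Fn.allBelow_step horbi1_2_4 rfl
    (Fn.allBelow_step horbi1_2_3 rfl
    (Fn.allBelow_step horbi1_2_2 rfl
    (Fn.allBelow_step horbi1_2_1 rfl
    (Fn.allBelow_step horbi1_2_0 rfl
    (Fn.invP_below TT [4] 1 275265)))))))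

theorem horbi1_3 : Fn.orbInvOneK TT [5] 1 275265 = true :=
  Fn.orbInvOneK_of_allBelow (Fn.allBelow_step horbi1_3_5 rfl
    (Fn.allBelow_step horbi1_3_4 rfl
    (Fn.allBelow_step horbi1_3_3 rfl
    (Fn.allBelow_step horbi1_3_2 rfl
    (Fn.allBelow_step horbi1_3_1 rfl
    (Fn.allBelow_step horbi1_3_0 rfl
    (Fn.invP_below TT [5] 1 275265)))))))

theorem horbi1_4 : Fn.orbInvOneK TT [6] 1 275265 = true :=
  Fn.orbInvOneK_of_allBelow (Fn.allBelow_step horbi1_4_5 rfl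
    (Fn.allBelow_step horbi1_4_4 rfl
    (Fn.allBelow_step horbi1_4_3 rfl
    (Fn.allBelow_step horbi1_4_2 rfl
    (Fn.allBelow_step horbi1_4_1 rfl
    (Fn.allBelow_step horbi1_4_0 rfl
    (Fn.invP_below TT [6] 1 275265)))))))

theorem horbi1_5 : Fn.orbInvOneK TT [7] 1 275265 = true :=
  Fn.orbInvOneK_of_allBelow (Fn.allBelow_step horbi1_5_5 rfl
    (Fn.allBelow_step horbi1_5_4 rfl
    (Fn.allBelow_step horbi1_5_3 rfl
    (Fn.allBelow_step horbi1_5_2 rfl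
    (Fn.allBelow_step horbi1_5_1 rfl
    (Fn.allBelow_step horbi1_5_0 rfl
    (Fn.invP_below TT [7] 1 275265)))))))

theorem horbi1_6 : Fn.orbInvOneK TT [8] 1 275265 = true :=
  Fn.orbInvOneK_of_allBelow (Fn.allBelow_step horbi1_6_5 rfl
    (Fn.allBelow_step horbi1_6_4 rfl
    (Fn.allBelow_step horbi1_6_3 rfl
    (Fn.allBelow_step horbi1_6_2 rfl
    (Fn.allBelow_step horbi1_6_1 rfl
    (Fn.allBelow_step horbi1_6_0 rfl
    (Fn.invP_below TT [8] 1 275265)))))))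

theorem horbi1_7 : Fn.orbInvOneK TT [10] 1 275265 = true :=
  Fn.orbInvOneK_of_allBelow (Fn.allBelow_step horbi1_7_5 rfl
    (Fn.allBelow_step horbi1_7_4 rfl
    (Fn.allBelow_step horbi1_7_3 rfl
    (Fn.allBelow_step horbi1_7_2 rfl
    (Fn.allBelow_step horbi1_7_1 rfl
    (Fn.allBelow_step horbi1_7_0 rfl
    (Fn.invP_below TT [10] 1 275265)))))))

theorem horbi1_8 : Fn.orbInvOneK TT [11] 1 275265 = true :=
  Fn.orbInvOneK_of_allBelow (Fn.allBelow_step horbi1_8_5 rfl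
    (Fn.allBelow_step horbi1_8_4 rfl
    (Fn.allBelow_step horbi1_8_3 rfl
    (Fn.allBelow_step horbi1_8_2 rfl
    (Fn.allBelow_step horbi1_8_1 rfl
    (Fn.allBelow_step horbi1_8_0 rfl
    (Fn.invP_below TT [11] 1 275265)))))))

theorem horbi1_9 : Fn.orbInvOneK TT [9] 1 275265 = true :=
  Fn.orbInvOneK_of_allBelow (Fn.allBelow_step horbi1_9_5 rfl
    (Fn.allBelow_step horbi1_9_4 rfl
    (Fn.allBelow_step horbi1_9_3 rfl
    (Fn.allBelow_step horbi1_9_2 rfl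
    (Fn.allBelow_step horbi1_9_1 rfl
    (Fn.allBelow_step horbi1_9_0 rfl
    (Fn.invP_below TT [9] 1 275265)))))))

theorem horbi1_10 : Fn.orbInvOneK TT [0] 1 275265 = true :=
  Fn.orbInvOneK_of_allBelow (Fn.allBelow_step horbi1_10_5 rfl
    (Fn.allBelow_step horbi1_10_4 rfl
    (Fn.allBelow_step horbi1_10_3 rfl
    (Fn.allBelow_step horbi1_10_2 rfl
    (Fn.allBelow_step horbi1_10_1 rfl
    (Fn.allBelow_step horbi1_10_0 rfl
    (Fn.invP_below TT [0] 1 275265)))))))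

theorem horbi1 : Fn.orbInvK TT sw 1 275265 = true := by
  refine Fn.orbInvK_of_ones ?_
  unfold sw
  simp only [List.forall_mem_cons, List.not_mem_nil, false_imp_iff, implies_true, and_true]
  exact ⟨horbi1_0, horbi1_1, horbi1_2, horbi1_3, horbi1_4, horbi1_5, horbi1_6, horbi1_7, horbi1_8, horbi1_9, horbi1_10⟩

theorem horbc1 : Fn.orbConnK TT sw 1 275265 = true :=
  Fn.orbConnK_of_allBelow (Fn.allBelow_step horbc1_11 rfl
    (Fn.allBelow_step horbc1_10 rfl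
    (Fn.allBelow_step horbc1_9 rfl
    (Fn.allBelow_step horbc1_8 rfl
    (Fn.allBelow_step horbc1_7 rfl
    (Fn.allBelow_step horbc1_6 rfl
    (Fn.allBelow_step horbc1_5 rfl
    (Fn.allBelow_step horbc1_4 rfl
    (Fn.allBelow_step horbc1_3 rfl
    (Fn.allBelow_step horbc1_2 rfl
    (Fn.allBelow_step horbc1_1 rfl
    (Fn.allBelow_step horbc1_0 rfl
    (Fn.connP_below TT sw 1)))))))))))))

theorem horbi2_0 : Fn.orbInvOneK TT [2] 275265 306936 = true :=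
  Fn.orbInvOneK_of_allBelow (Fn.allBelow_step horbi2_0_0 rfl
    (Fn.invP_below TT [2] 275265 306936))

theorem horbi2_1 : Fn.orbInvOneK TT [3] 275265 306936 = true :=
  Fn.orbInvOneK_of_allBelow (Fn.allBelow_step horbi2_1_0 rfl
    (Fn.invP_below TT [3] 275265 306936))

theorem horbi2_2 : Fn.orbInvOneK TT [4] 275265 306936 = true :=
  Fn.orbInvOneK_of_allBelow (Fn.allBelow_step horbi2_2_0 rfl
    (Fn.invP_below TT [4] 275265 306936))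

theorem horbi2_3 : Fn.orbInvOneK TT [5] 275265 306936 = true :=
  Fn.orbInvOneK_of_allBelow (Fn.allBelow_step horbi2_3_0 rfl
    (Fn.invP_below TT [5] 275265 306936))

theorem horbi2_4 : Fn.orbInvOneK TT [6] 275265 306936 = true :=
  Fn.orbInvOneK_of_allBelow (Fn.allBelow_step horbi2_4_0 rfl
    (Fn.invP_below TT [6] 275265 306936))

theorem horbi2_5 : Fn.orbInvOneK TT [7] 275265 306936 = true :=
  Fn.orbInvOneK_of_allBelow (Fn.allBelow_step horbi2_5_0 rfl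
    (Fn.invP_below TT [7] 275265 306936))

theorem horbi2_6 : Fn.orbInvOneK TT [8] 275265 306936 = true :=
  Fn.orbInvOneK_of_allBelow (Fn.allBelow_step horbi2_6_0 rfl
    (Fn.invP_below TT [8] 275265 306936))

theorem horbi2_7 : Fn.orbInvOneK TT [10] 275265 306936 = true :=
  Fn.orbInvOneK_of_allBelow (Fn.allBelow_step horbi2_7_0 rfl
    (Fn.invP_below TT [10] 275265 306936))

theorem horbi2_8 : Fn.orbInvOneK TT [11] 275265 306936 = true :=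
  Fn.orbInvOneK_of_allBelow (Fn.allBelow_step horbi2_8_0 rfl
    (Fn.invP_below TT [11] 275265 306936))

theorem horbi2_9 : Fn.orbInvOneK TT [9] 275265 306936 = true :=
  Fn.orbInvOneK_of_allBelow (Fn.allBelow_step horbi2_9_0 rfl
    (Fn.invP_below TT [9] 275265 306936))

theorem horbi2_10 : Fn.orbInvOneK TT [0] 275265 306936 = true :=
  Fn.orbInvOneK_of_allBelow (Fn.allBelow_step horbi2_10_0 rfl
    (Fn.invP_below TT [0] 275265 306936))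

theorem horbi2 : Fn.orbInvK TT sw 275265 306936 = true := by
  refine Fn.orbInvK_of_ones ?_
  unfold sw
  simp only [List.forall_mem_cons, List.not_mem_nil, false_imp_iff, implies_true, and_true]
  exact ⟨horbi2_0, horbi2_1, horbi2_2, horbi2_3, horbi2_4, horbi2_5, horbi2_6, horbi2_7, horbi2_8, horbi2_9, horbi2_10⟩

theorem horbc2 : Fn.orbConnK TT sw 275265 306936 = true :=
  Fn.orbConnK_of_allBelow (Fn.allBelow_step horbc2_1 rfl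
    (Fn.allBelow_step horbc2_0 rfl
    (Fn.connP_below TT sw 275265)))

end Cfsg.Agent.Lib.Helper12.TCG.Fi24x306936
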