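import Cfsg.Agent.Lib.Helper12.TCG.Fi24x306936.TabT
import Cfsg.Agent.Lib.Helper12.TCG.Fi24x306936.Tab
import Cfsg.Agent.Lib.Helper12.TC.Fn.Ranges2

/-! relator checks for Fi24x306936, part 0 (generated, helper12) -/

set_option autoImplicit false
set_option maxRecDepth 100000
set_option Elab.async false

namespace Cfsg.Agent.Lib.Helper12.TCG.Fi24x306936

open Cfsg.Agent.Lib.Helper12.TC Cfsg.Agent.Lib.Helper12.TCG

theorem hm1_0 : Fn.fixRangeK TT (wpow [0, 2] 2) 294436 12500 = true := by decide +kernel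

theorem hm7_0 : Fn.fixRangeK TT (wpow [1, 4] 2) 294436 12500 = true := by decide +kernel

theorem hm9_19 : Fn.fixRangeK TT (wpow [3, 4] 3) 140276 8333 = true := by decide +kernel

theorem hm12_0 : Fn.fixRangeK TT (wpow [2, 5] 2) 294436 12500 = true := by decide +kernel

theorem hm17_0 : Fn.fixRangeK TT (wpow [2, 6] 2) 294436 12500 = true := by decide +kernel

theorem hm22_0 : Fn.fixRangeK TT (wpow [1, 7] 2) 294436 12500 = true := by decide +kernel

theorem hm26_0 : Fn.fixRangeK TT (wpow [5, 7] 2) 294436 12500 = true := by decide +kernel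

theorem hm27_7 : Fn.fixRangeK TT (wpow [6, 7] 3) 240272 8333 = true := by decide +kernel

theorem hm28_24 : Fn.fixRangeK TT (wpow [0, 8] 2) 0 6936 = true := by decide +kernel

theorem hm31_0 : Fn.fixRangeK TT (wpow [3, 8] 2) 294436 12500 = true := by decide +kernel

theorem hm36_0 : Fn.fixRangeK TT (wpow [0, 9] 2) 294436 12500 = true := by decide +kernel

theorem hm40_0 : Fn.fixRangeK TT (wpow [4, 9] 2) 294436 12500 = true := by decide +kernel

theorem hm44_31 : Fn.fixRangeK TT (wpow [8, 9] 3) 40280 8333 = true := by decide +kernel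

theorem hm45_0 : Fn.fixRangeK TT (wpow [0, 10] 2) 294436 12500 = true := by decide +kernel

theorem hm49_0 : Fn.fixRangeK TT (wpow [4, 10] 2) 294436 12500 = true := by decide +kernel

theorem hm54_0 : Fn.fixRangeK TT (wpow [9, 10] 2) 294436 12500 = true := by decide +kernel

theorem hm58_0 : Fn.fixRangeK TT (wpow [3, 11] 2) 294436 12500 = true := by decide +kernel

theorem hm62_0 : Fn.fixRangeK TT (wpow [7, 11] 2) 294436 12500 = true := by decide +kernel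

theorem hm63_24 : Fn.fixRangeK TT (wpow [8, 11] 2) 0 6936 = true := by decide +kernel

theorem hm66_94 : Fn.fixRangeK TT (wpow [0, 10, 7, 6, 5, 4, 3, 2, 10, 7, 6, 5, 4, 3, 2, 10, 7, 6, 5, 4, 3, 2, 10, 7, 6, 5, 4, 3, 2, 10, 7, 6, 5, 4, 3, 2, 10, 7, 6, 5, 4, 3, 2, 10, 7, 6, 5, 4, 3, 2, 10, 7, 6, 5, 4, 3, 2, 10, 7, 6, 5, 4, 3, 2] 1) 232741 781 = true := by decide +kernel

theorem hm66_190 : Fn.fixRangeK TT (wpow [0, 10, 7, 6, 5, 4, 3, 2, 10, 7, 6, 5, 4, 3, 2, 10, 7, 6, 5, 4, 3, 2, 10, 7, 6, 5, 4, 3, 2, 10, 7, 6, 5, 4, 3, 2, 10, 7, 6, 5, 4, 3, 2, 10, 7, 6, 5, 4, 3, 2, 10, 7, 6, 5, 4, 3, 2, 10, 7, 6, 5, 4, 3, 2] 1) 157765 781 = true := by decide +kernel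

theorem hm66_286 : Fn.fixRangeK TT (wpow [0, 10, 7, 6, 5, 4, 3, 2, 10, 7, 6, 5, 4, 3, 2, 10, 7, 6, 5, 4, 3, 2, 10, 7, 6, 5, 4, 3, 2, 10, 7, 6, 5, 4, 3, 2, 10, 7, 6, 5, 4, 3, 2, 10, 7, 6, 5, 4, 3, 2, 10, 7, 6, 5, 4, 3, 2, 10, 7, 6, 5, 4, 3, 2] 1) 82789 781 = true := by decide +kernel

theorem hm66_382 : Fn.fixRangeK TT (wpow [0, 10, 7, 6, 5, 4, 3, 2, 10, 7, 6, 5, 4, 3, 2, 10, 7, 6, 5, 4, 3, 2, 10, 7, 6, 5, 4, 3, 2, 10, 7, 6, 5, 4, 3, 2, 10, 7, 6, 5, 4, 3, 2, 10, 7, 6, 5, 4, 3, 2, 10, 7, 6, 5, 4, 3, 2, 10, 7, 6, 5, 4, 3, 2] 1) 7813 781 = true := by decide +kernel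

theorem hm67_10 : Fn.fixRangeK TT (wpow [13, 5, 4, 3, 2, 1, 0, 5, 6, 7, 8, 9, 5, 10, 11] 1) 270273 3333 = true := by decide +kernel

theorem hm67_49 : Fn.fixRangeK TT (wpow [13, 5, 4, 3, 2, 1, 0, 5, 6, 7, 8, 9, 5, 10, 11] 1) 140286 3333 = true := by decide +kernel

theorem hm68_19 : Fn.fixRangeK TT (wpow [12] 17) 248116 2941 = true := by decide +kernel

theorem hm71_0 : Fn.fixRangeK TT (wpow [2] 2) 281936 25000 = true := by decide +kernel

theorem hm79_0 : Fn.fixRangeK TT (wpow [10] 2) 281936 25000 = true := by decide +kernel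

theorem horbi1_8_2 : Fn.allRangeK (Fn.invP TT [11] 1 275265) 100001 50000 = true := by decide +kernel

theorem hperm5_17 : permPartG 18360536419842404880 TT 5 tN 278528 16384 = true := by decide +kernel

theorem hperm11_5 : permPartG 18360536419842404880 TT 11 tN 81920 16384 = true := by decide +kernel

end Cfsg.Agent.Lib.Helper12.TCG.Fi24x306936
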