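import Cfsg.Agent.Lib.Helper12.TCG.Fi24x306936.TabT
import Cfsg.Agent.Lib.Helper12.TCG.Fi24x306936.Tab
import Cfsg.Agent.Lib.Helper12.TC.Fn.Ranges2

/-! relator checks for Fi24x306936, part 17 (generated, helper12) -/

set_option autoImplicit false
set_option maxRecDepth 100000
set_option Elab.async false

namespace Cfsg.Agent.Lib.Helper12.TCG.Fi24x306936

open Cfsg.Agent.Lib.Helper12.TC Cfsg.Agent.Lib.Helper12.TCG

theorem horbc1_6 : Fn.allRangeK (Fn.connP TT sw 1) 143029 25986 = true := by decide +kernel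

theorem hm1_17 : Fn.fixRangeK TT (wpow [0, 2] 2) 81936 12500 = true := by decide +kernel

theorem hm7_17 : Fn.fixRangeK TT (wpow [1, 4] 2) 81936 12500 = true := by decide +kernel

theorem hm12_17 : Fn.fixRangeK TT (wpow [2, 5] 2) 81936 12500 = true := by decide +kernel

theorem hm14_0 : Fn.fixRangeK TT (wpow [4, 5] 3) 298603 8333 = true := by decide +kernel

theorem hm17_17 : Fn.fixRangeK TT (wpow [2, 6] 2) 81936 12500 = true := by decide +kernel

theorem hm22_17 : Fn.fixRangeK TT (wpow [1, 7] 2) 81936 12500 = true := by decide +kernel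

theorem hm26_17 : Fn.fixRangeK TT (wpow [5, 7] 2) 81936 12500 = true := by decide +kernel

theorem hm27_24 : Fn.fixRangeK TT (wpow [6, 7] 3) 98611 8333 = true := by decide +kernel

theorem hm27_36 : Fn.fixRangeK TT (wpow [6, 7] 3) 0 6948 = true := by decide +kernel

theorem hm31_17 : Fn.fixRangeK TT (wpow [3, 8] 2) 81936 12500 = true := by decide +kernel

theorem hm36_17 : Fn.fixRangeK TT (wpow [0, 9] 2) 81936 12500 = true := by decide +kernel

theorem hm40_17 : Fn.fixRangeK TT (wpow [4, 9] 2) 81936 12500 = true := by decide +kernel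

theorem hm45_17 : Fn.fixRangeK TT (wpow [0, 10] 2) 81936 12500 = true := by decide +kernel

theorem hm49_17 : Fn.fixRangeK TT (wpow [4, 10] 2) 81936 12500 = true := by decide +kernel

theorem hm50_12 : Fn.fixRangeK TT (wpow [5, 10] 3) 198607 8333 = true := by decide +kernel

theorem hm54_17 : Fn.fixRangeK TT (wpow [9, 10] 2) 81936 12500 = true := by decide +kernel

theorem hm58_17 : Fn.fixRangeK TT (wpow [3, 11] 2) 81936 12500 = true := by decide +kernel

theorem hm62_17 : Fn.fixRangeK TT (wpow [7, 11] 2) 81936 12500 = true := by decide +kernel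

theorem hm66_111 : Fn.fixRangeK TT (wpow [0, 10, 7, 6, 5, 4, 3, 2, 10, 7, 6, 5, 4, 3, 2, 10, 7, 6, 5, 4, 3, 2, 10, 7, 6, 5, 4, 3, 2, 10, 7, 6, 5, 4, 3, 2, 10, 7, 6, 5, 4, 3, 2, 10, 7, 6, 5, 4, 3, 2, 10, 7, 6, 5, 4, 3, 2, 10, 7, 6, 5, 4, 3, 2] 1) 219464 781 = true := by decide +kernel

theorem hm66_207 : Fn.fixRangeK TT (wpow [0, 10, 7, 6, 5, 4, 3, 2, 10, 7, 6, 5, 4, 3, 2, 10, 7, 6, 5, 4, 3, 2, 10, 7, 6, 5, 4, 3, 2, 10, 7, 6, 5, 4, 3, 2, 10, 7, 6, 5, 4, 3, 2, 10, 7, 6, 5, 4, 3, 2, 10, 7, 6, 5, 4, 3, 2, 10, 7, 6, 5, 4, 3, 2] 1) 144488 781 = true := by decide +kernel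

theorem hm66_303 : Fn.fixRangeK TT (wpow [0, 10, 7, 6, 5, 4, 3, 2, 10, 7, 6, 5, 4, 3, 2, 10, 7, 6, 5, 4, 3, 2, 10, 7, 6, 5, 4, 3, 2, 10, 7, 6, 5, 4, 3, 2, 10, 7, 6, 5, 4, 3, 2, 10, 7, 6, 5, 4, 3, 2, 10, 7, 6, 5, 4, 3, 2, 10, 7, 6, 5, 4, 3, 2] 1) 69512 781 = true := by decide +kernel

theorem hm67_27 : Fn.fixRangeK TT (wpow [13, 5, 4, 3, 2, 1, 0, 5, 6, 7, 8, 9, 5, 10, 11] 1) 213612 3333 = true := by decide +kernel

theorem hm67_66 : Fn.fixRangeK TT (wpow [13, 5, 4, 3, 2, 1, 0, 5, 6, 7, 8, 9, 5, 10, 11] 1) 83625 3333 = true := by decide +kernel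

theorem hm68_36 : Fn.fixRangeK TT (wpow [12] 17) 198119 2941 = true := by decide +kernel

theorem hm72_5 : Fn.fixRangeK TT (wpow [3] 2) 156936 25000 = true := by decide +kernel

theorem hm80_5 : Fn.fixRangeK TT (wpow [11] 2) 156936 25000 = true := by decide +kernel

theorem hperm2_14 : permPartG 18360536419842404880 TT 2 tN 229376 16384 = true := by decide +kernel

theorem hperm8_2 : permPartG 18360536419842404880 TT 8 tN 32768 16384 = true := by decide +kernel

theorem hperm13_8 : permPartG 18360536419842404880 TT 13 tN 131072 16384 = true := by decide +kernel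

end Cfsg.Agent.Lib.Helper12.TCG.Fi24x306936
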