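import Cfsg.Agent.Lib.Helper12.TCG.Fi24x306936.TabT
import Cfsg.Agent.Lib.Helper12.TCG.Fi24x306936.Tab
import Cfsg.Agent.Lib.Helper12.TC.Fn.Ranges2

/-! relator checks for Fi24x306936, part 35 (generated, helper12) -/

set_option autoImplicit false
set_option maxRecDepth 100000
set_option Elab.async false

namespace Cfsg.Agent.Lib.Helper12.TCG.Fi24x306936

open Cfsg.Agent.Lib.Helper12.TC Cfsg.Agent.Lib.Helper12.TCG

theorem hm3_11 : Fn.fixRangeK TT (wpow [0, 3] 2) 156936 12500 = true := by decide +kernel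

theorem hm8_11 : Fn.fixRangeK TT (wpow [2, 4] 2) 156936 12500 = true := by decide +kernel

theorem hm9_18 : Fn.fixRangeK TT (wpow [3, 4] 3) 148609 8333 = true := by decide +kernel

theorem hm13_11 : Fn.fixRangeK TT (wpow [3, 5] 2) 156936 12500 = true := by decide +kernel

theorem hm18_11 : Fn.fixRangeK TT (wpow [3, 6] 2) 156936 12500 = true := by decide +kernel

theorem hm23_11 : Fn.fixRangeK TT (wpow [2, 7] 2) 156936 12500 = true := by decide +kernel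

theorem hm27_6 : Fn.fixRangeK TT (wpow [6, 7] 3) 248605 8333 = true := by decide +kernel

theorem hm28_11 : Fn.fixRangeK TT (wpow [0, 8] 2) 156936 12500 = true := by decide +kernel

theorem hm32_11 : Fn.fixRangeK TT (wpow [4, 8] 2) 156936 12500 = true := by decide +kernel

theorem hm37_11 : Fn.fixRangeK TT (wpow [1, 9] 2) 156936 12500 = true := by decide +kernel

theorem hm41_11 : Fn.fixRangeK TT (wpow [5, 9] 2) 156936 12500 = true := by decide +kernel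

theorem hm44_30 : Fn.fixRangeK TT (wpow [8, 9] 3) 48613 8333 = true := by decide +kernel

theorem hm46_11 : Fn.fixRangeK TT (wpow [1, 10] 2) 156936 12500 = true := by decide +kernel

theorem hm51_11 : Fn.fixRangeK TT (wpow [6, 10] 2) 156936 12500 = true := by decide +kernel

theorem hm55_11 : Fn.fixRangeK TT (wpow [0, 11] 2) 156936 12500 = true := by decide +kernel

theorem hm59_11 : Fn.fixRangeK TT (wpow [4, 11] 2) 156936 12500 = true := by decide +kernel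

theorem hm63_11 : Fn.fixRangeK TT (wpow [8, 11] 2) 156936 12500 = true := by decide +kernel

theorem hm66_3 : Fn.fixRangeK TT (wpow [0, 10, 7, 6, 5, 4, 3, 2, 10, 7, 6, 5, 4, 3, 2, 10, 7, 6, 5, 4, 3, 2, 10, 7, 6, 5, 4, 3, 2, 10, 7, 6, 5, 4, 3, 2, 10, 7, 6, 5, 4, 3, 2, 10, 7, 6, 5, 4, 3, 2, 10, 7, 6, 5, 4, 3, 2, 10, 7, 6, 5, 4, 3, 2] 1) 303812 781 = true := by decide +kernel

theorem hm66_45 : Fn.fixRangeK TT (wpow [0, 10, 7, 6, 5, 4, 3, 2, 10, 7, 6, 5, 4, 3, 2, 10, 7, 6, 5, 4, 3, 2, 10, 7, 6, 5, 4, 3, 2, 10, 7, 6, 5, 4, 3, 2, 10, 7, 6, 5, 4, 3, 2, 10, 7, 6, 5, 4, 3, 2, 10, 7, 6, 5, 4, 3, 2, 10, 7, 6, 5, 4, 3, 2] 1) 271010 781 = true := by decide +kernel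

theorem hm66_141 : Fn.fixRangeK TT (wpow [0, 10, 7, 6, 5, 4, 3, 2, 10, 7, 6, 5, 4, 3, 2, 10, 7, 6, 5, 4, 3, 2, 10, 7, 6, 5, 4, 3, 2, 10, 7, 6, 5, 4, 3, 2, 10, 7, 6, 5, 4, 3, 2, 10, 7, 6, 5, 4, 3, 2, 10, 7, 6, 5, 4, 3, 2, 10, 7, 6, 5, 4, 3, 2] 1) 196034 781 = true := by decide +kernel

theorem hm66_237 : Fn.fixRangeK TT (wpow [0, 10, 7, 6, 5, 4, 3, 2, 10, 7, 6, 5, 4, 3, 2, 10, 7, 6, 5, 4, 3, 2, 10, 7, 6, 5, 4, 3, 2, 10, 7, 6, 5, 4, 3, 2, 10, 7, 6, 5, 4, 3, 2, 10, 7, 6, 5, 4, 3, 2, 10, 7, 6, 5, 4, 3, 2, 10, 7, 6, 5, 4, 3, 2] 1) 121058 781 = true := by decide +kernel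

theorem hm66_333 : Fn.fixRangeK TT (wpow [0, 10, 7, 6, 5, 4, 3, 2, 10, 7, 6, 5, 4, 3, 2, 10, 7, 6, 5, 4, 3, 2, 10, 7, 6, 5, 4, 3, 2, 10, 7, 6, 5, 4, 3, 2, 10, 7, 6, 5, 4, 3, 2, 10, 7, 6, 5, 4, 3, 2, 10, 7, 6, 5, 4, 3, 2, 10, 7, 6, 5, 4, 3, 2] 1) 46082 781 = true := by decide +kernel

theorem hm68_18 : Fn.fixRangeK TT (wpow [12] 17) 251057 2941 = true := by decide +kernel

theorem hm68_66 : Fn.fixRangeK TT (wpow [12] 17) 109889 2941 = true := by decide +kernel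

theorem hm73_11 : Fn.fixRangeK TT (wpow [4] 2) 6936 25000 = true := by decide +kernel

theorem hm81_11 : Fn.fixRangeK TT (wpow [12, 13] 1) 6936 25000 = true := by decide +kernel

theorem hperm3_4 : permPartG 18360536419842404880 TT 3 tN 65536 16384 = true := by decide +kernel

theorem hperm8_10 : permPartG 18360536419842404880 TT 8 tN 163840 16384 = true := by decide +kernel

theorem hperm13_16 : permPartG 18360536419842404880 TT 13 tN 262144 16384 = true := by decide +kernel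

theorem htrans_11 : Fn.allRangeK (Fn.transP TT 14 sw) 208475 29816 = true := by decide +kernel

end Cfsg.Agent.Lib.Helper12.TCG.Fi24x306936
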