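import Cfsg.Agent.Lib.Helper12.TCG.Fi24x306936.TabT
import Cfsg.Agent.Lib.Helper12.TCG.Fi24x306936.Tab
import Cfsg.Agent.Lib.Helper12.TC.Fn.Ranges2

/-! relator checks for Fi24x306936, part 53 (generated, helper12) -/

set_option autoImplicit false
set_option maxRecDepth 100000
set_option Elab.async false

namespace Cfsg.Agent.Lib.Helper12.TCG.Fi24x306936

open Cfsg.Agent.Lib.Helper12.TC Cfsg.Agent.Lib.Helper12.TCG

theorem hm0_17 : Fn.fixRangeK TT (wpow [0, 1] 3) 156942 8333 = true := by decide +kernel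

theorem hm4_5 : Fn.fixRangeK TT (wpow [1, 3] 2) 231936 12500 = true := by decide +kernel

theorem hm5_5 : Fn.fixRangeK TT (wpow [2, 3] 3) 256938 8333 = true := by decide +kernel

theorem hm10_5 : Fn.fixRangeK TT (wpow [0, 5] 2) 231936 12500 = true := by decide +kernel

theorem hm14_29 : Fn.fixRangeK TT (wpow [4, 5] 3) 56946 8333 = true := by decide +kernel

theorem hm15_5 : Fn.fixRangeK TT (wpow [0, 6] 2) 231936 12500 = true := by decide +kernel

theorem hm19_5 : Fn.fixRangeK TT (wpow [4, 6] 2) 231936 12500 = true := by decide +kernel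

theorem hm24_5 : Fn.fixRangeK TT (wpow [3, 7] 2) 231936 12500 = true := by decide +kernel

theorem hm29_5 : Fn.fixRangeK TT (wpow [1, 8] 2) 231936 12500 = true := by decide +kernel

theorem hm33_5 : Fn.fixRangeK TT (wpow [5, 8] 2) 231936 12500 = true := by decide +kernel

theorem hm35_17 : Fn.fixRangeK TT (wpow [7, 8] 3) 156942 8333 = true := by decide +kernel

theorem hm38_5 : Fn.fixRangeK TT (wpow [2, 9] 2) 231936 12500 = true := by decide +kernel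

theorem hm42_5 : Fn.fixRangeK TT (wpow [6, 9] 2) 231936 12500 = true := by decide +kernel

theorem hm47_5 : Fn.fixRangeK TT (wpow [2, 10] 2) 231936 12500 = true := by decide +kernel

theorem hm52_5 : Fn.fixRangeK TT (wpow [7, 10] 2) 231936 12500 = true := by decide +kernel

theorem hm56_5 : Fn.fixRangeK TT (wpow [1, 11] 2) 231936 12500 = true := by decide +kernel

theorem hm60_5 : Fn.fixRangeK TT (wpow [5, 11] 2) 231936 12500 = true := by decide +kernel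

theorem hm64_5 : Fn.fixRangeK TT (wpow [9, 11] 2) 231936 12500 = true := by decide +kernel

theorem hm65_5 : Fn.fixRangeK TT (wpow [10, 11] 3) 256938 8333 = true := by decide +kernel

theorem hm66_21 : Fn.fixRangeK TT (wpow [0, 10, 7, 6, 5, 4, 3, 2, 10, 7, 6, 5, 4, 3, 2, 10, 7, 6, 5, 4, 3, 2, 10, 7, 6, 5, 4, 3, 2, 10, 7, 6, 5, 4, 3, 2, 10, 7, 6, 5, 4, 3, 2, 10, 7, 6, 5, 4, 3, 2, 10, 7, 6, 5, 4, 3, 2, 10, 7, 6, 5, 4, 3, 2] 1) 289754 781 = true := by decide +kernel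

theorem hm66_63 : Fn.fixRangeK TT (wpow [0, 10, 7, 6, 5, 4, 3, 2, 10, 7, 6, 5, 4, 3, 2, 10, 7, 6, 5, 4, 3, 2, 10, 7, 6, 5, 4, 3, 2, 10, 7, 6, 5, 4, 3, 2, 10, 7, 6, 5, 4, 3, 2, 10, 7, 6, 5, 4, 3, 2, 10, 7, 6, 5, 4, 3, 2, 10, 7, 6, 5, 4, 3, 2] 1) 256952 781 = true := by decide +kernel

theorem hm66_159 : Fn.fixRangeK TT (wpow [0, 10, 7, 6, 5, 4, 3, 2, 10, 7, 6, 5, 4, 3, 2, 10, 7, 6, 5, 4, 3, 2, 10, 7, 6, 5, 4, 3, 2, 10, 7, 6, 5, 4, 3, 2, 10, 7, 6, 5, 4, 3, 2, 10, 7, 6, 5, 4, 3, 2, 10, 7, 6, 5, 4, 3, 2, 10, 7, 6, 5, 4, 3, 2] 1) 181976 781 = true := by decide +kernel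

theorem hm66_255 : Fn.fixRangeK TT (wpow [0, 10, 7, 6, 5, 4, 3, 2, 10, 7, 6, 5, 4, 3, 2, 10, 7, 6, 5, 4, 3, 2, 10, 7, 6, 5, 4, 3, 2, 10, 7, 6, 5, 4, 3, 2, 10, 7, 6, 5, 4, 3, 2, 10, 7, 6, 5, 4, 3, 2, 10, 7, 6, 5, 4, 3, 2, 10, 7, 6, 5, 4, 3, 2] 1) 107000 781 = true := by decide +kernel

theorem hm66_351 : Fn.fixRangeK TT (wpow [0, 10, 7, 6, 5, 4, 3, 2, 10, 7, 6, 5, 4, 3, 2, 10, 7, 6, 5, 4, 3, 2, 10, 7, 6, 5, 4, 3, 2, 10, 7, 6, 5, 4, 3, 2, 10, 7, 6, 5, 4, 3, 2, 10, 7, 6, 5, 4, 3, 2, 10, 7, 6, 5, 4, 3, 2, 10, 7, 6, 5, 4, 3, 2] 1) 32024 781 = true := by decide +kernel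

theorem hm68_84 : Fn.fixRangeK TT (wpow [12] 17) 56951 2941 = true := by decide +kernel

theorem hm69_12 : Fn.fixRangeK TT (wpow [0] 2) 0 6936 = true := by decide +kernel

theorem hm75_5 : Fn.fixRangeK TT (wpow [6] 2) 156936 25000 = true := by decide +kernel

theorem hm83_5 : Fn.fixRangeK TT (wpow [] 1) 6936 50000 = true := by decide +kernel

theorem hperm4_4 : permPartG 18360536419842404880 TT 4 tN 65536 16384 = true := by decide +kernel

theorem hperm4_18 : permPartG 18360536419842404880 TT 4 tN 294912 12024 = true := by decide +kernel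

theorem hperm9_10 : permPartG 18360536419842404880 TT 9 tN 163840 16384 = true := by decide +kernel

end Cfsg.Agent.Lib.Helper12.TCG.Fi24x306936
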