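import Cfsg.Agent.Lib.Helper12.TCG.Fi24x306936.TabT
import Cfsg.Agent.Lib.Helper12.TCG.Fi24x306936.Tab
import Cfsg.Agent.Lib.Helper12.TC.Fn.Ranges2

/-! relator checks for Fi24x306936, part 62 (generated, helper12) -/

set_option autoImplicit false
set_option maxRecDepth 100000
set_option Elab.async false

namespace Cfsg.Agent.Lib.Helper12.TCG.Fi24x306936

open Cfsg.Agent.Lib.Helper12.TC Cfsg.Agent.Lib.Helper12.TCG

theorem hm0_26 : Fn.fixRangeK TT (wpow [0, 1] 3) 81945 8333 = true := by decide +kernel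

theorem hm4_14 : Fn.fixRangeK TT (wpow [1, 3] 2) 119436 12500 = true := by decide +kernel

theorem hm5_14 : Fn.fixRangeK TT (wpow [2, 3] 3) 181941 8333 = true := by decide +kernel

theorem hm10_14 : Fn.fixRangeK TT (wpow [0, 5] 2) 119436 12500 = true := by decide +kernel

theorem hm15_14 : Fn.fixRangeK TT (wpow [0, 6] 2) 119436 12500 = true := by decide +kernel

theorem hm19_14 : Fn.fixRangeK TT (wpow [4, 6] 2) 119436 12500 = true := by decide +kernel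

theorem hm20_2 : Fn.fixRangeK TT (wpow [5, 6] 3) 281937 8333 = true := by decide +kernel

theorem hm24_14 : Fn.fixRangeK TT (wpow [3, 7] 2) 119436 12500 = true := by decide +kernel

theorem hm29_14 : Fn.fixRangeK TT (wpow [1, 8] 2) 119436 12500 = true := by decide +kernel

theorem hm33_14 : Fn.fixRangeK TT (wpow [5, 8] 2) 119436 12500 = true := by decide +kernel

theorem hm35_26 : Fn.fixRangeK TT (wpow [7, 8] 3) 81945 8333 = true := by decide +kernel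

theorem hm38_14 : Fn.fixRangeK TT (wpow [2, 9] 2) 119436 12500 = true := by decide +kernel

theorem hm42_14 : Fn.fixRangeK TT (wpow [6, 9] 2) 119436 12500 = true := by decide +kernel

theorem hm47_14 : Fn.fixRangeK TT (wpow [2, 10] 2) 119436 12500 = true := by decide +kernel

theorem hm52_14 : Fn.fixRangeK TT (wpow [7, 10] 2) 119436 12500 = true := by decide +kernel

theorem hm56_14 : Fn.fixRangeK TT (wpow [1, 11] 2) 119436 12500 = true := by decide +kernel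

theorem hm60_14 : Fn.fixRangeK TT (wpow [5, 11] 2) 119436 12500 = true := by decide +kernel

theorem hm64_14 : Fn.fixRangeK TT (wpow [9, 11] 2) 119436 12500 = true := by decide +kernel

theorem hm65_14 : Fn.fixRangeK TT (wpow [10, 11] 3) 181941 8333 = true := by decide +kernel

theorem hm66_30 : Fn.fixRangeK TT (wpow [0, 10, 7, 6, 5, 4, 3, 2, 10, 7, 6, 5, 4, 3, 2, 10, 7, 6, 5, 4, 3, 2, 10, 7, 6, 5, 4, 3, 2, 10, 7, 6, 5, 4, 3, 2, 10, 7, 6, 5, 4, 3, 2, 10, 7, 6, 5, 4, 3, 2, 10, 7, 6, 5, 4, 3, 2, 10, 7, 6, 5, 4, 3, 2] 1) 282725 781 = true := by decide +kernel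

theorem hm66_72 : Fn.fixRangeK TT (wpow [0, 10, 7, 6, 5, 4, 3, 2, 10, 7, 6, 5, 4, 3, 2, 10, 7, 6, 5, 4, 3, 2, 10, 7, 6, 5, 4, 3, 2, 10, 7, 6, 5, 4, 3, 2, 10, 7, 6, 5, 4, 3, 2, 10, 7, 6, 5, 4, 3, 2, 10, 7, 6, 5, 4, 3, 2, 10, 7, 6, 5, 4, 3, 2] 1) 249923 781 = true := by decide +kernel

theorem hm66_168 : Fn.fixRangeK TT (wpow [0, 10, 7, 6, 5, 4, 3, 2, 10, 7, 6, 5, 4, 3, 2, 10, 7, 6, 5, 4, 3, 2, 10, 7, 6, 5, 4, 3, 2, 10, 7, 6, 5, 4, 3, 2, 10, 7, 6, 5, 4, 3, 2, 10, 7, 6, 5, 4, 3, 2, 10, 7, 6, 5, 4, 3, 2, 10, 7, 6, 5, 4, 3, 2] 1) 174947 781 = true := by decide +kernel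

theorem hm66_264 : Fn.fixRangeK TT (wpow [0, 10, 7, 6, 5, 4, 3, 2, 10, 7, 6, 5, 4, 3, 2, 10, 7, 6, 5, 4, 3, 2, 10, 7, 6, 5, 4, 3, 2, 10, 7, 6, 5, 4, 3, 2, 10, 7, 6, 5, 4, 3, 2, 10, 7, 6, 5, 4, 3, 2, 10, 7, 6, 5, 4, 3, 2, 10, 7, 6, 5, 4, 3, 2] 1) 99971 781 = true := by decide +kernel

theorem hm66_360 : Fn.fixRangeK TT (wpow [0, 10, 7, 6, 5, 4, 3, 2, 10, 7, 6, 5, 4, 3, 2, 10, 7, 6, 5, 4, 3, 2, 10, 7, 6, 5, 4, 3, 2, 10, 7, 6, 5, 4, 3, 2, 10, 7, 6, 5, 4, 3, 2, 10, 7, 6, 5, 4, 3, 2, 10, 7, 6, 5, 4, 3, 2, 10, 7, 6, 5, 4, 3, 2] 1) 24995 781 = true := by decide +kernel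

theorem hm68_93 : Fn.fixRangeK TT (wpow [12] 17) 30482 2941 = true := by decide +kernel

theorem hm76_2 : Fn.fixRangeK TT (wpow [7] 2) 231936 25000 = true := by decide +kernel

theorem hm78_12 : Fn.fixRangeK TT (wpow [9] 2) 0 6936 = true := by decide +kernel

theorem horbi1_1_3 : Fn.allRangeK (Fn.invP TT [3] 1 275265) 150001 50000 = true := by decide +kernel

theorem hperm4_13 : permPartG 18360536419842404880 TT 4 tN 212992 16384 = true := by decide +kernel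

theorem hperm10_1 : permPartG 18360536419842404880 TT 10 tN 16384 16384 = true := by decide +kernel

theorem hperm13_18 : permPartG 18360536419842404880 TT 13 tN 294912 12024 = true := by decide +kernel

end Cfsg.Agent.Lib.Helper12.TCG.Fi24x306936
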