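import Cfsg.Agent.Lib.Helper12.TCG.Fi24x306936.TabT
import Cfsg.Agent.Lib.Helper12.TCG.Fi24x306936.Tab
import Cfsg.Agent.Lib.Helper12.TC.Fn.Ranges2

/-! relator checks for Fi24x306936, part 71 (generated, helper12) -/

set_option autoImplicit false
set_option maxRecDepth 100000
set_option Elab.async false

namespace Cfsg.Agent.Lib.Helper12.TCG.Fi24x306936

open Cfsg.Agent.Lib.Helper12.TC Cfsg.Agent.Lib.Helper12.TCG

theorem hm0_35 : Fn.fixRangeK TT (wpow [0, 1] 3) 6948 8333 = true := by decide +kernel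

theorem hm4_23 : Fn.fixRangeK TT (wpow [1, 3] 2) 6936 12500 = true := by decide +kernel

theorem hm5_23 : Fn.fixRangeK TT (wpow [2, 3] 3) 106944 8333 = true := by decide +kernel

theorem hm10_23 : Fn.fixRangeK TT (wpow [0, 5] 2) 6936 12500 = true := by decide +kernel

theorem hm12_24 : Fn.fixRangeK TT (wpow [2, 5] 2) 0 6936 = true := by decide +kernel

theorem hm15_23 : Fn.fixRangeK TT (wpow [0, 6] 2) 6936 12500 = true := by decide +kernel

theorem hm19_23 : Fn.fixRangeK TT (wpow [4, 6] 2) 6936 12500 = true := by decide +kernel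

theorem hm20_11 : Fn.fixRangeK TT (wpow [5, 6] 3) 206940 8333 = true := by decide +kernel

theorem hm24_23 : Fn.fixRangeK TT (wpow [3, 7] 2) 6936 12500 = true := by decide +kernel

theorem hm29_23 : Fn.fixRangeK TT (wpow [1, 8] 2) 6936 12500 = true := by decide +kernel

theorem hm33_23 : Fn.fixRangeK TT (wpow [5, 8] 2) 6936 12500 = true := by decide +kernel

theorem hm35_35 : Fn.fixRangeK TT (wpow [7, 8] 3) 6948 8333 = true := by decide +kernel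

theorem hm38_23 : Fn.fixRangeK TT (wpow [2, 9] 2) 6936 12500 = true := by decide +kernel

theorem hm42_23 : Fn.fixRangeK TT (wpow [6, 9] 2) 6936 12500 = true := by decide +kernel

theorem hm47_23 : Fn.fixRangeK TT (wpow [2, 10] 2) 6936 12500 = true := by decide +kernel

theorem hm49_24 : Fn.fixRangeK TT (wpow [4, 10] 2) 0 6936 = true := by decide +kernel

theorem hm52_23 : Fn.fixRangeK TT (wpow [7, 10] 2) 6936 12500 = true := by decide +kernel

theorem hm56_23 : Fn.fixRangeK TT (wpow [1, 11] 2) 6936 12500 = true := by decide +kernel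

theorem hm60_23 : Fn.fixRangeK TT (wpow [5, 11] 2) 6936 12500 = true := by decide +kernel

theorem hm64_23 : Fn.fixRangeK TT (wpow [9, 11] 2) 6936 12500 = true := by decide +kernel

theorem hm65_23 : Fn.fixRangeK TT (wpow [10, 11] 3) 106944 8333 = true := by decide +kernel

theorem hm66_39 : Fn.fixRangeK TT (wpow [0, 10, 7, 6, 5, 4, 3, 2, 10, 7, 6, 5, 4, 3, 2, 10, 7, 6, 5, 4, 3, 2, 10, 7, 6, 5, 4, 3, 2, 10, 7, 6, 5, 4, 3, 2, 10, 7, 6, 5, 4, 3, 2, 10, 7, 6, 5, 4, 3, 2, 10, 7, 6, 5, 4, 3, 2, 10, 7, 6, 5, 4, 3, 2] 1) 275696 781 = true := by decide +kernel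

theorem hm66_81 : Fn.fixRangeK TT (wpow [0, 10, 7, 6, 5, 4, 3, 2, 10, 7, 6, 5, 4, 3, 2, 10, 7, 6, 5, 4, 3, 2, 10, 7, 6, 5, 4, 3, 2, 10, 7, 6, 5, 4, 3, 2, 10, 7, 6, 5, 4, 3, 2, 10, 7, 6, 5, 4, 3, 2, 10, 7, 6, 5, 4, 3, 2, 10, 7, 6, 5, 4, 3, 2] 1) 242894 781 = true := by decide +kernel

theorem hm66_177 : Fn.fixRangeK TT (wpow [0, 10, 7, 6, 5, 4, 3, 2, 10, 7, 6, 5, 4, 3, 2, 10, 7, 6, 5, 4, 3, 2, 10, 7, 6, 5, 4, 3, 2, 10, 7, 6, 5, 4, 3, 2, 10, 7, 6, 5, 4, 3, 2, 10, 7, 6, 5, 4, 3, 2, 10, 7, 6, 5, 4, 3, 2, 10, 7, 6, 5, 4, 3, 2] 1) 167918 781 = true := by decide +kernel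

theorem hm66_273 : Fn.fixRangeK TT (wpow [0, 10, 7, 6, 5, 4, 3, 2, 10, 7, 6, 5, 4, 3, 2, 10, 7, 6, 5, 4, 3, 2, 10, 7, 6, 5, 4, 3, 2, 10, 7, 6, 5, 4, 3, 2, 10, 7, 6, 5, 4, 3, 2, 10, 7, 6, 5, 4, 3, 2, 10, 7, 6, 5, 4, 3, 2, 10, 7, 6, 5, 4, 3, 2] 1) 92942 781 = true := by decide +kernel

theorem hm66_369 : Fn.fixRangeK TT (wpow [0, 10, 7, 6, 5, 4, 3, 2, 10, 7, 6, 5, 4, 3, 2, 10, 7, 6, 5, 4, 3, 2, 10, 7, 6, 5, 4, 3, 2, 10, 7, 6, 5, 4, 3, 2, 10, 7, 6, 5, 4, 3, 2, 10, 7, 6, 5, 4, 3, 2, 10, 7, 6, 5, 4, 3, 2, 10, 7, 6, 5, 4, 3, 2] 1) 17966 781 = true := by decide +kernel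

theorem hm68_102 : Fn.fixRangeK TT (wpow [12] 17) 4013 2941 = true := by decide +kernel

theorem hm76_11 : Fn.fixRangeK TT (wpow [7] 2) 6936 25000 = true := by decide +kernel

theorem horbi1_3_2 : Fn.allRangeK (Fn.invP TT [5] 1 275265) 100001 50000 = true := by decide +kernel

theorem hperm5_4 : permPartG 18360536419842404880 TT 5 tN 65536 16384 = true := by decide +kernel

theorem hperm10_10 : permPartG 18360536419842404880 TT 10 tN 163840 16384 = true := by decide +kernel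

end Cfsg.Agent.Lib.Helper12.TCG.Fi24x306936
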