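import Cfsg.Agent.Lib.Helper12.TCG.Fi24x306936.TabT
import Cfsg.Agent.Lib.Helper12.TCG.Fi24x306936.Tab
import Cfsg.Agent.Lib.Helper12.TC.Fn.Ranges2

/-! relator checks for Fi24x306936, part 80 (generated, helper12) -/

set_option autoImplicit false
set_option maxRecDepth 100000
set_option Elab.async false

namespace Cfsg.Agent.Lib.Helper12.TCG.Fi24x306936

open Cfsg.Agent.Lib.Helper12.TC Cfsg.Agent.Lib.Helper12.TCG

theorem hm2_8 : Fn.fixRangeK TT (wpow [1, 2] 3) 231939 8333 = true := by decide +kernel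

theorem hm5_32 : Fn.fixRangeK TT (wpow [2, 3] 3) 31947 8333 = true := by decide +kernel

theorem hm6_8 : Fn.fixRangeK TT (wpow [0, 4] 2) 194436 12500 = true := by decide +kernel

theorem hm11_8 : Fn.fixRangeK TT (wpow [1, 5] 2) 194436 12500 = true := by decide +kernel

theorem hm16_8 : Fn.fixRangeK TT (wpow [1, 6] 2) 194436 12500 = true := by decide +kernel

theorem hm20_20 : Fn.fixRangeK TT (wpow [5, 6] 3) 131943 8333 = true := by decide +kernel

theorem hm21_8 : Fn.fixRangeK TT (wpow [0, 7] 2) 194436 12500 = true := by decide +kernel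

theorem hm23_24 : Fn.fixRangeK TT (wpow [2, 7] 2) 0 6936 = true := by decide +kernel

theorem hm25_8 : Fn.fixRangeK TT (wpow [4, 7] 2) 194436 12500 = true := by decide +kernel

theorem hm30_8 : Fn.fixRangeK TT (wpow [2, 8] 2) 194436 12500 = true := by decide +kernel

theorem hm34_8 : Fn.fixRangeK TT (wpow [6, 8] 2) 194436 12500 = true := by decide +kernel

theorem hm39_8 : Fn.fixRangeK TT (wpow [3, 9] 2) 194436 12500 = true := by decide +kernel

theorem hm43_8 : Fn.fixRangeK TT (wpow [7, 9] 2) 194436 12500 = true := by decide +kernel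

theorem hm44_8 : Fn.fixRangeK TT (wpow [8, 9] 3) 231939 8333 = true := by decide +kernel

theorem hm48_8 : Fn.fixRangeK TT (wpow [3, 10] 2) 194436 12500 = true := by decide +kernel

theorem hm53_8 : Fn.fixRangeK TT (wpow [8, 10] 2) 194436 12500 = true := by decide +kernel

theorem hm57_8 : Fn.fixRangeK TT (wpow [2, 11] 2) 194436 12500 = true := by decide +kernel

theorem hm59_24 : Fn.fixRangeK TT (wpow [4, 11] 2) 0 6936 = true := by decide +kernel

theorem hm61_8 : Fn.fixRangeK TT (wpow [6, 11] 2) 194436 12500 = true := by decide +kernel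

theorem hm65_32 : Fn.fixRangeK TT (wpow [10, 11] 3) 31947 8333 = true := by decide +kernel

theorem hm66_90 : Fn.fixRangeK TT (wpow [0, 10, 7, 6, 5, 4, 3, 2, 10, 7, 6, 5, 4, 3, 2, 10, 7, 6, 5, 4, 3, 2, 10, 7, 6, 5, 4, 3, 2, 10, 7, 6, 5, 4, 3, 2, 10, 7, 6, 5, 4, 3, 2, 10, 7, 6, 5, 4, 3, 2, 10, 7, 6, 5, 4, 3, 2, 10, 7, 6, 5, 4, 3, 2] 1) 235865 781 = true := by decide +kernel

theorem hm66_186 : Fn.fixRangeK TT (wpow [0, 10, 7, 6, 5, 4, 3, 2, 10, 7, 6, 5, 4, 3, 2, 10, 7, 6, 5, 4, 3, 2, 10, 7, 6, 5, 4, 3, 2, 10, 7, 6, 5, 4, 3, 2, 10, 7, 6, 5, 4, 3, 2, 10, 7, 6, 5, 4, 3, 2, 10, 7, 6, 5, 4, 3, 2, 10, 7, 6, 5, 4, 3, 2] 1) 160889 781 = true := by decide +kernel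

theorem hm66_282 : Fn.fixRangeK TT (wpow [0, 10, 7, 6, 5, 4, 3, 2, 10, 7, 6, 5, 4, 3, 2, 10, 7, 6, 5, 4, 3, 2, 10, 7, 6, 5, 4, 3, 2, 10, 7, 6, 5, 4, 3, 2, 10, 7, 6, 5, 4, 3, 2, 10, 7, 6, 5, 4, 3, 2, 10, 7, 6, 5, 4, 3, 2, 10, 7, 6, 5, 4, 3, 2] 1) 85913 781 = true := by decide +kernel

theorem hm66_378 : Fn.fixRangeK TT (wpow [0, 10, 7, 6, 5, 4, 3, 2, 10, 7, 6, 5, 4, 3, 2, 10, 7, 6, 5, 4, 3, 2, 10, 7, 6, 5, 4, 3, 2, 10, 7, 6, 5, 4, 3, 2, 10, 7, 6, 5, 4, 3, 2, 10, 7, 6, 5, 4, 3, 2, 10, 7, 6, 5, 4, 3, 2, 10, 7, 6, 5, 4, 3, 2] 1) 10937 781 = true := by decide +kernel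

theorem hm67_6 : Fn.fixRangeK TT (wpow [13, 5, 4, 3, 2, 1, 0, 5, 6, 7, 8, 9, 5, 10, 11] 1) 283605 3333 = true := by decide +kernel

theorem hm67_45 : Fn.fixRangeK TT (wpow [13, 5, 4, 3, 2, 1, 0, 5, 6, 7, 8, 9, 5, 10, 11] 1) 153618 3333 = true := by decide +kernel

theorem hm69_8 : Fn.fixRangeK TT (wpow [0] 2) 81936 25000 = true := by decide +kernel

theorem hm77_8 : Fn.fixRangeK TT (wpow [8] 2) 81936 25000 = true := by decide +kernel

theorem horbi1_5_1 : Fn.allRangeK (Fn.invP TT [7] 1 275265) 50001 50000 = true := by decide +kernel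

theorem hperm5_13 : permPartG 18360536419842404880 TT 5 tN 212992 16384 = true := by decide +kernel

theorem hperm11_1 : permPartG 18360536419842404880 TT 11 tN 16384 16384 = true := by decide +kernel

end Cfsg.Agent.Lib.Helper12.TCG.Fi24x306936
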