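import Cfsg.Agent.Lib.Helper12.TCG.Fi24x306936.TabTA0
import Cfsg.Agent.Lib.Helper12.TCG.Fi24x306936.TabTA1
import Cfsg.Agent.Lib.Helper12.TCG.Fi24x306936.TabTA2
import Cfsg.Agent.Lib.Helper12.TCG.Fi24x306936.TabTA3

/-! certificate data for Fi24x306936: the table of the permutation representation (generated, helper12) -/

set_option autoImplicit false
set_option maxRecDepth 100000

namespace Cfsg.Agent.Lib.Helper12.TCG.Fi24x306936

open Cfsg.Agent.Lib.Helper12.TC Cfsg.Agent.Lib.Helper12.TCG

/-- the tree of the table -/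
noncomputable def TR : Tr := .node 1792 (.node 843 TR0 TR1) (.node 2635 TR2 TR3)

/-- the table -/
noncomputable def TT : ℕ → ℕ → ℕ := tabT20b TR

/-- the number of points -/
def tN : ℕ := 306936

end Cfsg.Agent.Lib.Helper12.TCG.Fi24x306936
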